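import Cfsg.Agent.Lib.Components.GenFitting
import Cfsg.Agent.Lib.Coprime.Action

/-!
`p`-components and the `p`-layer.
-/

set_option autoImplicit false
set_option linter.style.haveILetI false
set_option linter.unusedSectionVars false

namespace CfsgLib.Components

open Subgroup CfsgLib.Solvable

variable {G : Type*} [Group G]

/-- The subgroup generated by the `p`-elements lying in `H`. -/
def pGen (p : ℕ) (H : Subgroup G) : Subgroup G :=
  closure {x : G | x ∈ H ∧ ∃ k : ℕ, x ^ p ^ k = 1}

theorem pGen_le (p : ℕ) (H : Subgroup G) : pGen p H ≤ H :=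
  (closure_le _).mpr fun _ hx => hx.1

theorem le_normalizer_pGen (p : ℕ) (H : Subgroup G) :
    normalizer (H : Set G) ≤ normalizer (pGen p H : Set G) := by
  intro g hg
  rw [mem_normalizer_iff_map_conj_eq] at hg ⊢
  rw [pGen, MonoidHom.map_closure]
  congr 1
  ext x
  constructor
  · rintro ⟨y, ⟨hy, k, hk⟩, rfl⟩
    exact ⟨hg ▸ mem_map_of_mem _ hy, k, by rw [← map_pow, hk, map_one]⟩
  · rintro ⟨hx, k, hk⟩
    rw [← hg] at hx
    obtain ⟨y, hy, rfl⟩ := hx
    exact ⟨y, ⟨hy, k, (MulAut.conj g).injective (by simpa [map_pow] using hk)⟩, rfl⟩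

section Finite
variable [Finite G] {p : ℕ} [hp : Fact p.Prime]

omit [Finite G] in
theorem mem_of_coprime_pows {N : Subgroup G} {x : G} {m n : ℕ} (h : Nat.Coprime m n)
    (hm : x ^ m ∈ N) (hn : x ^ n ∈ N) : x ∈ N := by
  have e := Nat.gcd_eq_gcd_ab m n
  rw [h] at e
  have : x ^ ((1 : ℕ) : ℤ) ∈ N := by
    rw [e, zpow_add, zpow_mul, zpow_mul, zpow_natCast, zpow_natCast]
    exact mul_mem (zpow_mem hm _) (zpow_mem hn _)
  simpa using this

/-- A subnormal subgroup of index prime to `p` contains every `p`-element. -/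
theorem pow_prime_mem_of_subnormal {K : Subgroup G} (hK : K.IsSubnormal)
    (hidx : K.index.Coprime p) {x : G} {k : ℕ} (hx : x ^ p ^ k = 1) : x ∈ K := by
  induction hK with
  | top => exact mem_top x
  | step H M hle _ hn ih =>
    have hM : M.index.Coprime p := hidx.coprime_dvd_left (index_dvd_of_le hle)
    have hxM := ih hM
    have hr : (H.relIndex M).Coprime p :=
      hidx.coprime_dvd_left (Dvd.intro M.index (relIndex_mul_index hle))
    have h1 : (⟨x, hxM⟩ : M) ^ H.relIndex M ∈ H.subgroupOf M :=
      pow_index_mem (H.subgroupOf M) _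
    refine mem_of_coprime_pows (hr.pow_right k) ?_ (hx.symm ▸ one_mem H)
    exact h1

/-- The `p'`-core of a subnormal subgroup lies in the `p'`-core. -/
theorem pPrimeCore_map_subtype_le {K : Subgroup G} (hK : K.IsSubnormal) :
    (Cfsg.pPrimeCore p ↥K).map K.subtype ≤ Cfsg.pPrimeCore p G := by
  induction hK with
  | top =>
    haveI : ((Cfsg.pPrimeCore p ↥(⊤ : Subgroup G)).map (⊤ : Subgroup G).subtype).Normal :=
      inferInstance
    refine Cores.le_pPrimeCore ?_
    rw [card_map_of_injective (subtype_injective _)]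
    exact Cores.coprime_card_pPrimeCore p
  | step K K' hle _ hn ih =>
    refine le_trans ?_ ih
    set F := (Cfsg.pPrimeCore p ↥K).map K.subtype with hF
    have hFK' : F ≤ K' := (map_subtype_le _).trans hle
    haveI hnorm : (F.subgroupOf K').Normal := by
      rw [normal_subgroupOf_iff_le_normalizer hFK']
      intro g hg
      exact map_subtype_normal_of_characteristic
        ((normal_subgroupOf_iff_le_normalizer hle).mp hn hg)
    have hcard : (Nat.card ↥(F.subgroupOf K')).Coprime p := by
      rw [Nat.card_congr (subgroupOfEquivOfLe hFK').toEquiv, hF,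
        card_map_of_injective (subtype_injective _)]
      exact Cores.coprime_card_pPrimeCore p
    have h2 := map_mono (f := K'.subtype) (Cores.le_pPrimeCore hcard)
    rwa [map_subgroupOf_eq_of_le hFK'] at h2

/-- `O_{p'}(H) = O_{p'}(G) ∩ H` for a subnormal subgroup `H`. -/
theorem pPrimeCore_map_subtype_eq {H : Subgroup G} (hH : H.IsSubnormal) :
    (Cfsg.pPrimeCore p ↥H).map H.subtype = Cfsg.pPrimeCore p G ⊓ H := by
  refine le_antisymm (le_inf (pPrimeCore_map_subtype_le hH) (map_subtype_le _)) ?_
  have h1 : (Cfsg.pPrimeCore p G).subgroupOf H ≤ Cfsg.pPrimeCore p ↥H := by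
    refine Cores.le_pPrimeCore ?_
    refine (Cores.coprime_card_pPrimeCore (G := G) p).coprime_dvd_left ?_
    rw [← card_map_of_injective (subtype_injective H), subgroupOf_map_subtype]
    exact card_dvd_of_le inf_le_left
  have h2 := map_mono (f := H.subtype) h1
  rwa [subgroupOf_map_subtype] at h2

theorem mem_pPrimeCore_subgroup_iff {H : Subgroup G} (hH : H.IsSubnormal) (x : H) :
    x ∈ Cfsg.pPrimeCore p ↥H ↔ (x : G) ∈ Cfsg.pPrimeCore p G := by
  constructor
  · exact fun h => pPrimeCore_map_subtype_le hH ⟨x, h, rfl⟩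
  · intro h
    obtain ⟨y, hy, hyx⟩ := (pPrimeCore_map_subtype_eq (p := p) hH).ge ⟨h, x.2⟩
    rwa [Subtype.ext hyx] at hy

/-- A subnormal `p'`-subgroup lies in the `p'`-core. -/
theorem le_pPrimeCore_of_subnormal {H : Subgroup G} (hH : H.IsSubnormal)
    (hc : (Nat.card H).Coprime p) : H ≤ Cfsg.pPrimeCore p G := by
  have h : (⊤ : Subgroup H) ≤ Cfsg.pPrimeCore p ↥H :=
    Cores.le_pPrimeCore (by rwa [Subgroup.card_top])
  exact fun x hx => (mem_pPrimeCore_subgroup_iff hH ⟨x, hx⟩).mp (h (mem_top _))

theorem pPrimeCore_quotient_eq_bot :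
    Cfsg.pPrimeCore p (G ⧸ Cfsg.pPrimeCore p G) = ⊥ := by
  set O := Cfsg.pPrimeCore p G
  set N := (Cfsg.pPrimeCore p (G ⧸ O)).comap (QuotientGroup.mk' O) with hN
  have hcard : (Nat.card N).Coprime p := by
    rw [hN, Basic.card_comap_mk]
    exact (Cores.coprime_card_pPrimeCore p).mul_left (Cores.coprime_card_pPrimeCore p)
  have h : N ≤ O := Cores.le_pPrimeCore hcard
  rw [eq_bot_iff]
  intro x hx
  obtain ⟨y, rfl⟩ := QuotientGroup.mk_surjective x
  rw [mem_bot, QuotientGroup.eq_one_iff]
  exact h hx

theorem component_dvd_card_of_pPrimeCore_eq_bot (h : Cfsg.pPrimeCore p G = ⊥) {L : Subgroup G}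
    (hL : Cfsg.IsComponent L) : p ∣ Nat.card L := by
  by_contra hd
  exact IsComponent.ne_bot hL (le_bot_iff.mp
    (h ▸ le_pPrimeCore_of_subnormal hL.1 ((hp.out.coprime_iff_not_dvd.mpr hd).symm)))

/-- A quasisimple group of order divisible by `p` has no proper normal subgroup of `p'`-index. -/
theorem eq_top_of_index_coprime_quasisimple {H : Type*} [Group H] [Finite H]
    (hq : Cfsg.IsQuasisimple H) (hdvd : p ∣ Nat.card H) (N : Subgroup H) [N.Normal]
    (hidx : N.index.Coprime p) : N = ⊤ := by
  rcases IsQuasisimple.normal_le_center_or_top hq N with h | h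
  · exfalso
    obtain ⟨P⟩ : Nonempty (Sylow p H) := inferInstance
    have hPN : ∀ x ∈ (P : Subgroup H), x ∈ N := fun x hx => by
      obtain ⟨k, hk⟩ := P.2 ⟨x, hx⟩
      exact pow_prime_mem_of_subnormal (Normal.isSubnormal ‹N.Normal›) hidx
        (k := k) (congrArg Subtype.val hk)
    have hPc : (P : Subgroup H) ≤ center H := fun x hx => h (hPN x hx)
    haveI : (P : Subgroup H).Normal := ⟨fun x hx g => by
      rw [mem_center_iff.mp (hPc hx) g, mul_inv_cancel_right]; exact hx⟩
    obtain ⟨C, hC⟩ := exists_right_complement'_of_coprime (N := (P : Subgroup H)) P.card_coprime_index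
    haveI := hq.1
    have hsup : C ⊔ center H = ⊤ := by
      rw [eq_top_iff, ← hC.sup_eq_top]
      exact sup_le (hPc.trans le_sup_right) le_sup_left
    have hCt := eq_top_of_sup_center_of_perfect hsup
    subst hCt
    have hd := hC.disjoint
    rw [disjoint_top] at hd
    exact P.ne_bot_of_dvd_card hdvd hd
  · exact h

/-- A subgroup equal to its `p`-generated part has no proper normal subgroup of `p'`-index. -/
theorem pGen_self_of_no_pPrime_quotient {K : Subgroup G}
    (h : ∀ N : Subgroup K, N.Normal → N.index.Coprime p → N = ⊤) : pGen p K = K := by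
  refine le_antisymm (pGen_le p K) ?_
  haveI hn : ((pGen p K).subgroupOf K).Normal :=
    (normal_subgroupOf_iff_le_normalizer (pGen_le p K)).mpr
      (Subgroup.le_normalizer.trans (le_normalizer_pGen p K))
  refine subgroupOf_eq_top.mp (h _ hn ?_)
  obtain ⟨P⟩ : Nonempty (Sylow p K) := inferInstance
  have hP : (P : Subgroup K) ≤ (pGen p K).subgroupOf K := fun x hx => by
    obtain ⟨k, hk⟩ := P.2 ⟨x, hx⟩
    exact subset_closure ⟨x.2, k, by simpa using congrArg (fun y : (P : Subgroup K) => ((y : K) : G)) hk⟩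
  exact ((hp.out.coprime_iff_not_dvd.mpr P.not_dvd_index).symm).coprime_dvd_left
    (index_dvd_of_le hP)

end Finite

/-! ### p-components -/

section PComp
variable [Finite G] {p : ℕ} [hp : Fact p.Prime]

local notation "q" => QuotientGroup.mk' (Cfsg.pPrimeCore p G)

theorem IsPComponent.isPerfect {K : Subgroup G} (hK : Cfsg.IsPComponent p K) :
    Group.IsPerfect K := by
  rw [Subgroup.isPerfect_iff]
  refine hK.2.2 _ (IsSubnormal.of_normal_le hK.1 (Subgroup.commutator_le_self K)
    (normalizer_commutator_ge_left K K)) (Subgroup.commutator_le_self K) ?_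
  rw [map_commutator, IsComponent.commutator_self hK.2.1]

theorem component_quotient_dvd_card {Kb : Subgroup (G ⧸ Cfsg.pPrimeCore p G)}
    (hKb : Cfsg.IsComponent Kb) : p ∣ Nat.card Kb :=
  component_dvd_card_of_pPrimeCore_eq_bot pPrimeCore_quotient_eq_bot hKb

theorem IsPComponent.dvd_card {K : Subgroup G} (hK : Cfsg.IsPComponent p K) :
    p ∣ Nat.card K :=
  (component_quotient_dvd_card hK.2.1).trans (card_map_dvd K _)

/-- A `p`-component has no proper normal subgroup of index prime to `p`. -/
theorem IsPComponent.no_pPrime_quotient {K : Subgroup G} (hK : Cfsg.IsPComponent p K)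
    (N : Subgroup K) (hN : N.Normal) (hidx : N.index.Coprime p) : N = ⊤ := by
  have hq := hK.2.1.2
  let φ : K →* ↥(K.map q) := (q).subgroupMap K
  have hφ : Function.Surjective φ := (q).subgroupMap_surjective K
  haveI : (N.map φ).Normal := hN.map φ hφ
  have htop : N.map φ = ⊤ := eq_top_of_index_coprime_quasisimple hq
    (component_quotient_dvd_card hK.2.1) _ (hidx.coprime_dvd_left (N.index_map_dvd hφ))
  have hmap : (N.map K.subtype).map q = K.map q := by
    have h := congrArg (Subgroup.map (K.map q).subtype) htop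
    rw [map_map, ← MonoidHom.range_eq_map, range_subtype] at h
    rw [map_map]
    exact h
  have := hK.2.2 _ (IsSubnormal.map_subtype_normal hK.1 hN) (map_subtype_le _) hmap
  rw [← subgroupOf_map_subtype_eq N, this, subgroupOf_self]

/-- A subnormal `H` covering a component `Kb` of `G/O_{p'}` and having no `p'`-quotient is
generated by the `p`-elements of the preimage of `Kb`. -/
theorem eq_pGen_of_no_pPrime_quotient {H : Subgroup G} (hH : H.IsSubnormal)
    (h : ∀ N : Subgroup H, N.Normal → N.index.Coprime p → N = ⊤) :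
    H = pGen p ((H.map q).comap q) := by
  set H0 := (H.map q).comap q with hH0
  have hle : H ≤ H0 := le_comap_map _ _
  apply le_antisymm
  · conv_lhs => rw [← pGen_self_of_no_pPrime_quotient h]
    exact closure_mono fun x hx => ⟨hle hx.1, hx.2⟩
  · refine (closure_le _).mpr ?_
    rintro x ⟨hx, k, hk⟩
    have hidx : (H.subgroupOf H0).index.Coprime p := by
      have e : H0 = H ⊔ Cfsg.pPrimeCore p G := by
        rw [hH0, comap_map_eq, QuotientGroup.ker_mk']
      have h1 : H.relIndex H0 ∣ Nat.card (Cfsg.pPrimeCore p G) := by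
        have h2 := Basic.card_sup_mul (Cfsg.pPrimeCore p G) H
        have h3 := Coprime.card_mul_relIndex' hle
        rw [← e] at h2
        refine ⟨Nat.card ↥(Cfsg.pPrimeCore p G ⊓ H : Subgroup G), ?_⟩
        apply Nat.eq_of_mul_eq_mul_left (n := Nat.card H) Nat.card_pos
        rw [← mul_assoc, h3, h2]
      exact (Cores.coprime_card_pPrimeCore (G := G) p).coprime_dvd_left h1
    exact pow_prime_mem_of_subnormal (hH.subgroupOf (K := H0)) hidx
      (x := ⟨x, hx⟩) (k := k) (Subtype.ext (by simpa using hk))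

theorem IsPComponent.eq_pGen {K : Subgroup G} (hK : Cfsg.IsPComponent p K) :
    K = pGen p ((K.map q).comap q) :=
  eq_pGen_of_no_pPrime_quotient hK.1 (IsPComponent.no_pPrime_quotient hK)

theorem exists_isPComponent_map_eq {Kb : Subgroup (G ⧸ Cfsg.pPrimeCore p G)}
    (hKb : Cfsg.IsComponent Kb) :
    ∃ K : Subgroup G, Cfsg.IsPComponent p K ∧ K.map q = Kb := by
  obtain ⟨K, -, hK⟩ := exists_minimal_le_of_wellFoundedLT
    (fun K : Subgroup G => K.IsSubnormal ∧ K.map q = Kb) (Kb.comap q)
    ⟨hKb.1.comap _, map_comap_eq_self_of_surjective (QuotientGroup.mk'_surjective _) Kb⟩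
  refine ⟨K, ⟨hK.prop.1, hK.prop.2.symm ▸ hKb, fun H hH hle he => ?_⟩, hK.prop.2⟩
  exact le_antisymm hle (hK.le_of_le ⟨hH, he.trans hK.prop.2⟩ hle)

theorem IsPComponent.eq_of_map_eq {K L : Subgroup G} (hK : Cfsg.IsPComponent p K)
    (hL : Cfsg.IsPComponent p L) (h : K.map q = L.map q) : K = L := by
  rw [IsPComponent.eq_pGen hK, IsPComponent.eq_pGen hL, h]

/-- `g` normalises a `p`-component as soon as it normalises its image. -/
theorem IsPComponent.mem_normalizer {K : Subgroup G} (hK : Cfsg.IsPComponent p K) {g : G}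
    (hg : q g ∈ normalizer (K.map q : Set (G ⧸ Cfsg.pPrimeCore p G))) :
    g ∈ normalizer (K : Set G) := by
  rw [IsPComponent.eq_pGen hK]
  exact le_normalizer_pGen p _ (le_normalizer_comap q hg)

theorem pPrimeCore_le_normalizer_pComponent {K : Subgroup G} (hK : Cfsg.IsPComponent p K) :
    Cfsg.pPrimeCore p G ≤ normalizer (K : Set G) := fun g hg => by
  refine IsPComponent.mem_normalizer hK ?_
  have h1 : q g = 1 := (QuotientGroup.eq_one_iff g).mpr hg
  rw [h1]
  exact one_mem _

theorem pLayer_map_eq : (Cfsg.pLayer p G).map q = Cfsg.layer (G ⧸ Cfsg.pPrimeCore p G) := by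
  refine le_antisymm ?_ (layer_le_iff.mpr fun Kb hKb => ?_)
  · rw [map_le_iff_le_comap]
    exact sSup_le fun K hK => map_le_iff_le_comap.mp (IsComponent.le_layer hK.2.1)
  · obtain ⟨K, hK, rfl⟩ := exists_isPComponent_map_eq hKb
    exact map_mono (le_sSup hK)

theorem pLayer_le_normalizer {K : Subgroup G} (hK : Cfsg.IsPComponent p K) :
    Cfsg.pLayer p G ≤ normalizer (K : Set G) :=
  sSup_le fun _ hL g hg => IsPComponent.mem_normalizer hK
    (IsComponent.le_normalizer hL.2.1 hK.2.1 (mem_map_of_mem _ hg))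

theorem IsPComponent.le_pLayer {K : Subgroup G} (hK : Cfsg.IsPComponent p K) :
    K ≤ Cfsg.pLayer p G :=
  le_sSup hK

theorem pLayer_eq_bot_iff :
    Cfsg.pLayer p G = ⊥ ↔ Cfsg.layer (G ⧸ Cfsg.pPrimeCore p G) = ⊥ := by
  refine ⟨fun h => by rw [← pLayer_map_eq, h, Subgroup.map_bot], fun h => ?_⟩
  rw [eq_bot_iff]
  exact sSup_le fun K hK => absurd hK.2.1 (layer_eq_bot_iff.mp h _)

theorem IsPComponent.commutator_le_pPrimeCore {K L : Subgroup G} (hK : Cfsg.IsPComponent p K)
    (hL : Cfsg.IsPComponent p L) (hne : K ≠ L) : ⁅K, L⁆ ≤ Cfsg.pPrimeCore p G := by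
  have h := IsComponent.commutator_eq_bot hK.2.1 hL.2.1
    fun h => hne (IsPComponent.eq_of_map_eq hK hL h)
  rw [← map_commutator, Subgroup.map_eq_bot_iff, QuotientGroup.ker_mk'] at h
  exact h

/-- A perfect subnormal subgroup of a `p`-component of order divisible by `p` is all of it. -/
theorem IsPComponent.eq_of_perfect_le {K H : Subgroup G} (hK : Cfsg.IsPComponent p K)
    (hle : H ≤ K) (hH : H.IsSubnormal) (hperf : ⁅H, H⁆ = H) (hdvd : p ∣ Nat.card H) : H = K := by
  refine hK.2.2 H hH hle ?_
  have hsn : ((H.map q).subgroupOf (K.map q)).IsSubnormal :=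
    (hH.map (QuotientGroup.mk'_surjective _)).subgroupOf
  rcases IsQuasisimple.subnormal_eq_top_or_le_center hK.2.1.2 hsn with h | h
  · exact le_antisymm (map_mono hle) (subgroupOf_eq_top.mp h)
  · exfalso
    have h0 : H.map q = ⊥ := by
      rw [← hperf, map_commutator, commutator_eq_bot_iff_le_centralizer]
      intro x hx
      rw [mem_centralizer_iff]
      intro y hy
      exact congrArg Subtype.val (mem_center_iff.mp
        (h (show (⟨x, map_mono hle hx⟩ : ↥(K.map q)) ∈ (H.map q).subgroupOf (K.map q) from hx))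
        ⟨y, map_mono hle hy⟩)
    rw [Subgroup.map_eq_bot_iff, QuotientGroup.ker_mk'] at h0
    exact hp.out.coprime_iff_not_dvd.mp (Cores.coprime_card_pPrimeCore (G := G) p).symm
      (hdvd.trans (card_dvd_of_le h0))

/-- A subnormal subgroup covering a component modulo `O_{p'}`, without `p'`-quotient. -/
theorem isPComponent_of_no_pPrime_quotient {H : Subgroup G} (hH : H.IsSubnormal)
    (hc : Cfsg.IsComponent (H.map q))
    (h : ∀ N : Subgroup H, N.Normal → N.index.Coprime p → N = ⊤) : Cfsg.IsPComponent p H := by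
  obtain ⟨K, hK, he⟩ := exists_isPComponent_map_eq hc
  have : H = K := by rw [eq_pGen_of_no_pPrime_quotient hH h, IsPComponent.eq_pGen hK, he]
  exact this ▸ hK

/-- A component not contained in `O_{p'}` is a `p`-component. -/
theorem IsComponent.isPComponent {L : Subgroup G} (hL : Cfsg.IsComponent L)
    (hO : ¬ L ≤ Cfsg.pPrimeCore p G) : Cfsg.IsPComponent p L := by
  have hne : L.map q ≠ ⊥ := fun h =>
    hO (by rwa [Subgroup.map_eq_bot_iff, QuotientGroup.ker_mk'] at h)
  have hc := IsComponent.map hL (QuotientGroup.mk'_surjective _) hne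
  refine ⟨hL.1, hc, fun H hH hle he => ?_⟩
  rcases IsQuasisimple.subnormal_eq_top_or_le_center hL.2 (hH.subgroupOf (K := L)) with h | h
  · exact le_antisymm hle (subgroupOf_eq_top.mp h)
  · exfalso
    refine IsComponent.not_le_centralizer hc ?_
    rw [← he]
    rintro _ ⟨x, hx, rfl⟩
    rw [mem_centralizer_iff]
    rintro _ ⟨y, hy, rfl⟩
    have hxy : y * x = x * y :=
      congrArg Subtype.val (mem_center_iff.mp (h (show (⟨x, hle hx⟩ : L) ∈ H.subgroupOf L from hx))
        ⟨y, hle hy⟩)
    rw [← map_mul, hxy, map_mul]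

theorem IsPComponent.pPrimeCore_ne_top {K : Subgroup G} (hK : Cfsg.IsPComponent p K) :
    Cfsg.pPrimeCore p ↥K ≠ ⊤ := by
  intro h
  have := Cores.coprime_card_pPrimeCore (G := ↥K) p
  rw [h, Subgroup.card_top] at this
  exact hp.out.coprime_iff_not_dvd.mp this.symm (IsPComponent.dvd_card hK)

/-- `K / O_{p'}(K)` is quasisimple. -/
theorem IsPComponent.quasisimple_quotient {K : Subgroup G} (hK : Cfsg.IsPComponent p K) :
    Cfsg.IsQuasisimple (↥K ⧸ Cfsg.pPrimeCore p ↥K) := by
  let φ : K →* ↥(K.map q) := (q).subgroupMap K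
  have hker : φ.ker = Cfsg.pPrimeCore p ↥K := by
    ext x
    rw [mem_pPrimeCore_subgroup_iff hK.1, MonoidHom.mem_ker, ← QuotientGroup.eq_one_iff (x : G)]
    exact ⟨fun h => congrArg Subtype.val h, fun h => Subtype.ext h⟩
  exact IsQuasisimple.of_mulEquiv hK.2.1.2 ((QuotientGroup.quotientMulEquivOfEq hker.symm).trans
    (QuotientGroup.quotientKerEquivOfSurjective φ ((q).subgroupMap_surjective K))).symm

theorem IsPComponent.isQuasisimple_iff {K : Subgroup G} (hK : Cfsg.IsPComponent p K) :
    Cfsg.IsQuasisimple ↥K ↔ ⁅K, (Cfsg.pPrimeCore p ↥K).map K.subtype⁆ = ⊥ := by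
  haveI := IsPComponent.isPerfect hK
  constructor
  · intro hq
    have h : Cfsg.pPrimeCore p ↥K ≤ center ↥K :=
      (IsQuasisimple.normal_le_center_or_top hq _).resolve_right
        (IsPComponent.pPrimeCore_ne_top hK)
    rw [commutator_eq_bot_iff_le_centralizer, le_centralizer_iff]
    rintro _ ⟨z, hz, rfl⟩
    rw [mem_centralizer_iff]
    intro k hk
    exact congrArg Subtype.val (mem_center_iff.mp (h hz) ⟨k, hk⟩)
  · intro h
    have hcen : Cfsg.pPrimeCore p ↥K ≤ center ↥K := fun z hz => by
      rw [commutator_eq_bot_iff_le_centralizer] at h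
      rw [mem_center_iff]
      intro k
      exact Subtype.ext (mem_centralizer_iff.mp (h k.2) z ⟨z, hz, rfl⟩).symm
    have hkey : ∀ N : Subgroup K, N.Normal → N ≤ center K ∨ N = ⊤ := by
      intro N hN
      have hq := IsPComponent.quasisimple_quotient hK
      set π := QuotientGroup.mk' (Cfsg.pPrimeCore p ↥K)
      haveI : (N.map π).Normal := hN.map π (QuotientGroup.mk'_surjective _)
      rcases IsQuasisimple.normal_le_center_or_top hq (N.map π) with h' | h'
      · left
        have h1 : ⁅N, ⊤⁆ ≤ center K := by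
          have : (⁅N, (⊤ : Subgroup K)⁆).map π = ⊥ := by
            rw [map_commutator, map_top_of_surjective π (QuotientGroup.mk'_surjective _),
              commutator_top_right_eq_bot_iff_le_center]
            exact h'
          rw [Subgroup.map_eq_bot_iff, QuotientGroup.ker_mk'] at this
          exact this.trans hcen
        have h2 : ⁅⁅N, (⊤ : Subgroup K)⁆, ⊤⁆ = ⊥ :=
          commutator_top_right_eq_bot_iff_le_center.mpr h1
        exact commutator_top_right_eq_bot_iff_le_center.mp
          (commutator_eq_bot_of_perfect (Group.IsPerfect.top_iff.mpr inferInstance) h2)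
      · right
        have h1 : N ⊔ center K = ⊤ := by
          have h'' := congrArg (Subgroup.comap π) h'
          rw [comap_map_eq, comap_top, QuotientGroup.ker_mk'] at h''
          exact top_le_iff.mp (h''.ge.trans (sup_le le_sup_left (hcen.trans le_sup_right)))
        exact eq_top_of_sup_center_of_perfect h1
    haveI : Nontrivial K := by
      by_contra hn
      rw [not_nontrivial_iff_subsingleton] at hn
      exact IsPComponent.pPrimeCore_ne_top hK (Subsingleton.elim _ _)
    haveI : Nontrivial (↥K ⧸ center ↥K) := QuotientGroup.nontrivial_iff.mpr fun h =>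
      Group.IsPerfect.not_isMulCommutative K
        ⟨⟨fun a b => mem_center_iff.mp (h ▸ mem_top b : b ∈ center K) a⟩⟩
    refine ⟨inferInstance, ⟨fun M hM => ?_⟩⟩
    have hsurj := QuotientGroup.mk'_surjective (center ↥K)
    rcases hkey (M.comap (QuotientGroup.mk' (center K))) (hM.comap _) with h' | h'
    · left
      rw [← map_comap_eq_self_of_surjective hsurj M, Subgroup.map_eq_bot_iff,
        QuotientGroup.ker_mk']
      exact h'
    · right
      rw [← map_comap_eq_self_of_surjective hsurj M, h', map_top_of_surjective _ hsurj]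

end PComp

end CfsgLib.Components
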