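import Cfsg.Agent.Lib.Components.PComponents
import Cfsg.Agent.Lib.Fusion.Basic

/-!
`p`-constraint, and what a normaliser of a `p`-subgroup centralises.
-/

set_option autoImplicit false
set_option linter.style.haveILetI false
set_option linter.unusedSectionVars false

namespace CfsgLib.Components

open Subgroup CfsgLib.Solvable
open scoped commutatorElement

variable {G : Type*} [Group G] [Finite G] {p : ℕ} [hp : Fact p.Prime]

theorem inf_eq_bot_of_pGroup_coprime {R D : Subgroup G} (hR : IsPGroup p R)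
    (hD : (Nat.card D).Coprime p) : R ⊓ D = ⊥ :=
  Fusion.Basic.inf_eq_bot_of_coprime hR hD

theorem coprime_card_of_isPGroup {R D : Subgroup G} (hR : IsPGroup p R)
    (hD : (Nat.card D).Coprime p) : (Nat.card R).Coprime (Nat.card D) := by
  obtain ⟨k, hk⟩ := hR.exists_card_eq
  rw [hk]
  exact (hD.pow_right k).symm

theorem isPGroup_map_pGroup {H : Type*} [Group H] {R : Subgroup G} (hR : IsPGroup p R)
    (f : G →* H) : IsPGroup p ↥(R.map f) :=
  hR.map f

/-- A perfect group is generated by its `p'`-elements. -/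
theorem pResidual_eq_top_of_perfect {K : Type*} [Group K] [Finite K] [Group.IsPerfect K] :
    Cfsg.pResidual p K = ⊤ := by
  have h := Fusion.Basic.isPGroup_quotient_pResidual (p := p) (G := K)
  haveI := h.isNilpotent
  by_contra hne
  haveI : Nontrivial (K ⧸ Cfsg.pResidual p K) := QuotientGroup.nontrivial_iff.mpr hne
  exact Group.IsPerfect.not_isSolvable (K ⧸ Cfsg.pResidual p K) inferInstance

theorem perfect_le_of_pPrime_elements {K H : Subgroup G} (hK : Group.IsPerfect K)
    (h : ∀ g ∈ K, (orderOf g).Coprime p → g ∈ H) : K ≤ H := by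
  have h1 : Cfsg.pResidual p ↥K ≤ H.subgroupOf K :=
    (closure_le _).mpr fun g hg => h g g.2 (by rw [Subgroup.orderOf_coe]; exact hg)
  rw [pResidual_eq_top_of_perfect, top_le_iff] at h1
  exact subgroupOf_eq_top.mp h1

/-- `C_{G/O_{p'}}` of the image of a `p`-group is the image of its centraliser. -/
theorem centralizer_map_mk {N : Subgroup G} [N.Normal] (hN : (Nat.card N).Coprime p)
    {R : Subgroup G} (hR : IsPGroup p R) :
    centralizer ((R.map (QuotientGroup.mk' N) : Subgroup (G ⧸ N)) : Set (G ⧸ N)) =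
      (centralizer (R : Set G)).map (QuotientGroup.mk' N) := by
  refine le_antisymm ?_ ?_
  · intro y hy
    obtain ⟨y, rfl⟩ := QuotientGroup.mk_surjective y
    have hsol : Group.IsSolvable R := by haveI := hR.isNilpotent; infer_instance
    obtain ⟨n, hn, hc⟩ := Coprime.exists_mul_mem_centralizer (A := R) (N := N) (k := y)
      (by rw [normalizer_eq_top]; exact le_top) (coprime_card_of_isPGroup hR hN) (.inl hsol)
      (fun a ha => by
        have h1 := mem_centralizer_iff.mp hy _ ⟨a, ha, rfl⟩
        rw [← QuotientGroup.eq_one_iff]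
        have h2 : QuotientGroup.mk' N ⁅a, y⁆ = 1 := by
          rw [map_commutatorElement, commutatorElement_eq_one_iff_mul_comm]; exact h1
        exact h2)
    refine ⟨n * y, hc, ?_⟩
    have : QuotientGroup.mk' N n = 1 := (QuotientGroup.eq_one_iff n).mpr hn
    rw [map_mul, this, one_mul]
    rfl
  · rintro _ ⟨y, hy, rfl⟩
    rw [mem_centralizer_iff]
    rintro _ ⟨r, hr, rfl⟩
    rw [← map_mul, ← map_mul, mem_centralizer_iff.mp hy r hr]

local notation "q" => QuotientGroup.mk' (Cfsg.pPrimeCore p G)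
local notation "Q̄" => (G ⧸ Cfsg.pPrimeCore p G)

theorem fitting_quotient_eq_pCore : Cfsg.fittingSubgroup Q̄ = Cfsg.pCore p Q̄ :=
  Cores.fittingSubgroup_eq_pCore p pPrimeCore_quotient_eq_bot

theorem sylow_pPrimePCore_map (P : Sylow p ↥(Cfsg.pPrimePCore p G)) :
    ((P : Subgroup ↥(Cfsg.pPrimePCore p G)).map (Cfsg.pPrimePCore p G).subtype).map q =
      Cfsg.pCore p Q̄ := by
  let f : ↥(Cfsg.pPrimePCore p G) →* ↥(Cfsg.pCore p Q̄) :=
    { toFun := fun x => ⟨q (x : G), x.2⟩
      map_one' := by ext; simp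
      map_mul' := fun a b => by ext; simp }
  have hf : Function.Surjective f := by
    rintro ⟨y, hy⟩
    obtain ⟨x, rfl⟩ := QuotientGroup.mk'_surjective (Cfsg.pPrimeCore p G) y
    exact ⟨⟨x, hy⟩, rfl⟩
  have htop : IsPGroup p ↥(⊤ : Subgroup ↥(Cfsg.pCore p Q̄)) :=
    (Cores.isPGroup_pCore p).to_subgroup ⊤
  have h1 : (P : Subgroup ↥(Cfsg.pPrimePCore p G)).map f = ⊤ := by
    rw [← Sylow.coe_mapSurjective hf P]
    exact ((P.mapSurjective hf).3 htop le_top).symm
  have h2 := congrArg (Subgroup.map (Cfsg.pCore p Q̄).subtype) h1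
  rw [map_map, ← MonoidHom.range_eq_map, range_subtype] at h2
  rw [map_map]
  exact h2

theorem centralizer_pCore_le_iff_layer (h : Cfsg.pPrimeCore p G = ⊥) :
    centralizer (Cfsg.pCore p G : Set G) ≤ Cfsg.pCore p G ↔ Cfsg.layer G = ⊥ := by
  rw [← Cores.fittingSubgroup_eq_pCore p h]
  exact centralizer_fitting_le_iff

/-- `p`-constraint is the triviality of the layer of `G/O_{p'}(G)`. -/
theorem isPConstrained_iff : Cfsg.IsPConstrained p G ↔ Cfsg.pLayer p G = ⊥ := by
  rw [pLayer_eq_bot_iff, ← centralizer_pCore_le_iff_layer pPrimeCore_quotient_eq_bot]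
  constructor
  · intro h
    obtain ⟨P⟩ : Nonempty (Sylow p ↥(Cfsg.pPrimePCore p G)) := inferInstance
    rw [← sylow_pPrimePCore_map P, centralizer_map_mk (Cores.coprime_card_pPrimeCore p)
      ((P.2.map _)), sylow_pPrimePCore_map P]
    exact map_le_iff_le_comap.mpr (h P)
  · intro h P
    rw [← sylow_pPrimePCore_map P, centralizer_map_mk (Cores.coprime_card_pPrimeCore p)
      ((P.2.map _)), sylow_pPrimePCore_map P] at h
    exact map_le_iff_le_comap.mp h

/-- A `p`-component centralises every normal `p`-subgroup. -/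
theorem IsPComponent.commutator_pGroup_eq_bot {K : Subgroup G} (hK : Cfsg.IsPComponent p K)
    {R : Subgroup G} [R.Normal] (hR : IsPGroup p R) : ⁅K, R⁆ = ⊥ := by
  haveI : (R.map q).Normal := Subgroup.Normal.map inferInstance _ (QuotientGroup.mk'_surjective _)
  haveI := (hR.map q).isNilpotent
  have h := IsComponent.commutator_solvable_eq_bot hK.2.1 (N := R.map q)
    (by rw [normalizer_eq_top]; exact le_top)
  rw [← map_commutator, Subgroup.map_eq_bot_iff, QuotientGroup.ker_mk'] at h
  rw [eq_bot_iff, ← inf_eq_bot_of_pGroup_coprime hR (Cores.coprime_card_pPrimeCore (G := G) p)]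
  exact le_inf (Subgroup.commutator_le_right K R) h

theorem le_centralizer_pGroup_of_pLayer {R : Subgroup G} [R.Normal] (hR : IsPGroup p R) :
    Cfsg.pLayer p G ≤ centralizer (R : Set G) :=
  sSup_le fun _ hK =>
    commutator_eq_bot_iff_le_centralizer.mp (IsPComponent.commutator_pGroup_eq_bot hK hR)

theorem pPrimeCore_le_centralizer_pGroup {R : Subgroup G} [R.Normal] (hR : IsPGroup p R) :
    Cfsg.pPrimeCore p G ≤ centralizer (R : Set G) := by
  rw [← commutator_eq_bot_iff_le_centralizer, eq_bot_iff,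
    ← inf_eq_bot_of_pGroup_coprime hR (Cores.coprime_card_pPrimeCore (G := G) p)]
  exact le_inf (Subgroup.commutator_le_right _ R) (Subgroup.commutator_le_left _ R)

/-- A `p'`-element centralising a `p`-group `P` and `C_R(P)` centralises `R`. -/
theorem mem_centralizer_of_prod {P R : Subgroup G} (hP : IsPGroup p P) (hR : IsPGroup p R)
    (hPR : P ≤ normalizer (R : Set G)) {g : G} (hg : (orderOf g).Coprime p)
    (hgR : g ∈ normalizer (R : Set G)) (hgP : g ∈ centralizer (P : Set G))
    (hgC : g ∈ centralizer ((R ⊓ centralizer (P : Set G) : Subgroup G) : Set G)) :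
    g ∈ centralizer (R : Set G) := by
  refine Coprime.le_centralizer_of_prod hP (Q := zpowers g) (G := R) ?_ ?_ hR hPR ?_ ?_
    (mem_zpowers g)
  · rwa [Nat.card_zpowers]
  · rw [commutator_comm, commutator_eq_bot_iff_le_centralizer]
    exact (zpowers_le).mpr hgP
  · exact (zpowers_le).mpr hgR
  · rw [le_centralizer_iff]
    exact (zpowers_le).mpr hgC

theorem pPrimeCore_map_le (p : ℕ) {G' : Type*} [Group G'] [Finite G'] [Fact p.Prime] (f : G →* G')
    (hf : Function.Surjective f) : (Cfsg.pPrimeCore p G).map f ≤ Cfsg.pPrimeCore p G' := by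
  haveI : ((Cfsg.pPrimeCore p G).map f).Normal := Subgroup.Normal.map inferInstance f hf
  exact Cores.le_pPrimeCore
    ((Cores.coprime_card_pPrimeCore p).coprime_dvd_left (card_map_dvd _ f))

/-! ### The normaliser of a `p`-subgroup acting on `O_p(G/O_{p'}(G))` -/

section Normalizer
variable {P : Subgroup G}

/-- The part of `C_G(P)` lying over `O_p(G/O_{p'}(G))`. -/
theorem centralizer_pCore_inf_eq (hP : IsPGroup p P) :
    Cfsg.pCore p Q̄ ⊓ centralizer ((P.map q : Subgroup Q̄) : Set Q̄) =
      (Cfsg.pPrimePCore p G ⊓ centralizer (P : Set G)).map q := by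
  rw [centralizer_map_mk (Cores.coprime_card_pPrimeCore p) hP]
  refine le_antisymm ?_ (le_inf (map_le_iff_le_comap.mpr inf_le_left) (map_mono inf_le_right))
  rintro _ ⟨hy, ⟨y, hyC, rfl⟩⟩
  exact ⟨y, ⟨hy, hyC⟩, rfl⟩

theorem normalizer_le_normalizer_centralizer :
    normalizer (P : Set G) ≤ normalizer (centralizer (P : Set G) : Set G) := by
  intro g hg
  rw [mem_normalizer_iff_map_conj_eq]
  refine le_antisymm ?_ ?_
  · refine (map_centralizer_le_centralizer_image _ _).trans (centralizer_le ?_)
    intro x hx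
    rw [← map_conj_le_of_le_normalizer hg] at hx
    exact hx
  · intro x hx
    refine ⟨(MulAut.conj g).symm x, ?_, (MulAut.conj g).apply_symm_apply x⟩
    rw [SetLike.mem_coe, mem_centralizer_iff]
    intro y hy
    have h1 : MulAut.conj g y ∈ P := map_conj_le_of_le_normalizer hg ▸ mem_map_of_mem _ hy
    apply (MulAut.conj g).injective
    rw [map_mul, map_mul, MulEquiv.apply_symm_apply]
    exact mem_centralizer_iff.mp hx _ h1

/-- A `p'`-element of `C_G(P)` which centralises `O_{p',p} ∩ C_G(P)` modulo `O_{p'}` centralises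
`O_p(G/O_{p'}(G))`. -/
theorem map_mem_centralizer_pCore (hP : IsPGroup p P) {g : G}
    (hgp : (orderOf g).Coprime p) (hgP : g ∈ centralizer (P : Set G))
    (hgC : ∀ x ∈ Cfsg.pPrimePCore p G ⊓ centralizer (P : Set G), ⁅g, x⁆ ∈ Cfsg.pPrimeCore p G) :
    q g ∈ centralizer (Cfsg.pCore p Q̄ : Set Q̄) := by
  refine mem_centralizer_of_prod (P := P.map q) (hP.map q) (Cores.isPGroup_pCore p)
    (by rw [normalizer_eq_top]; exact le_top) (hgp.coprime_dvd_left (orderOf_map_dvd q g))
    (by rw [normalizer_eq_top]; exact mem_top _) ?_ ?_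
  · rw [centralizer_map_mk (Cores.coprime_card_pPrimeCore p) hP]
    exact mem_map_of_mem _ hgP
  · rw [centralizer_pCore_inf_eq hP, mem_centralizer_iff]
    rintro _ ⟨x, hx, rfl⟩
    have h := hgC x hx
    rw [← QuotientGroup.eq_one_iff] at h
    exact (commutatorElement_eq_one_iff_mul_comm.mp
      ((map_commutatorElement q g x).symm.trans h)).symm

/-- The normal subgroup of `N_G(P)` lying over `O_p(G/O_{p'})` inside `C_G(P)`. -/
theorem normal_pPrimePCore_inf_centralizer (P : Subgroup G) :
    ((Cfsg.pPrimePCore p G ⊓ centralizer (P : Set G)).subgroupOf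
      (normalizer (P : Set G))).Normal := by
  rw [normal_subgroupOf_iff_le_normalizer
    (inf_le_right.trans (centralizer_le_normalizer _))]
  intro g hg
  haveI : (Cfsg.pPrimePCore p G).Normal := Subgroup.Normal.comap inferInstance _
  refine mem_normalizer_iff.mpr fun x => ?_
  have h1 : x ∈ Cfsg.pPrimePCore p G ↔ g * x * g⁻¹ ∈ Cfsg.pPrimePCore p G :=
    mem_normalizer_iff.mp (by rw [normalizer_eq_top]; exact mem_top g) x
  have h2 := mem_normalizer_iff.mp (normalizer_le_normalizer_centralizer hg) x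
  simp only [mem_inf, h1, h2]

/-- The image of `O_{p'}(N_G(P))` and of `L_{p'}(N_G(P))` centralise `O_p(G/O_{p'}(G))`. -/
theorem map_normalizer_core_layer_le_centralizer (hP : IsPGroup p P) :
    ((Cfsg.pPrimeCore p ↥(normalizer (P : Set G)) ⊔ Cfsg.pLayer p ↥(normalizer (P : Set G))).map
      (normalizer (P : Set G)).subtype).map q ≤ centralizer (Cfsg.pCore p Q̄ : Set Q̄) := by
  set N := normalizer (P : Set G) with hN
  set M := (Cfsg.pPrimePCore p G ⊓ centralizer (P : Set G)).subgroupOf N with hM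
  haveI : M.Normal := normal_pPrimePCore_inf_centralizer P
  haveI : (P.subgroupOf N).Normal :=
    (normal_subgroupOf_iff_le_normalizer Subgroup.le_normalizer).mpr le_rfl
  have hPN : IsPGroup p ↥(P.subgroupOf N) :=
    hP.of_equiv (subgroupOfEquivOfLe Subgroup.le_normalizer).symm
  rw [map_map, map_le_iff_le_comap]
  -- an element of `N` of order prime to `p` works as soon as it centralises `P` and moves `M`
  -- only inside `O_{p'}`
  have key : ∀ g : N, (orderOf g).Coprime p → g ∈ centralizer (P.subgroupOf N : Set N) →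
      (∀ x ∈ M, ((⁅g, x⁆ : N) : G) ∈ Cfsg.pPrimeCore p G) →
      g ∈ (centralizer (Cfsg.pCore p Q̄ : Set Q̄)).comap ((q).comp N.subtype) := by
    intro g hg hgP hgM
    refine map_mem_centralizer_pCore hP (g := (g : G)) (by rwa [Subgroup.orderOf_coe]) ?_ ?_
    · rw [mem_centralizer_iff]
      intro y hy
      exact congrArg Subtype.val
        (mem_centralizer_iff.mp hgP ⟨y, Subgroup.le_normalizer hy⟩ hy)
    · intro x hx
      exact hgM ⟨x, centralizer_le_normalizer _ hx.2⟩ hx
  -- `[D, M]` is a `p'`-subgroup of `M`, so its image in the `p`-group `O_p(Q̄)` is trivial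
  have hsmall : ∀ D : Subgroup N, (Nat.card D).Coprime p → D ≤ M → D.map N.subtype ≤
      Cfsg.pPrimeCore p G := by
    intro D hD hDM x hx
    obtain ⟨x, hxD, rfl⟩ := hx
    have h1 : q (x : G) ∈ Cfsg.pCore p Q̄ ⊓ (D.map N.subtype).map q :=
      ⟨(hDM hxD).1, mem_map_of_mem _ (mem_map_of_mem _ hxD)⟩
    rw [inf_eq_bot_of_pGroup_coprime (Cores.isPGroup_pCore p)
      (hD.coprime_dvd_left ((card_map_dvd _ _).trans (card_map_dvd _ _))), mem_bot] at h1
    exact (QuotientGroup.eq_one_iff _).mp h1
  refine sup_le ?_ (sSup_le fun K hK => ?_)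
  · intro g hg
    refine key g ((Cores.coprime_card_pPrimeCore p).coprime_dvd_left
      (Subgroup.orderOf_dvd_natCard _ hg)) (pPrimeCore_le_centralizer_pGroup hPN hg) fun x hx => ?_
    refine hsmall (Cfsg.pPrimeCore p ↥N ⊓ M)
      ((Cores.coprime_card_pPrimeCore p).coprime_dvd_left (card_dvd_of_le inf_le_left))
      inf_le_right ⟨⁅g, x⁆, ?_, rfl⟩
    exact commutator_le_inf _ _ (commutator_mem_commutator hg hx)
  · haveI := IsPComponent.isPerfect hK
    refine perfect_le_of_pPrime_elements (p := p) (IsPComponent.isPerfect hK) fun g hg hgp => ?_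
    refine key g hgp (commutator_eq_bot_iff_le_centralizer.mp
      (IsPComponent.commutator_pGroup_eq_bot hK hPN) hg) fun x hx => ?_
    refine hsmall (⁅K, M⁆) ?_ (Subgroup.commutator_le_right K M)
      ⟨⁅g, x⁆, commutator_mem_commutator hg hx, rfl⟩
    -- the image of `M` in `N/O_{p'}(N)` is solvable, so the component `K̄` centralises it
    haveI : Group.IsSolvable ↥(M.map (QuotientGroup.mk' (Cfsg.pPrimeCore p ↥N))) := by
      let ψ : M →* ↥(Cfsg.pCore p Q̄) :=
        { toFun := fun m => ⟨q ((m : N) : G), m.2.1⟩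
          map_one' := by ext; simp
          map_mul' := fun a b => by ext; simp }
      have hker : (ψ.ker.map M.subtype) ≤ Cfsg.pPrimeCore p ↥N := by
        haveI : (ψ.ker.map M.subtype).Normal := by
          have : ψ.ker.map M.subtype = M ⊓ (Cfsg.pPrimeCore p G).subgroupOf N := by
            ext y
            constructor
            · rintro ⟨m, hm, rfl⟩
              have h := congrArg Subtype.val hm
              exact ⟨m.2, (QuotientGroup.eq_one_iff (((m : N) : G))).mp h⟩
            · rintro ⟨hy, hy'⟩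
              exact ⟨⟨y, hy⟩, Subtype.ext ((QuotientGroup.eq_one_iff _).mpr hy'), rfl⟩
          rw [this]; infer_instance
        refine Cores.le_pPrimeCore (p := p) ?_
        refine (Cores.coprime_card_pPrimeCore (G := G) p).coprime_dvd_left ?_
        rw [← card_map_of_injective (subtype_injective N)]
        refine card_dvd_of_le ?_
        rintro _ ⟨_, ⟨m, hm, rfl⟩, rfl⟩
        have h := congrArg Subtype.val hm
        exact (QuotientGroup.eq_one_iff (((m : N) : G))).mp h
      haveI hnil : Group.IsNilpotent ↥(Cfsg.pCore p Q̄) := Cores.pCore_isNilpotent p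
      let π : M →* ↥(M.map (QuotientGroup.mk' (Cfsg.pPrimeCore p ↥N))) :=
        (QuotientGroup.mk' (Cfsg.pPrimeCore p ↥N)).subgroupMap M
      have hle : ψ.ker ≤ π.ker := fun m hm => Subtype.ext
        ((QuotientGroup.eq_one_iff _).mpr (hker (mem_map_of_mem _ hm)))
      haveI : Group.IsSolvable (M ⧸ ψ.ker) :=
        Group.isSolvable_of_isSolvable_injective
          (f := ψ.range.subtype.comp (QuotientGroup.quotientKerEquivRange ψ).toMonoidHom)
          (Subtype.val_injective.comp (QuotientGroup.quotientKerEquivRange ψ).injective)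
      refine Group.isSolvable_of_surjective (f := QuotientGroup.lift ψ.ker π hle) ?_
      intro y
      obtain ⟨m, rfl⟩ := MonoidHom.subgroupMap_surjective _ M y
      exact ⟨(m : M ⧸ ψ.ker), rfl⟩
    haveI : (M.map (QuotientGroup.mk' (Cfsg.pPrimeCore p ↥N))).Normal :=
      Subgroup.Normal.map inferInstance _ (QuotientGroup.mk'_surjective _)
    have h := IsComponent.commutator_solvable_eq_bot hK.2.1
      (N := M.map (QuotientGroup.mk' (Cfsg.pPrimeCore p ↥N)))
      (by rw [normalizer_eq_top]; exact le_top)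
    rw [← map_commutator, Subgroup.map_eq_bot_iff, QuotientGroup.ker_mk'] at h
    exact (Cores.coprime_card_pPrimeCore p).coprime_dvd_left (card_dvd_of_le h)

end Normalizer

/-- In a `p`-constrained group every `p`-local subgroup is `p`-constrained and its `p'`-core lies
in the `p'`-core. -/
theorem normalizer_of_pLayer_eq_bot (hL : Cfsg.pLayer p G = ⊥) {P : Subgroup G}
    (hP : IsPGroup p P) :
    Cfsg.pLayer p ↥(normalizer (P : Set G)) = ⊥ ∧
      (Cfsg.pPrimeCore p ↥(normalizer (P : Set G))).map (normalizer (P : Set G)).subtype ≤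
        Cfsg.pPrimeCore p G := by
  set N := normalizer (P : Set G) with hN
  have hC : centralizer (Cfsg.pCore p Q̄ : Set Q̄) ≤ Cfsg.pCore p Q̄ :=
    (centralizer_pCore_le_iff_layer pPrimeCore_quotient_eq_bot).mpr (pLayer_eq_bot_iff.mp hL)
  have h := map_normalizer_core_layer_le_centralizer hP
  have hD : (Cfsg.pPrimeCore p ↥N).map N.subtype ≤ Cfsg.pPrimeCore p G := by
    intro x hx
    have h1 : q x ∈ Cfsg.pCore p Q̄ ⊓ ((Cfsg.pPrimeCore p ↥N).map N.subtype).map q :=
      ⟨hC (h (map_mono (map_mono le_sup_left) (mem_map_of_mem _ hx))), mem_map_of_mem _ hx⟩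
    rw [inf_eq_bot_of_pGroup_coprime (Cores.isPGroup_pCore p)
      ((Cores.coprime_card_pPrimeCore p).coprime_dvd_left
        ((card_map_dvd _ _).trans (card_map_dvd _ _))), mem_bot] at h1
    exact (QuotientGroup.eq_one_iff _).mp h1
  refine ⟨?_, hD⟩
  rw [eq_bot_iff]
  refine sSup_le fun K hK => ?_
  exfalso
  haveI := IsPComponent.isPerfect hK
  haveI : Group.IsPerfect ↥((K.map N.subtype).map q) := by
    haveI := Group.IsPerfect.map (H := K) N.subtype
    exact Group.IsPerfect.map q
  have hle : (K.map N.subtype).map q ≤ Cfsg.pCore p Q̄ :=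
    le_trans (le_trans (map_mono (map_mono (le_sup_of_le_right (le_sSup hK)))) h) hC
  haveI hn : Group.IsNilpotent ↥((K.map N.subtype).map q) :=
    ((Cores.isPGroup_pCore p).to_le hle).isNilpotent
  have hKO : (K.map N.subtype).map q = ⊥ := by
    by_contra hne
    haveI : Nontrivial ↥((K.map N.subtype).map q) :=
      (Subgroup.nontrivial_iff_ne_bot _).mpr hne
    exact Group.IsPerfect.not_isNilpotent _ hn
  rw [Subgroup.map_eq_bot_iff, QuotientGroup.ker_mk'] at hKO
  exact hp.out.coprime_iff_not_dvd.mp (Cores.coprime_card_pPrimeCore (G := G) p).symm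
    ((IsPComponent.dvd_card hK).trans
      (by rw [← card_map_of_injective (subtype_injective N)]; exact card_dvd_of_le hKO))

theorem pPrimeCore_eq_bot_of_genFitting (h : Cfsg.generalizedFittingSubgroup G = Cfsg.pCore p G) :
    Cfsg.pPrimeCore p G = ⊥ := by
  have hle : Cfsg.pPrimeCore p G ≤ Cfsg.pCore p G := by
    refine le_trans ?_ (centralizer_generalizedFitting_le.trans h.le)
    rw [h]
    exact pPrimeCore_le_centralizer_pGroup (Cores.isPGroup_pCore p)
  rw [← inf_eq_left.mpr hle, inf_comm]
  exact inf_eq_bot_of_pGroup_coprime (Cores.isPGroup_pCore p) (Cores.coprime_card_pPrimeCore p)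

theorem layer_eq_bot_of_genFitting (h : Cfsg.generalizedFittingSubgroup G = Cfsg.pCore p G) :
    Cfsg.layer G = ⊥ := by
  refine generalizedFitting_eq_fitting_iff.mp (le_antisymm ?_ le_sup_right)
  exact h.le.trans (Cores.pCore_le_fittingSubgroup p)

theorem genFitting_eq_pCore_of (h : Cfsg.pPrimeCore p G = ⊥) (hE : Cfsg.layer G = ⊥) :
    Cfsg.generalizedFittingSubgroup G = Cfsg.pCore p G := by
  rw [generalizedFitting_eq_fitting_iff.mpr hE, Cores.fittingSubgroup_eq_pCore p h]

theorem pLayer_eq_bot_of_layer (h : Cfsg.pPrimeCore p G = ⊥) (hE : Cfsg.layer G = ⊥) :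
    Cfsg.pLayer p G = ⊥ := by
  rw [pLayer_eq_bot_iff]
  let e : G ⧸ Cfsg.pPrimeCore p G ≃* G :=
    (QuotientGroup.quotientMulEquivOfEq h).trans QuotientGroup.quotientBot
  have h1 := layer_map_mulEquiv e
  rw [hE, Subgroup.map_eq_bot_iff_of_injective _ e.injective] at h1
  exact h1

theorem layer_eq_bot_of_pLayer (h : Cfsg.pPrimeCore p G = ⊥) (hL : Cfsg.pLayer p G = ⊥) :
    Cfsg.layer G = ⊥ := by
  rw [layer_eq_bot_iff]
  intro L hc
  have h1 := IsPComponent.le_pLayer (IsComponent.isPComponent (p := p) hc fun hle =>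
    IsComponent.ne_bot hc (le_bot_iff.mp (h ▸ hle)))
  exact IsComponent.ne_bot hc (le_bot_iff.mp (hL ▸ h1))

/-- `F*(N_G(P)) = O_p(N_G(P))` when `F*(G) = O_p(G)`. -/
theorem genFitting_normalizer (h : Cfsg.generalizedFittingSubgroup G = Cfsg.pCore p G)
    {P : Subgroup G} (hP : IsPGroup p P) :
    Cfsg.generalizedFittingSubgroup ↥(normalizer (P : Set G)) =
      Cfsg.pCore p ↥(normalizer (P : Set G)) := by
  have hO := pPrimeCore_eq_bot_of_genFitting h
  obtain ⟨h1, h2⟩ := normalizer_of_pLayer_eq_bot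
    (pLayer_eq_bot_of_layer hO (layer_eq_bot_of_genFitting h)) hP
  rw [hO, le_bot_iff, Subgroup.map_eq_bot_iff_of_injective _ (subtype_injective _)] at h2
  exact genFitting_eq_pCore_of h2 (layer_eq_bot_of_pLayer h2 h1)

end CfsgLib.Components
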