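import Cfsg.Agent.Lib.Components.Basic
import Cfsg.Agent.Lib.Solvable.Cores

/-!
The generalised Fitting subgroup: subnormal subgroups, `C(F*) ≤ F*`, layer against Fitting subgroup.
-/

set_option autoImplicit false
set_option linter.style.haveILetI false
set_option linter.unusedSectionVars false

namespace CfsgLib.Components

open Subgroup CfsgLib.Solvable

variable {G : Type*} [Group G]

/-- Membership in a join when the first factor normalises the second. -/
theorem exists_mul_of_mem_sup {A B : Subgroup G} (h : A ≤ normalizer (B : Set G)) {x : G}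
    (hx : x ∈ A ⊔ B) : ∃ a ∈ A, ∃ b ∈ B, a * b = x := by
  have hx' : x ∈ ((A ⊔ B : Subgroup G) : Set G) := hx
  rw [coe_mul_of_left_le_normalizer_right A B h] at hx'
  exact Set.mem_mul.mp hx'

/-- A normal subgroup of `K'` contained in a nilpotent-normal setting: transport to the supergroup. -/
theorem map_subtype_normal_of_characteristic {K : Subgroup G} {C : Subgroup K}
    [hC : C.Characteristic] {g : G} (hg : g ∈ normalizer (K : Set G)) :
    g ∈ normalizer (C.map K.subtype : Set G) := by
  rw [mem_normalizer_iff_map_conj_eq]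
  let e : K ≃* K :=
    ((MulAut.conj g).subgroupMap K).trans (MulEquiv.subgroupCongr (map_conj_le_of_le_normalizer hg))
  have he := Subgroup.characteristic_iff_map_eq.mp hC e
  conv_rhs => rw [← he]
  rw [map_map, map_map]
  congr 1

section Fitting
variable [Finite G]

/-- The Fitting subgroup of a subnormal subgroup lies in the Fitting subgroup. -/
theorem fittingSubgroup_map_subtype_le {K : Subgroup G} (hK : K.IsSubnormal) :
    (Cfsg.fittingSubgroup ↥K).map K.subtype ≤ Cfsg.fittingSubgroup G := by
  induction hK with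
  | top =>
    refine map_le_iff_le_comap.mpr ?_
    intro x hx
    have : (Cfsg.fittingSubgroup ↥(⊤ : Subgroup G)).map (⊤ : Subgroup G).subtype ≤
        Cfsg.fittingSubgroup G := Cores.map_fittingSubgroup_le ⊤
    exact this ⟨x, hx, rfl⟩
  | step K K' hle _ hn ih =>
    refine le_trans ?_ ih
    set F := (Cfsg.fittingSubgroup ↥K).map K.subtype with hF
    have hFK' : F ≤ K' := (map_subtype_le _).trans hle
    have hnorm : (F.subgroupOf K').Normal := by
      rw [normal_subgroupOf_iff_le_normalizer hFK']
      intro g hg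
      exact map_subtype_normal_of_characteristic
        ((normal_subgroupOf_iff_le_normalizer hle).mp hn hg)
    haveI hFn : Group.IsNilpotent F :=
      Group.nilpotent_of_surjective _ (MonoidHom.subgroupMap_surjective K.subtype _)
    have hnil : Group.IsNilpotent ↥(F.subgroupOf K') :=
      (Group.isNilpotent_congr (subgroupOfEquivOfLe hFK')).mpr hFn
    have h2 := map_mono (f := K'.subtype) (@Cores.le_fittingSubgroup _ _ _ hnorm hnil)
    rwa [map_subgroupOf_eq_of_le hFK'] at h2

/-- A nilpotent subnormal subgroup lies in the Fitting subgroup. -/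
theorem le_fittingSubgroup_of_subnormal {H : Subgroup G} (hH : H.IsSubnormal)
    (hn : Group.IsNilpotent H) : H ≤ Cfsg.fittingSubgroup G := by
  have h := fittingSubgroup_map_subtype_le hH
  rwa [Cores.fittingSubgroup_eq_top_iff.mpr hn, ← MonoidHom.range_eq_map, range_subtype] at h

/-- `F(H) = F(G) ∩ H` for a subnormal subgroup `H`. -/
theorem fittingSubgroup_map_subtype_eq {H : Subgroup G} (hH : H.IsSubnormal) :
    (Cfsg.fittingSubgroup ↥H).map H.subtype = Cfsg.fittingSubgroup G ⊓ H := by
  refine le_antisymm (le_inf (fittingSubgroup_map_subtype_le hH) (map_subtype_le _)) ?_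
  have h1 : (Cfsg.fittingSubgroup G ⊓ H).subgroupOf H ≤ Cfsg.fittingSubgroup ↥H := by
    refine le_fittingSubgroup_of_subnormal
      ((Subgroup.IsSubnormal.inf (Normal.isSubnormal inferInstance) hH).subgroupOf) ?_
    haveI : Group.IsNilpotent ↥((Cfsg.fittingSubgroup G ⊓ H).subgroupOf
        (Cfsg.fittingSubgroup G)) := inferInstance
    have h2 : Group.IsNilpotent ↥(Cfsg.fittingSubgroup G ⊓ H) :=
      (Group.isNilpotent_congr (subgroupOfEquivOfLe inf_le_left)).mp this
    exact (Group.isNilpotent_congr (subgroupOfEquivOfLe inf_le_right)).mpr h2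
  have h2 := map_mono (f := H.subtype) h1
  rwa [map_subgroupOf_eq_of_le inf_le_right] at h2

end Fitting

theorem isNilpotent_of_isMulCommutative (A : Subgroup G) [hA : IsMulCommutative A] :
    Group.IsNilpotent A := by
  refine Subgroup.isNilpotent_of_lowerCentralSeries_eq_bot (n := 1) ?_
  rw [Subgroup.lowerCentralSeries_succ, Subgroup.lowerCentralSeries_zero]
  exact commutator_self_eq_bot_iff.mpr hA

theorem layer_le_generalizedFittingSubgroup :
    Cfsg.layer G ≤ Cfsg.generalizedFittingSubgroup G := le_sup_left

theorem fittingSubgroup_le_generalizedFittingSubgroup :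
    Cfsg.fittingSubgroup G ≤ Cfsg.generalizedFittingSubgroup G := le_sup_right

instance generalizedFittingSubgroup_characteristic [Finite G] :
    (Cfsg.generalizedFittingSubgroup G).Characteristic := by
  refine characteristic_iff_map_eq.mpr fun e => ?_
  rw [Cfsg.generalizedFittingSubgroup, Subgroup.map_sup, layer_map_mulEquiv,
    characteristic_iff_map_eq.mp inferInstance e]

section
variable [Finite G]

theorem layer_commutator_fitting_eq_bot : ⁅Cfsg.layer G, Cfsg.fittingSubgroup G⁆ = ⊥ :=
  layer_commutator_solvable_eq_bot _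

theorem layer_le_centralizer_fitting :
    Cfsg.layer G ≤ centralizer (Cfsg.fittingSubgroup G : Set G) :=
  commutator_eq_bot_iff_le_centralizer.mp layer_commutator_fitting_eq_bot

/-- Bender: the centraliser of `F*(G)` is contained in `F(G)` (it is the centre of `F*(G)`). -/
theorem centralizer_generalizedFitting_le_fitting :
    centralizer (Cfsg.generalizedFittingSubgroup G : Set G) ≤ Cfsg.fittingSubgroup G := by
  set Fs := Cfsg.generalizedFittingSubgroup G with hFs
  set C := centralizer (Fs : Set G) with hC
  set Z := C ⊓ Fs with hZ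
  have hZcomm : IsMulCommutative Z :=
    le_centralizer_iff_isMulCommutative.mp fun x hx => mem_centralizer_iff.mpr fun y hy =>
      mem_centralizer_iff.mp hx.1 y hy.2
  haveI : Z.Normal := inferInstanceAs (C ⊓ Fs).Normal
  have hZF : Z ≤ Cfsg.fittingSubgroup G :=
    Cores.le_fittingSubgroup (@isNilpotent_of_isMulCommutative _ _ Z hZcomm)
  refine le_trans ?_ hZF
  by_contra hCZ
  obtain ⟨K, -, hK⟩ := exists_minimal_le_of_wellFoundedLT
    (fun K : Subgroup G => K.IsSubnormal ∧ K ≤ C ∧ ¬ K ≤ Z) C
    ⟨Normal.isSubnormal inferInstance, le_rfl, hCZ⟩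
  obtain ⟨hKsn, hKC, hKZ⟩ := hK.prop
  have hproper : ∀ N : Subgroup G, N.IsSubnormal → N < K → N ≤ Z := by
    intro N hN hlt
    by_contra h
    exact hlt.not_ge (hK.le_of_le ⟨hN, hlt.le.trans hKC, h⟩ hlt.le)
  have hperf : Group.IsPerfect K := by
    rw [Subgroup.isPerfect_iff]
    by_contra hne
    have hlt : ⁅K, K⁆ < K := lt_of_le_of_ne (Subgroup.commutator_le_self K) hne
    have hsn : (⁅K, K⁆).IsSubnormal :=
      IsSubnormal.of_normal_le hKsn hlt.le (normalizer_commutator_ge_left _ _)
    have h1 := hproper _ hsn hlt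
    have h2 : ⁅⁅K, K⁆, K⁆ = ⊥ := by
      rw [eq_bot_iff]
      refine (commutator_mono h1 hKC).trans (le_of_eq ?_)
      rw [commutator_eq_bot_iff_le_centralizer]
      intro z hz
      rw [mem_centralizer_iff]
      intro c hc
      exact (mem_centralizer_iff.mp hc z hz.2).symm
    have hnil : Group.IsNilpotent K := by
      refine Subgroup.isNilpotent_of_lowerCentralSeries_eq_bot (n := 2) ?_
      simpa [Subgroup.lowerCentralSeries_succ, Subgroup.lowerCentralSeries_zero] using h2
    exact hKZ (le_inf hKC ((le_fittingSubgroup_of_subnormal hKsn hnil).trans le_sup_right))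
  have hcentral : Z.subgroupOf K ≤ center K := by
    intro z hz
    rw [mem_center_iff]
    intro k
    exact Subtype.ext (mem_centralizer_iff.mp (hKC k.2) _ hz.2).symm
  have hq : Cfsg.IsQuasisimple K := by
    haveI : Nontrivial K := K.nontrivial_iff_ne_bot.mpr fun h => hKZ (h ▸ bot_le)
    haveI : Nontrivial (K ⧸ center K) := QuotientGroup.nontrivial_iff.mpr fun h =>
      Group.IsPerfect.not_isMulCommutative K
        ⟨⟨fun a b => mem_center_iff.mp (h ▸ mem_top b : b ∈ center K) a⟩⟩
    refine ⟨hperf, ⟨fun N hN => ?_⟩⟩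
    set M := N.comap (QuotientGroup.mk' (center K)) with hM
    by_cases htop : M = ⊤
    · right
      rw [← comap_top (QuotientGroup.mk' (center K))] at htop
      exact comap_injective (QuotientGroup.mk'_surjective _) htop
    · left
      have hlt : M.map K.subtype < K := by
        refine lt_of_le_of_ne (map_subtype_le M) fun h => htop ?_
        rw [← subgroupOf_map_subtype_eq M, h, subgroupOf_self]
      have hle := hproper _ (IsSubnormal.map_subtype_normal hKsn (hN.comap _)) hlt
      rw [eq_bot_iff]
      intro x hx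
      obtain ⟨k, rfl⟩ := QuotientGroup.mk_surjective x
      rw [mem_bot, QuotientGroup.eq_one_iff]
      exact hcentral (hle ⟨k, hx, rfl⟩)
  exact hKZ (le_inf hKC ((IsComponent.le_layer ⟨hKsn, hq⟩).trans le_sup_left))

theorem centralizer_generalizedFitting_le :
    centralizer (Cfsg.generalizedFittingSubgroup G : Set G) ≤
      Cfsg.generalizedFittingSubgroup G :=
  centralizer_generalizedFitting_le_fitting.trans le_sup_right

theorem generalizedFitting_eq_fitting_iff :
    Cfsg.generalizedFittingSubgroup G = Cfsg.fittingSubgroup G ↔ Cfsg.layer G = ⊥ := by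
  refine ⟨fun h => ?_, fun h => by rw [Cfsg.generalizedFittingSubgroup, h, bot_sup_eq]⟩
  have hle : Cfsg.layer G ≤ Cfsg.fittingSubgroup G := h ▸ layer_le_generalizedFittingSubgroup
  haveI : Group.IsPerfect ↥(Cfsg.layer G) := layer_isPerfect
  by_contra hne
  haveI : Nontrivial ↥(Cfsg.layer G) := (Subgroup.nontrivial_iff_ne_bot _).mpr hne
  exact Group.IsPerfect.not_isSolvable ↥(Cfsg.layer G)
    (Group.isSolvable_of_isSolvable_injective (inclusion_injective hle))

theorem centralizer_fitting_le_iff :
    centralizer (Cfsg.fittingSubgroup G : Set G) ≤ Cfsg.fittingSubgroup G ↔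
      Cfsg.layer G = ⊥ := by
  refine ⟨fun h => generalizedFitting_eq_fitting_iff.mp
    (sup_eq_right.mpr (layer_le_centralizer_fitting.trans h)), fun h => ?_⟩
  have := centralizer_generalizedFitting_le_fitting (G := G)
  rwa [generalizedFitting_eq_fitting_iff.mpr h] at this

/-- `Z(E(G)) = F(G) ∩ E(G)`. -/
theorem center_layer_map_eq :
    (center ↥(Cfsg.layer G)).map (Cfsg.layer G).subtype =
      Cfsg.fittingSubgroup G ⊓ Cfsg.layer G := by
  apply le_antisymm
  · refine le_inf ?_ (map_subtype_le _)
    haveI : ((center ↥(Cfsg.layer G)).map (Cfsg.layer G).subtype).Normal := inferInstance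
    haveI := isNilpotent_of_isMulCommutative (center ↥(Cfsg.layer G))
    exact Cores.le_fittingSubgroup
      (Group.nilpotent_of_surjective _ (MonoidHom.subgroupMap_surjective _ _))
  · rintro x ⟨hx1, hx2⟩
    refine ⟨⟨x, hx2⟩, ?_, rfl⟩
    rw [SetLike.mem_coe, mem_center_iff]
    intro l
    exact Subtype.ext (mem_centralizer_iff.mp (layer_le_centralizer_fitting l.2) x hx1).symm

/-- A normal subgroup containing `F(G)` and its own centraliser contains `F*(G)`. -/
theorem generalizedFitting_le_of_centralizer_le (Y : Subgroup G) [Y.Normal]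
    (hF : Cfsg.fittingSubgroup G ≤ Y) (hc : centralizer (Y : Set G) ≤ Y) :
    Cfsg.generalizedFittingSubgroup G ≤ Y := by
  refine sup_le (layer_le_iff.mpr fun L hL => ?_) hF
  rcases IsComponent.le_or_commutator_eq_bot_of_normal hL Y with h | h
  · exact h
  · exact (commutator_eq_bot_iff_le_centralizer.mp h).trans hc

/-- `F*(S) = F*(G) ∩ S` for a subnormal subgroup `S`. -/
theorem generalizedFitting_map_subtype_eq {S : Subgroup G} (hS : S.IsSubnormal) :
    (Cfsg.generalizedFittingSubgroup ↥S).map S.subtype =
      Cfsg.generalizedFittingSubgroup G ⊓ S := by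
  apply le_antisymm
  · refine le_inf ?_ (map_subtype_le _)
    rw [Cfsg.generalizedFittingSubgroup, Subgroup.map_sup]
    exact sup_le_sup (layer_map_subtype_le hS) (fittingSubgroup_map_subtype_le hS)
  intro x hx
  obtain ⟨hx1, hxS⟩ := hx
  set A := sSup {L : Subgroup G | Cfsg.IsComponent L ∧ L ≤ S} with hA
  set B := sSup {L : Subgroup G | Cfsg.IsComponent L ∧ ¬ L ≤ S} with hB
  have hAE : A ≤ (Cfsg.layer ↥S).map S.subtype := by
    refine sSup_le fun L hL => ?_
    rw [← map_subgroupOf_eq_of_le hL.2]
    exact map_mono (IsComponent.le_layer (IsComponent.subgroupOf hL.1 hL.2))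
  have hAS : A ≤ S := sSup_le fun L hL => hL.2
  have hBS : B ≤ centralizer (S : Set G) := sSup_le fun L hL =>
    commutator_eq_bot_iff_le_centralizer.mp
      ((IsComponent.le_or_commutator_eq_bot hL.1 hS).resolve_left hL.2)
  have hE : Cfsg.layer G = A ⊔ B := by
    refine le_antisymm (layer_le_iff.mpr fun L hL => ?_) ?_
    · by_cases h : L ≤ S
      · exact le_sup_of_le_left (le_sSup ⟨hL, h⟩)
      · exact le_sup_of_le_right (le_sSup ⟨hL, h⟩)
    · exact sup_le (sSup_le fun L hL => IsComponent.le_layer hL.1)
        (sSup_le fun L hL => IsComponent.le_layer hL.1)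
  have hAB : B ≤ centralizer (A : Set G) := hBS.trans (centralizer_le hAS)
  obtain ⟨f, hf, e, he, rfl⟩ := exists_mul_of_mem_sup
    (by rw [normalizer_eq_top]; exact le_top :
      Cfsg.fittingSubgroup G ≤ normalizer (Cfsg.layer G : Set G))
    (show x ∈ Cfsg.fittingSubgroup G ⊔ Cfsg.layer G by rwa [sup_comm])
  have he' : e ∈ B ⊔ A := by rw [sup_comm, ← hE]; exact he
  obtain ⟨b, hb, a, ha, rfl⟩ := exists_mul_of_mem_sup
    (hAB.trans (centralizer_le_normalizer _)) he'
  have hy : f * b ∈ S := by
    have h := S.mul_mem hxS (inv_mem (hAS ha))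
    simpa [mul_assoc] using h
  have hbE : b ∈ Cfsg.layer G := hE ▸ mem_sup_right hb
  have hbF : b ∈ Cfsg.fittingSubgroup G := by
    have hz : b ∈ (center ↥(Cfsg.layer G)).map (Cfsg.layer G).subtype := by
      refine ⟨⟨b, hbE⟩, ?_, rfl⟩
      rw [SetLike.mem_coe, mem_center_iff]
      rintro ⟨l, hl⟩
      suffices Cfsg.layer G ≤ centralizer {b} from
        Subtype.ext (mem_centralizer_singleton_iff.mp (this hl))
      rw [hE]
      refine sup_le (fun a' ha' => ?_) (fun b' hb' => ?_)
      · exact mem_centralizer_singleton_iff.mpr (mem_centralizer_iff.mp (hAB hb) a' ha')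
      · refine mem_centralizer_singleton_iff.mpr ?_
        have h1 : Commute (f * b) b' := (mem_centralizer_iff.mp (hBS hb') _ hy)
        have h2 : Commute f b' := mem_centralizer_iff.mp
          (layer_le_centralizer_fitting (hE ▸ mem_sup_right hb')) f hf
        have h3 : Commute (f⁻¹ * (f * b)) b' := h2.inv_left.mul_left h1
        simpa using h3.eq.symm
    rw [center_layer_map_eq] at hz
    exact hz.1
  rw [← mul_assoc]
  refine mul_mem ?_ (map_mono le_sup_left (hAE ha))
  have : f * b ∈ (Cfsg.fittingSubgroup ↥S).map S.subtype := by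
    rw [fittingSubgroup_map_subtype_eq hS]
    exact ⟨mul_mem hf hbF, hy⟩
  exact map_mono le_sup_right this

end

end CfsgLib.Components
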