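import Cfsg.Agent.Lib.Components.Quasisimple

/-!
Components of a group: the fundamental dichotomy, components commute, the layer.
-/

set_option autoImplicit false
set_option linter.style.haveILetI false

namespace CfsgLib.Components

open Subgroup

variable {G : Type*} [Group G]

theorem IsComponent.isPerfect {L : Subgroup G} (hL : Cfsg.IsComponent L) : Group.IsPerfect L :=
  hL.2.1

theorem IsComponent.commutator_self {L : Subgroup G} (hL : Cfsg.IsComponent L) : ⁅L, L⁆ = L :=
  Subgroup.isPerfect_iff.mp hL.2.1

theorem IsComponent.ne_bot {L : Subgroup G} (hL : Cfsg.IsComponent L) : L ≠ ⊥ := by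
  intro h
  haveI := IsQuasisimple.nontrivial hL.2
  exact (Subgroup.nontrivial_iff_ne_bot L).mp this h

theorem IsComponent.not_le_centralizer {L : Subgroup G} (hL : Cfsg.IsComponent L) :
    ¬ L ≤ centralizer (L : Set G) := fun h =>
  IsQuasisimple.not_isMulCommutative hL.2 (le_centralizer_iff_isMulCommutative.mp h)

theorem IsComponent.not_isSolvable {L : Subgroup G} (hL : Cfsg.IsComponent L) :
    ¬ Group.IsSolvable L :=
  IsQuasisimple.not_isSolvable hL.2

/-- A component contains or is centralised by every subgroup that it normalises. -/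
theorem IsComponent.le_or_commutator_eq_bot_of_le_normalizer {L : Subgroup G}
    (hL : Cfsg.IsComponent L) {N : Subgroup G} (hN : L ≤ normalizer (N : Set G)) :
    L ≤ N ∨ ⁅L, N⁆ = ⊥ := by
  suffices key : ∀ M : Subgroup G, M.IsSubnormal → L ≤ M →
      (L ≤ N ⊓ M ∨ ⁅L, N ⊓ M⁆ = ⊥) → L ≤ N ∨ ⁅L, N⁆ = ⊥ by
    refine key L hL.1 le_rfl ?_
    have hn : ((N ⊓ L).subgroupOf L).Normal :=
      (normal_subgroupOf_iff_le_normalizer inf_le_right).mpr fun l hl =>
        mem_normalizer_iff.mpr fun x => by
          have h1 := mem_normalizer_iff.mp (hN hl) x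
          have h2 : x ∈ L ↔ l * x * l⁻¹ ∈ L :=
            mem_normalizer_iff.mp (le_normalizer hl) x
          simp only [mem_inf, h1, h2]
    rcases IsQuasisimple.normal_le_center_or_top hL.2 ((N ⊓ L).subgroupOf L) with h | h
    · right
      rw [commutator_eq_bot_iff_le_centralizer]
      intro l hl
      rw [mem_centralizer_iff]
      intro x hx
      have := mem_center_iff.mp (h (show (⟨x, hx.2⟩ : L) ∈ (N ⊓ L).subgroupOf L from hx)) ⟨l, hl⟩
      exact (congrArg Subtype.val this).symm
    · left
      exact subgroupOf_eq_top.mp h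
  intro M hM
  induction hM with
  | top => intro _ h; simpa using h
  | step M K hMK _ hn ih =>
    intro hLM h
    apply ih (hLM.trans hMK)
    rcases h with h | h
    · exact Or.inl (le_inf (h.trans inf_le_left) (hLM.trans hMK))
    · right
      rw [commutator_comm]
      apply commutator_eq_bot_of_perfect hL.2.1
      have hle : ⁅N ⊓ K, L⁆ ≤ N ⊓ M := by
        refine le_inf ?_ ?_
        · exact (commutator_mono inf_le_left le_rfl).trans
            (commutator_le_left_of_le_normalizer hN)
        · exact (commutator_mono inf_le_right hLM).trans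
            (commutator_le_right_of_le_normalizer
              ((normal_subgroupOf_iff_le_normalizer hMK).mp hn))
      rw [eq_bot_iff]
      refine (commutator_mono hle le_rfl).trans ?_
      rw [commutator_comm, h]

/-- A component contains or is centralised by every normal subgroup. -/
theorem IsComponent.le_or_commutator_eq_bot_of_normal {L : Subgroup G}
    (hL : Cfsg.IsComponent L) (N : Subgroup G) [N.Normal] : L ≤ N ∨ ⁅L, N⁆ = ⊥ :=
  (IsComponent.le_or_commutator_eq_bot_of_le_normalizer hL) (by rw [normalizer_eq_top]; exact le_top)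

/-- The fundamental dichotomy: a component lies in, or centralises, every subnormal subgroup. -/
theorem IsComponent.le_or_commutator_eq_bot {L : Subgroup G} (hL : Cfsg.IsComponent L)
    {H : Subgroup G} (hH : H.IsSubnormal) : L ≤ H ∨ ⁅L, H⁆ = ⊥ := by
  induction hH with
  | top => exact Or.inl le_top
  | step H K hHK _ hn ih =>
    rcases ih with h | h
    · exact (IsComponent.le_or_commutator_eq_bot_of_le_normalizer hL)
        (h.trans ((normal_subgroupOf_iff_le_normalizer hHK).mp hn))
    · right
      rw [eq_bot_iff]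
      exact (commutator_mono le_rfl hHK).trans h.le

/-- A component centralises every solvable subgroup that it normalises. -/
theorem IsComponent.commutator_solvable_eq_bot {L : Subgroup G} (hL : Cfsg.IsComponent L)
    {N : Subgroup G} [Group.IsSolvable N] (hN : L ≤ normalizer (N : Set G)) : ⁅L, N⁆ = ⊥ :=
  ((IsComponent.le_or_commutator_eq_bot_of_le_normalizer hL) hN).resolve_left fun h =>
    (IsComponent.not_isSolvable hL) (Group.isSolvable_of_isSolvable_injective (inclusion_injective h))

/-- A component contained in a component is equal to it. -/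
theorem IsComponent.eq_of_le {L K : Subgroup G} (hL : Cfsg.IsComponent L)
    (hK : Cfsg.IsComponent K) (h : L ≤ K) : L = K := by
  rcases IsQuasisimple.subnormal_eq_top_or_le_center hK.2 (hL.1.subgroupOf (K := K)) with h' | h'
  · exact le_antisymm h (subgroupOf_eq_top.mp h')
  · refine absurd ?_ (IsComponent.not_le_centralizer hL)
    intro l hl
    rw [mem_centralizer_iff]
    intro x hx
    exact congrArg Subtype.val
      (mem_center_iff.mp (h' (show (⟨l, h hl⟩ : K) ∈ L.subgroupOf K from hl)) ⟨x, h hx⟩)

/-- Distinct components commute. -/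
theorem IsComponent.commutator_eq_bot {L K : Subgroup G} (hL : Cfsg.IsComponent L)
    (hK : Cfsg.IsComponent K) (hne : L ≠ K) : ⁅L, K⁆ = ⊥ :=
  ((IsComponent.le_or_commutator_eq_bot hL) hK.1).resolve_left fun h => hne ((IsComponent.eq_of_le hL) hK h)

theorem IsComponent.le_centralizer_of_ne {L K : Subgroup G} (hL : Cfsg.IsComponent L)
    (hK : Cfsg.IsComponent K) (hne : L ≠ K) : L ≤ centralizer (K : Set G) :=
  commutator_eq_bot_iff_le_centralizer.mp ((IsComponent.commutator_eq_bot hL) hK hne)

/-- Every component normalises every component. -/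
theorem IsComponent.le_normalizer {L K : Subgroup G} (hL : Cfsg.IsComponent L)
    (hK : Cfsg.IsComponent K) : L ≤ normalizer (K : Set G) := by
  by_cases h : L = K
  · exact h ▸ Subgroup.le_normalizer
  · exact ((IsComponent.le_centralizer_of_ne hL) hK h).trans (centralizer_le_normalizer _)

theorem IsComponent.mapEquiv {G' : Type*} [Group G'] {L : Subgroup G} (hL : Cfsg.IsComponent L)
    (e : G ≃* G') : Cfsg.IsComponent (L.map e.toMonoidHom) :=
  ⟨hL.1.map e.surjective, IsQuasisimple.of_mulEquiv hL.2 (e.subgroupMap L)⟩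

theorem IsComponent.conj {L : Subgroup G} (hL : Cfsg.IsComponent L) (g : G) :
    Cfsg.IsComponent (L.map (MulAut.conj g).toMonoidHom) :=
  (IsComponent.mapEquiv hL) (MulAut.conj g)

theorem IsComponent.le_layer {L : Subgroup G} (hL : Cfsg.IsComponent L) : L ≤ Cfsg.layer G :=
  le_sSup hL

theorem layer_le_iff {H : Subgroup G} :
    Cfsg.layer G ≤ H ↔ ∀ L : Subgroup G, Cfsg.IsComponent L → L ≤ H :=
  sSup_le_iff

theorem layer_map_le {G' : Type*} [Group G'] (e : G ≃* G') :
    (Cfsg.layer G).map e.toMonoidHom ≤ Cfsg.layer G' := by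
  rw [map_le_iff_le_comap, layer_le_iff]
  intro L hL
  rw [← map_le_iff_le_comap]
  exact IsComponent.le_layer (IsComponent.mapEquiv hL e)

theorem layer_map_mulEquiv {G' : Type*} [Group G'] (e : G ≃* G') :
    (Cfsg.layer G).map e.toMonoidHom = Cfsg.layer G' := by
  refine le_antisymm (layer_map_le e) fun x hx => ?_
  exact ⟨e.symm x, layer_map_le e.symm ⟨x, hx, rfl⟩, by simp⟩

instance layer_characteristic : (Cfsg.layer G).Characteristic :=
  characteristic_iff_map_eq.mpr layer_map_mulEquiv

theorem isPerfect_sSup {S : Set (Subgroup G)} (h : ∀ K ∈ S, Group.IsPerfect K) :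
    Group.IsPerfect ↥(sSup S) := by
  rw [Subgroup.isPerfect_iff]
  refine le_antisymm (Subgroup.commutator_le_self _) (sSup_le fun K hK => ?_)
  conv_lhs => rw [← Subgroup.isPerfect_iff.mp (h K hK)]
  exact commutator_mono (le_sSup hK) (le_sSup hK)

theorem layer_isPerfect : Group.IsPerfect ↥(Cfsg.layer G) :=
  isPerfect_sSup fun _ hK => hK.2.1

theorem layer_commutator_self : ⁅Cfsg.layer G, Cfsg.layer G⁆ = Cfsg.layer G :=
  Subgroup.isPerfect_iff.mp layer_isPerfect

theorem layer_le_normalizer {L : Subgroup G} (hL : Cfsg.IsComponent L) :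
    Cfsg.layer G ≤ normalizer (L : Set G) :=
  sSup_le fun _ hK => IsComponent.le_normalizer hK hL

/-- The layer centralises every solvable normal subgroup. -/
theorem layer_commutator_solvable_eq_bot (N : Subgroup G) [N.Normal] [Group.IsSolvable N] :
    ⁅Cfsg.layer G, N⁆ = ⊥ := by
  rw [commutator_eq_bot_iff_le_centralizer, layer_le_iff]
  intro L hL
  exact commutator_eq_bot_iff_le_centralizer.mp
    ((IsComponent.commutator_solvable_eq_bot hL) (by rw [normalizer_eq_top]; exact le_top))

theorem layer_eq_bot_iff : Cfsg.layer G = ⊥ ↔ ∀ L : Subgroup G, ¬ Cfsg.IsComponent L := by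
  constructor
  · intro h L hL
    exact (IsComponent.ne_bot hL) (le_bot_iff.mp (h ▸ (IsComponent.le_layer hL)))
  · intro h
    rw [eq_bot_iff, layer_le_iff]
    exact fun L hL => absurd hL (h L)

/-- For `H` subnormal in `G`, the components of `H` are the components of `G` lying in `H`. -/
theorem isComponent_subgroupOf_iff {H K : Subgroup G} (hH : H.IsSubnormal) (hle : K ≤ H) :
    Cfsg.IsComponent (K.subgroupOf H) ↔ Cfsg.IsComponent K :=
  ⟨fun h => ⟨Subgroup.IsSubnormal.trans hle h.1 hH,
      IsQuasisimple.of_mulEquiv h.2 (subgroupOfEquivOfLe hle)⟩,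
    fun h => ⟨h.1.subgroupOf, IsQuasisimple.of_mulEquiv h.2 (subgroupOfEquivOfLe hle).symm⟩⟩

theorem isComponent_map_subtype_iff {H : Subgroup G} (hH : H.IsSubnormal) (K : Subgroup H) :
    Cfsg.IsComponent K ↔ Cfsg.IsComponent (K.map H.subtype) := by
  conv_lhs => rw [← subgroupOf_map_subtype_eq K]
  exact isComponent_subgroupOf_iff hH (map_subtype_le K)

/-- A component of `G` lying in an arbitrary subgroup `H` is a component of `H`. -/
theorem IsComponent.subgroupOf {L : Subgroup G} (hL : Cfsg.IsComponent L) {H : Subgroup G}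
    (hle : L ≤ H) : Cfsg.IsComponent (L.subgroupOf H) :=
  ⟨hL.1.subgroupOf, IsQuasisimple.of_mulEquiv hL.2 (subgroupOfEquivOfLe hle).symm⟩

theorem layer_map_subtype_le {H : Subgroup G} (hH : H.IsSubnormal) :
    (Cfsg.layer ↥H).map H.subtype ≤ Cfsg.layer G := by
  rw [map_le_iff_le_comap, layer_le_iff]
  intro K hK
  rw [← map_le_iff_le_comap]
  exact IsComponent.le_layer ((isComponent_map_subtype_iff hH K).mp hK)

/-- A component is normal in the layer. -/
theorem IsComponent.normal_subgroupOf_layer {L : Subgroup G} (hL : Cfsg.IsComponent L) :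
    (L.subgroupOf (Cfsg.layer G)).Normal :=
  (normal_subgroupOf_iff_le_normalizer (IsComponent.le_layer hL)).mpr (layer_le_normalizer hL)

/-- The image of a component under a surjection is trivial or a component. -/
theorem IsComponent.map {G' : Type*} [Group G'] {L : Subgroup G} (hL : Cfsg.IsComponent L)
    {f : G →* G'} (hf : Function.Surjective f) (hne : L.map f ≠ ⊥) :
    Cfsg.IsComponent (L.map f) :=
  ⟨hL.1.map hf, IsQuasisimple.map hL.2 f hne⟩

end CfsgLib.Components
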