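import Cfsg.Prelude.Def_Transfer
import Cfsg.Agent.Lib.Coprime.Sylow
import Cfsg.Agent.Lib.Coprime.Generation

/-!
Factorisations of a group read off from the centralisers of coprime operators.
-/

set_option autoImplicit false
set_option linter.style.haveILetI false
set_option linter.unusedSectionVars false

namespace CfsgLib.Components.Factorization

open Subgroup CfsgLib.Coprime
open scoped Pointwise commutatorElement

variable {G : Type*} [Group G] [Finite G]

theorem card_coe_mul_mul_card_inf (A B : Subgroup G) :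
    Nat.card ↥((B : Set G) * (A : Set G)) * Nat.card ↥(A ⊓ B) = Nat.card A * Nat.card B := by
  rw [card_mul_eq_card_subgroup_mul_card_quotient A (B : Set G)]
  have h1 : Nat.card ↥((B : Set G).image (QuotientGroup.mk : G → G ⧸ A)) =
      Nat.card (B ⧸ A.subgroupOf B) := by
    let f : B ⧸ A.subgroupOf B → G ⧸ A := Quotient.map' (fun b : B => (b : G)) fun x y h => by
      rw [QuotientGroup.leftRel_apply] at h ⊢; exact h
    have hf : Function.Injective f := by
      intro x y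
      induction x using QuotientGroup.induction_on
      induction y using QuotientGroup.induction_on
      intro h
      exact QuotientGroup.eq.mpr (mem_subgroupOf.mpr (by simpa using QuotientGroup.eq.mp h))
    have hr : Set.range f = (B : Set G).image (QuotientGroup.mk : G → G ⧸ A) := by
      ext z
      constructor
      · rintro ⟨x, rfl⟩
        induction x using QuotientGroup.induction_on with
        | _ b => exact ⟨b, b.2, rfl⟩
      · rintro ⟨b, hb, rfl⟩
        exact ⟨((⟨b, hb⟩ : B) : B ⧸ A.subgroupOf B), rfl⟩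
    rw [← hr, Nat.card_range_of_injective hf]
  rw [h1, mul_assoc, ← Nat.card_congr (subgroupOfEquivOfLe (inf_le_right : A ⊓ B ≤ B)).toEquiv]
  congr 1
  rw [inf_subgroupOf_right, ← Subgroup.index_eq_card, Subgroup.index_mul_card]

/-- The `q`-part of `|U|`. -/
noncomputable def qPart (q : ℕ) (U : Subgroup G) : ℕ := q ^ (Nat.card U).factorization q

theorem card_le_qPart {q : ℕ} [hq : Fact q.Prime] {R U : Subgroup G} (hR : IsPGroup q R)
    (h : R ≤ U) : Nat.card R ≤ qPart q U := by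
  obtain ⟨n, hn⟩ := IsPGroup.iff_card.mp hR
  rw [hn]
  exact Nat.pow_le_pow_right hq.out.pos
    ((hq.out.pow_dvd_iff_le_factorization Nat.card_pos.ne').mp (hn ▸ card_dvd_of_le h))

theorem qPart_le_qPart {q : ℕ} [hq : Fact q.Prime] {W : Subgroup G} {U : Subgroup G} {R : Subgroup G}
    (hR : qPart q U ≤ Nat.card ↥(W ⊓ U)) (h : W ⊓ U ≤ R) : qPart q U ≤ Nat.card R :=
  hR.trans (card_le_of_le h)

/-- An invariant Sylow subgroup of `W` meets `U ≤ W` in a Sylow subgroup of `U`, provided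
`C_W(A)` normalises `U`. -/
theorem qPart_le_card_inf {q : ℕ} [Fact q.Prime] {A W U : Subgroup G} (hAs : Group.IsSolvable A)
    (hW : A ≤ normalizer (W : Set G)) (hcop : (Nat.card A).Coprime (Nat.card W)) (P : Sylow q W)
    (hP : A ≤ normalizer (((P : Subgroup W).map W.subtype : Subgroup G) : Set G)) (hU : U ≤ W)
    (hUA : A ≤ normalizer (U : Set G))
    (hc : W ⊓ centralizer (A : Set G) ≤ normalizer (U : Set G)) :
    qPart q U ≤ Nat.card ↥((P : Subgroup W).map W.subtype ⊓ U) := by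
  obtain ⟨R, hR⟩ := exists_invariant_sylow hUA (coprime_of_le hcop le_rfl hU) (.inl hAs) q
  obtain ⟨Q, hRQ, hQ⟩ := exists_le_invariant_sylow hW hcop (.inl hAs)
    ((map_subtype_le _).trans hU) (R.isPGroup'.map U.subtype) hR
  obtain ⟨c, hcA, hcQ⟩ := exists_centralizer_conj_sylow hW hcop (.inl hAs) Q P hQ hP
  have h1 : ((R : Subgroup U).map U.subtype).map (MulAut.conj (c : G)).toMonoidHom ≤
      (P : Subgroup W).map W.subtype ⊓ U := by
    refine le_inf ?_ ?_
    · rw [← hcQ, map_smul_sylow]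
      exact Subgroup.map_mono hRQ
    · refine (Subgroup.map_mono (map_subtype_le _)).trans (le_of_eq ?_)
      exact mem_normalizer_iff_map_conj_eq.mp (hc ⟨c.2, hcA⟩)
  refine le_of_eq_of_le ?_ (card_le_of_le h1)
  rw [card_conj_map, card_map_subtype, R.card_eq_multiplicity, qPart]

/-- A factorisation of a `q`-group by invariant subgroups, read off from the centralisers. -/
theorem pGroup_subset_mul {q : ℕ} [Fact q.Prime] {A S X Y : Subgroup G} [IsMulCommutative A]
    (hnc : ¬ IsCyclic A) (hS : IsPGroup q S) (hcop : (Nat.card A).Coprime (Nat.card S))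
    (hAS : A ≤ normalizer (S : Set G)) (hX : X ≤ S) (hY : Y ≤ S)
    (h : ∀ a ∈ A, a ≠ 1 → ∀ s ∈ S ⊓ centralizer {a}, ∃ x ∈ X, ∃ y ∈ Y, x * y = s) :
    ∀ s ∈ S, ∃ x ∈ X, ∃ y ∈ Y, x * y = s := by
  suffices key : ∀ N : Subgroup G, N ≤ S → S ≤ normalizer (N : Set G) → A ≤ normalizer (N : Set G) →
      (∀ s ∈ S, ∃ x ∈ X, ∃ n ∈ N, ∃ y ∈ Y, x * n * y = s) → ∀ s ∈ S, ∃ x ∈ X, ∃ y ∈ Y, x * y = s from
    key S le_rfl Subgroup.le_normalizer hAS
      (fun s hs => ⟨1, one_mem _, s, hs, 1, one_mem _, by simp⟩)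
  intro N
  induction N using WellFoundedLT.induction with
  | _ N ih =>
    intro hNS hSN hAN hfac
    by_cases hb : N = ⊥
    · intro s hs
      obtain ⟨x, hx, n, hn, y, hy, e⟩ := hfac s hs
      rw [hb, mem_bot] at hn
      exact ⟨x, hx, y, hy, by rw [← e, hn, mul_one]⟩
    set M := ⁅N, S⁆ with hM
    have hMN : M < N := commutator_lt_of_isPGroup hS (hS.to_le hNS) hSN hb
    have hnorm : ∀ g, g ∈ normalizer (N : Set G) → g ∈ normalizer (S : Set G) →
        g ∈ normalizer (M : Set G) := fun g h1 h2 => by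
      rw [mem_normalizer_iff_map_conj_eq, hM, map_commutator, mem_normalizer_iff_map_conj_eq.mp h1,
        mem_normalizer_iff_map_conj_eq.mp h2]
    have hSM : S ≤ normalizer (M : Set G) := fun g hg => hnorm g (hSN hg) (Subgroup.le_normalizer hg)
    have hMS : M ≤ S := hMN.le.trans hNS
    refine ih M hMN hMS hSM (fun g hg => hnorm g (hAN hg) (hAS hg)) ?_
    intro s hs
    obtain ⟨x, hx, n, hn, y, hy, rfl⟩ := hfac s hs
    -- move `n` to the two sides
    set T : Set G := {n | ∀ x ∈ X, ∀ m ∈ M, ∀ y ∈ Y,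
      ∃ x' ∈ X, ∃ m' ∈ M, ∃ y' ∈ Y, x' * m' * y' = x * (n * m) * y} with hT
    suffices hnT : n ∈ T by
      obtain ⟨x', hx', m', hm', y', hy', e⟩ := hnT x hx 1 (one_mem _) y hy
      exact ⟨x', hx', m', hm', y', hy', by rw [e, mul_one]⟩
    have hstep : ∀ a ∈ A, a ≠ 1 → ∀ g ∈ N ⊓ centralizer {a}, ∀ k ∈ N, k ∈ T → g * k ∈ T := by
      intro a ha ha1 g hg k hk hkT x hx m hm y hy
      obtain ⟨x₂, hx₂, y₂, hy₂, rfl⟩ := h a ha ha1 g ⟨hNS hg.1, hg.2⟩
      have hm₂ : k⁻¹ * (y₂ * k * y₂⁻¹) ∈ M := by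
        have : ⁅k⁻¹, y₂⁆ ∈ M := commutator_mem_commutator (inv_mem hk) (hY hy₂)
        simpa [commutatorElement_def, mul_assoc] using this
      have hm₃ : y₂ * m * y₂⁻¹ ∈ M := (mem_normalizer_iff.mp (hSM (hY hy₂)) m).mp hm
      obtain ⟨x', hx', m', hm', y', hy', e⟩ := hkT (x * x₂) (mul_mem hx hx₂) _
        (mul_mem hm₂ hm₃) (y₂ * y) (mul_mem hy₂ hy)
      refine ⟨x', hx', m', hm', y', hy', e.trans ?_⟩
      group
    have hgen : N ≤ closure (⋃ a ∈ {a : G | a ∈ A ∧ a ≠ 1}, ((N ⊓ centralizer {a} : Subgroup G) : Set G)) := by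
      refine (iSup_centralizer_singleton (A := A) (K := N) hnc hAN (coprime_of_le hcop le_rfl hNS)).ge.trans
        (iSup₂_le fun a ha x hx => subset_closure (Set.mem_biUnion ha hx))
    suffices hall : n ∈ T ∧ n ∈ N from hall.1
    refine closure_induction_left (p := fun n _ => n ∈ T ∧ n ∈ N) ?_ ?_ ?_ (hgen hn)
    · exact ⟨fun x hx m hm y hy => ⟨x, hx, m, hm, y, hy, by rw [one_mul]⟩, one_mem _⟩
    · intro g hg k _ ⟨hkT, hk⟩
      obtain ⟨a, ha, hg⟩ := Set.mem_iUnion₂.mp hg
      exact ⟨hstep a ha.1 ha.2 g hg k hk hkT, mul_mem hg.1 hk⟩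
    · intro g hg k _ ⟨hkT, hk⟩
      obtain ⟨a, ha, hg⟩ := Set.mem_iUnion₂.mp hg
      exact ⟨hstep a ha.1 ha.2 g⁻¹ (Subgroup.inv_mem _ hg) k hk hkT,
        mul_mem (inv_mem hg.1) hk⟩

/-- A product of two `q`-subgroups of sufficient order is everything. -/
theorem exists_mul_eq {X Y S : Subgroup G} (hX : X ≤ S) (hY : Y ≤ S)
    (h : Nat.card S * Nat.card ↥(Y ⊓ X) ≤ Nat.card Y * Nat.card X) :
    ∀ s ∈ S, ∃ x ∈ X, ∃ y ∈ Y, x * y = s := by
  have hsub : (X : Set G) * (Y : Set G) ⊆ (S : Set G) := by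
    rintro _ ⟨x, hx, y, hy, rfl⟩
    exact mul_mem (hX hx) (hY hy)
  rw [← card_coe_mul_mul_card_inf Y X] at h
  have he := Set.eq_of_subset_of_ncard_le hsub (by
    rw [← Nat.card_coe_set_eq, ← Nat.card_coe_set_eq]
    exact Nat.le_of_mul_le_mul_right h Nat.card_pos) (Set.toFinite _)
  intro s hs
  obtain ⟨x, hx, y, hy, e⟩ := he.ge hs
  exact ⟨x, hx, y, hy, e⟩

theorem centralizer_singleton_le_normalizer_inf {W U : Subgroup G} {a : G} {A : Subgroup G}
    (ha : a ∈ A) (h : W ⊓ centralizer (A : Set G) ≤ normalizer (U : Set G)) :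
    W ⊓ centralizer (A : Set G) ≤ normalizer ((U ⊓ centralizer {a} : Subgroup G) : Set G) :=
  (le_inf h (inf_le_right.trans ((centralizer_le (Set.singleton_subset_iff.mpr ha)).trans
    Subgroup.le_normalizer))).trans inf_normalizer_le_normalizer_inf

theorem le_normalizer_centralizer_singleton {A : Subgroup G} [IsMulCommutative A] {a : G} (ha : a ∈ A) :
    A ≤ normalizer ((centralizer {a} : Subgroup G) : Set G) := fun b hb =>
  Subgroup.le_normalizer (mem_centralizer_singleton_iff.mpr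
    (congrArg Subtype.val (mul_comm' (⟨b, hb⟩ : A) ⟨a, ha⟩)))

/-- `K = XY` from `C_K(a) = C_X(a) C_Y(a)`. -/
theorem factorization {p : ℕ} [Fact p.Prime] {A K X Y : Subgroup G} (hA : Cfsg.IsElementaryAbelian p A)
    (hnc : ¬ IsCyclic A) (hAK : A ≤ normalizer (K : Set G))
    (hcop : (Nat.card A).Coprime (Nat.card K)) (hX : X ≤ K) (hY : Y ≤ K)
    (hAX : A ≤ normalizer (X : Set G)) (hAY : A ≤ normalizer (Y : Set G))
    (hCX : K ⊓ centralizer (A : Set G) ≤ normalizer (X : Set G))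
    (hfac : ∀ a ∈ A, a ≠ 1 → ((K ⊓ centralizer {a} : Subgroup G) : Set G) =
      ((X ⊓ centralizer {a} : Subgroup G) : Set G) * ((Y ⊓ centralizer {a} : Subgroup G) : Set G)) :
    (K : Set G) = (X : Set G) * (Y : Set G) := by
  haveI := hA.1
  have hAs : Group.IsSolvable A := Group.isSolvable_of_comm fun a b => mul_comm' a b
  have hsub : (X : Set G) * (Y : Set G) ⊆ (K : Set G) := by
    rintro _ ⟨x, hx, y, hy, rfl⟩
    exact mul_mem (hX hx) (hY hy)
  refine (Set.eq_of_subset_of_ncard_le hsub ?_ (Set.toFinite _)).symm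
  rw [← Nat.card_coe_set_eq, ← Nat.card_coe_set_eq]
  refine Nat.le_of_mul_le_mul_right ?_ (Nat.card_pos (α := ↥(Y ⊓ X)))
  rw [card_coe_mul_mul_card_inf]
  refine Nat.le_of_dvd (Nat.mul_pos Nat.card_pos Nat.card_pos) ?_
  rw [← Nat.factorization_le_iff_dvd (Nat.mul_pos Nat.card_pos Nat.card_pos).ne'
    (Nat.mul_pos Nat.card_pos Nat.card_pos).ne']
  intro q
  by_cases hq : q.Prime
  swap
  · simp [Nat.factorization_eq_zero_of_not_prime _ hq]
  haveI := Fact.mk hq
  -- choice of the invariant Sylow subgroup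
  obtain ⟨RY, hRY⟩ := exists_invariant_sylow hAY (coprime_of_le hcop le_rfl hY) (.inl hAs) q
  obtain ⟨P, hRP, hP⟩ := exists_le_invariant_sylow hAK hcop (.inl hAs)
    ((map_subtype_le _).trans hY) (RY.isPGroup'.map Y.subtype) hRY
  set S := (P : Subgroup K).map K.subtype with hS
  have hSp : IsPGroup q S := P.isPGroup'.map _
  have hSK : S ≤ K := map_subtype_le _
  have fromY : ∀ U : Subgroup G, U ≤ Y → A ≤ normalizer (U : Set G) →
      Y ⊓ centralizer (A : Set G) ≤ normalizer (U : Set G) → qPart q U ≤ Nat.card ↥(S ⊓ U) :=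
    fun U h1 h2 h3 => qPart_le_qPart (qPart_le_card_inf hAs hAY (coprime_of_le hcop le_rfl hY) RY hRY h1 h2 h3)
      (inf_le_inf_right _ hRP)
  have fromK : ∀ U : Subgroup G, U ≤ K → A ≤ normalizer (U : Set G) →
      K ⊓ centralizer (A : Set G) ≤ normalizer (U : Set G) → qPart q U ≤ Nat.card ↥(S ⊓ U) :=
    fun U h1 h2 h3 => qPart_le_card_inf hAs hAK hcop P hP h1 h2 h3
  have exact_part : ∀ U : Subgroup G, qPart q U ≤ Nat.card ↥(S ⊓ U) → Nat.card ↥(S ⊓ U) = qPart q U :=
    fun U h => le_antisymm (card_le_qPart (hSp.to_le inf_le_left) inf_le_right) h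
  have hCY : Y ⊓ centralizer (A : Set G) ≤ normalizer (Y : Set G) := inf_le_left.trans Subgroup.le_normalizer
  have hYX : Y ⊓ centralizer (A : Set G) ≤ normalizer ((Y ⊓ X : Subgroup G) : Set G) :=
    (le_inf hCY ((inf_le_inf_right _ hY).trans hCX)).trans inf_normalizer_le_normalizer_inf
  have hAYX : A ≤ normalizer ((Y ⊓ X : Subgroup G) : Set G) :=
    (le_inf hAY hAX).trans inf_normalizer_le_normalizer_inf
  have hAC : ∀ {U : Subgroup G} (a : G), a ∈ A → A ≤ normalizer (U : Set G) →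
      A ≤ normalizer ((U ⊓ centralizer {a} : Subgroup G) : Set G) := fun a ha h =>
    (le_inf h (le_normalizer_centralizer_singleton ha)).trans inf_normalizer_le_normalizer_inf
  have hall : ∀ s ∈ S, ∃ x ∈ S ⊓ X, ∃ y ∈ S ⊓ Y, x * y = s := by
    refine pGroup_subset_mul hnc hSp (coprime_of_le hcop le_rfl hSK) hP inf_le_left inf_le_left ?_
    intro a ha ha1 s hs
    have hca : ∀ {W U : Subgroup G}, W ⊓ centralizer (A : Set G) ≤ normalizer (U : Set G) →
        W ⊓ centralizer (A : Set G) ≤ normalizer ((U ⊓ centralizer {a} : Subgroup G) : Set G) :=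
      fun h => centralizer_singleton_le_normalizer_inf ha h
    have eK := exact_part _ (fromK (K ⊓ centralizer {a}) inf_le_left (hAC a ha hAK)
      (hca (inf_le_left.trans Subgroup.le_normalizer)))
    have eX := exact_part _ (fromK (X ⊓ centralizer {a}) (inf_le_left.trans hX) (hAC a ha hAX) (hca hCX))
    have eY := exact_part _ (fromY (Y ⊓ centralizer {a}) inf_le_left (hAC a ha hAY) (hca hCY))
    have eI := card_le_qPart (U := Y ⊓ centralizer {a} ⊓ (X ⊓ centralizer {a}))
      (hSp.to_le (inf_le_left.trans inf_le_left : (S ⊓ (Y ⊓ centralizer {a})) ⊓ (S ⊓ (X ⊓ centralizer {a})) ≤ S))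
      (inf_le_inf inf_le_right inf_le_right)
    have hmul := card_coe_mul_mul_card_inf (Y ⊓ centralizer {a}) (X ⊓ centralizer {a})
    rw [← hfac a ha ha1] at hmul
    have hq' := congrArg (fun n => q ^ n.factorization q) hmul
    simp only [Nat.factorization_mul Nat.card_pos.ne' Nat.card_pos.ne', Finsupp.add_apply, pow_add] at hq'
    obtain ⟨x, hx, y, hy, e⟩ := exists_mul_eq (X := S ⊓ (X ⊓ centralizer {a}))
      (Y := S ⊓ (Y ⊓ centralizer {a})) (S := S ⊓ (K ⊓ centralizer {a}))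
      (inf_le_inf_left _ (inf_le_inf_right _ hX)) (inf_le_inf_left _ (inf_le_inf_right _ hY)) (by
        rw [eK, eX, eY]
        exact (Nat.mul_le_mul_left _ eI).trans_eq hq') s ⟨hs.1, hSK hs.1, hs.2⟩
    exact ⟨x, ⟨hx.1, hx.2.1⟩, y, ⟨hy.1, hy.2.1⟩, e⟩
  have eX := exact_part _ (fromK X hX hAX hCX)
  have eY := exact_part _ (fromY Y le_rfl hAY hCY)
  have eI := exact_part _ (fromY (Y ⊓ X) inf_le_left hAYX hYX)
  have hSc : Nat.card S = qPart q K := by rw [hS, card_map_subtype, P.card_eq_multiplicity, qPart]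
  have hmul := card_coe_mul_mul_card_inf (S ⊓ Y) (S ⊓ X)
  have hset : ((S ⊓ X : Subgroup G) : Set G) * ((S ⊓ Y : Subgroup G) : Set G) = (S : Set G) := by
    refine Set.Subset.antisymm ?_ fun s hs => ?_
    · rintro _ ⟨x, hx, y, hy, rfl⟩
      exact mul_mem hx.1 hy.1
    · obtain ⟨x, hx, y, hy, e⟩ := hall s hs
      exact ⟨x, hx, y, hy, e⟩
  rw [hset, ← inf_inf_distrib_left, eX, eY, eI, SetLike.coe_sort_coe, hSc] at hmul
  refine (Nat.pow_le_pow_iff_right hq.one_lt).mp (le_of_eq ?_)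
  simp only [Nat.factorization_mul Nat.card_pos.ne' Nat.card_pos.ne', Finsupp.add_apply, pow_add]
  exact hmul

end CfsgLib.Components.Factorization
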