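import Cfsg.Agent.Lib.Components.Subnormal

/-!
Quasisimple groups: normal and subnormal subgroups are central or everything, quotients,
isomorphism invariance.
-/

set_option autoImplicit false
set_option linter.style.haveILetI false

namespace CfsgLib.Components

open Subgroup
open scoped commutatorElement

variable {H : Type*} [Group H]

theorem IsQuasisimple.isPerfect (hq : Cfsg.IsQuasisimple H) : Group.IsPerfect H := hq.1

theorem IsQuasisimple.isSimple_quotient (hq : Cfsg.IsQuasisimple H) :
    IsSimpleGroup (H ⧸ center H) := hq.2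

theorem IsQuasisimple.center_ne_top (hq : Cfsg.IsQuasisimple H) : center H ≠ ⊤ := by
  intro h
  haveI := hq.2
  haveI : Subsingleton (H ⧸ center H) := by
    rw [h]; exact QuotientGroup.subsingleton_quotient_top
  exact not_subsingleton (H ⧸ center H) this

theorem IsQuasisimple.nontrivial (hq : Cfsg.IsQuasisimple H) : Nontrivial H := by
  by_contra h
  rw [not_nontrivial_iff_subsingleton] at h
  exact IsQuasisimple.center_ne_top hq (Subsingleton.elim _ _)

theorem IsQuasisimple.not_isMulCommutative (hq : Cfsg.IsQuasisimple H) : ¬ IsMulCommutative H := by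
  haveI := hq.1
  haveI := IsQuasisimple.nontrivial hq
  exact Group.IsPerfect.not_isMulCommutative H

theorem IsQuasisimple.not_isSolvable (hq : Cfsg.IsQuasisimple H) : ¬ Group.IsSolvable H := by
  haveI := hq.1
  haveI := IsQuasisimple.nontrivial hq
  exact Group.IsPerfect.not_isSolvable H

/-- A normal subgroup of a quasisimple group is central or the whole group. -/
theorem IsQuasisimple.normal_le_center_or_top (hq : Cfsg.IsQuasisimple H) (N : Subgroup H)
    [hN : N.Normal] : N ≤ center H ∨ N = ⊤ := by
  haveI := hq.2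
  rcases (hN.map (QuotientGroup.mk' (center H)) (QuotientGroup.mk'_surjective _)).eq_bot_or_eq_top
    with h | h
  · left
    rw [Subgroup.map_eq_bot_iff, QuotientGroup.ker_mk'] at h
    exact h
  · right
    have hsup : N ⊔ center H = ⊤ := by
      have h' := congrArg (Subgroup.comap (QuotientGroup.mk' (center H))) h
      rwa [comap_map_eq, comap_top, QuotientGroup.ker_mk'] at h'
    haveI := hq.1
    exact eq_top_of_sup_center_of_perfect hsup

/-- A subnormal subgroup of a quasisimple group is central or the whole group. -/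
theorem IsQuasisimple.subnormal_eq_top_or_le_center (hq : Cfsg.IsQuasisimple H) {N : Subgroup H}
    (hN : N.IsSubnormal) : N = ⊤ ∨ N ≤ center H := by
  rcases hN.lt_normal with h | ⟨K, hK, hle, hlt⟩
  · exact Or.inl h
  · rcases IsQuasisimple.normal_le_center_or_top hq K with h | h
    · exact Or.inr (hle.trans h)
    · exact absurd h hlt.ne

theorem IsQuasisimple.of_mulEquiv {H' : Type*} [Group H'] (hq : Cfsg.IsQuasisimple H)
    (e : H ≃* H') : Cfsg.IsQuasisimple H' := by
  haveI := hq.1
  refine ⟨Group.IsPerfect.ofSurjective (f := e.toMonoidHom) e.surjective, ?_⟩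
  haveI := hq.2
  have hc : (center H).map e.toMonoidHom = center H' := by
    ext x
    simp only [mem_map, mem_center_iff]
    constructor
    · rintro ⟨y, hy, rfl⟩ g
      obtain ⟨g', rfl⟩ := e.surjective g
      simp [← map_mul, hy g']
    · intro hx
      refine ⟨e.symm x, fun g => e.injective ?_, by simp⟩
      simpa using hx (e g)
  exact (QuotientGroup.congr (center H) (center H') e hc).symm.isSimpleGroup

theorem isQuasisimple_congr {H' : Type*} [Group H'] (e : H ≃* H') :
    Cfsg.IsQuasisimple H ↔ Cfsg.IsQuasisimple H' :=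
  ⟨fun h => IsQuasisimple.of_mulEquiv h e, fun h => IsQuasisimple.of_mulEquiv h e.symm⟩

/-- The quotient of a quasisimple group by a central subgroup has centre the image of the centre. -/
theorem center_quotient_of_perfect [Group.IsPerfect H] (N : Subgroup H) [N.Normal]
    (hN : N ≤ center H) :
    center (H ⧸ N) = (center H).map (QuotientGroup.mk' N) := by
  apply le_antisymm
  · intro x hx
    obtain ⟨y, rfl⟩ := QuotientGroup.mk_surjective x
    refine ⟨y, ?_, rfl⟩
    have hy2 : y ∈ Subgroup.upperCentralSeries H 2 := by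
      rw [show (2 : ℕ) = 1 + 1 from rfl, Subgroup.mem_upperCentralSeries_succ_iff]
      intro g
      rw [Subgroup.upperCentralSeries_one]
      apply hN
      have hc := (mem_center_iff.mp hx) (g : H ⧸ N)
      rw [← QuotientGroup.eq_one_iff]
      simp only [QuotientGroup.mk_mul, QuotientGroup.mk_inv, commutatorElement_def]
      rw [← hc]; group
    rwa [Group.IsPerfect.upperCentralSeries_eq_center H (by norm_num : (2:ℕ) ≠ 0)] at hy2
  · rintro x ⟨y, hy, rfl⟩
    rw [mem_center_iff]
    intro g
    obtain ⟨g', rfl⟩ := QuotientGroup.mk_surjective g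
    rw [QuotientGroup.mk'_apply, ← QuotientGroup.mk_mul, ← QuotientGroup.mk_mul, mem_center_iff.mp hy g']

/-- A proper quotient of a quasisimple group is quasisimple. -/
theorem IsQuasisimple.quotient (hq : Cfsg.IsQuasisimple H) (N : Subgroup H) [N.Normal]
    (hN : N ≠ ⊤) : Cfsg.IsQuasisimple (H ⧸ N) := by
  haveI := hq.1
  have hNc : N ≤ center H := (IsQuasisimple.normal_le_center_or_top hq N).resolve_right hN
  refine ⟨inferInstance, ?_⟩
  haveI := hq.2
  have hc := center_quotient_of_perfect N hNc
  haveI : Nontrivial (H ⧸ N) := QuotientGroup.nontrivial_iff.mpr hN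
  haveI : Nontrivial ((H ⧸ N) ⧸ center (H ⧸ N)) := QuotientGroup.nontrivial_iff.mpr fun h =>
    Group.IsPerfect.not_isMulCommutative (H ⧸ N)
      ⟨⟨fun a b => (mem_center_iff.mp (h ▸ mem_top b : b ∈ center (H ⧸ N))) a⟩⟩
  exact IsSimpleGroup.isSimpleGroup_of_surjective
    (QuotientGroup.lift (center H) ((QuotientGroup.mk' (center (H ⧸ N))).comp (QuotientGroup.mk' N))
      (by
        intro x hx
        rw [MonoidHom.mem_ker, MonoidHom.comp_apply, QuotientGroup.mk'_apply,
          QuotientGroup.eq_one_iff, hc]
        exact ⟨x, hx, rfl⟩))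
    (by
      intro x
      obtain ⟨y, rfl⟩ := QuotientGroup.mk_surjective x
      obtain ⟨z, rfl⟩ := QuotientGroup.mk_surjective y
      exact ⟨(z : H ⧸ center H), rfl⟩)

/-- A nontrivial image of a quasisimple subgroup is quasisimple. -/
theorem IsQuasisimple.map {G G' : Type*} [Group G] [Group G'] {K : Subgroup G}
    (hq : Cfsg.IsQuasisimple K) (f : G →* G') (hne : K.map f ≠ ⊥) :
    Cfsg.IsQuasisimple ↥(K.map f) := by
  let φ : K →* ↥(K.map f) := f.subgroupMap K
  have hφ : Function.Surjective φ := f.subgroupMap_surjective K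
  have hk : φ.ker ≠ ⊤ := by
    intro h
    apply hne
    rw [eq_bot_iff]
    rintro x ⟨k, hk, rfl⟩
    have : (⟨k, hk⟩ : K) ∈ φ.ker := h ▸ mem_top _
    exact congrArg Subtype.val (MonoidHom.mem_ker.mp this)
  exact IsQuasisimple.of_mulEquiv (IsQuasisimple.quotient hq φ.ker hk)
    (QuotientGroup.quotientKerEquivOfSurjective φ hφ)

end CfsgLib.Components
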