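import Cfsg.Agent.Lib.Fusion.PSolvable
import Cfsg.Agent.Lib.Coprime.Action

/-!
Automisers of `p'`-subgroups normalising a Sylow `p`-subgroup of a `p`-solvable group.
-/

set_option autoImplicit false
set_option linter.style.haveILetI false
set_option linter.unusedSectionVars false

namespace CfsgLib.Components.Automizer

open Subgroup
open scoped commutatorElement

universe u

theorem isPGroup_zpowers_map {G H : Type*} [Group G] [Group H] {p : ℕ} (f : G →* H) {g : G}
    (hg : IsPGroup p (zpowers g)) : IsPGroup p (zpowers (f g)) := by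
  rw [← MonoidHom.map_zpowers]; exact hg.map f

theorem eq_one_of_pGroup_of_coprime {G : Type*} [Group G] [Finite G] {p : ℕ} [hp : Fact p.Prime]
    {R Q : Subgroup G} (hR : IsPGroup p R) (hQ : ¬ p ∣ Nat.card Q) {x : G} (h1 : x ∈ R) (h2 : x ∈ Q) :
    x = 1 := by
  obtain ⟨n, hn⟩ := IsPGroup.iff_card.mp hR
  have hd : orderOf x ∣ Nat.gcd (p ^ n) (Nat.card Q) :=
    Nat.dvd_gcd (hn ▸ Subgroup.orderOf_dvd_natCard R h1) (Subgroup.orderOf_dvd_natCard Q h2)
  rw [Nat.Coprime.gcd_eq_one ((hp.out.coprime_iff_not_dvd.mpr hQ).pow_left n)] at hd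
  exact orderOf_eq_one_iff.mp (Nat.dvd_one.mp hd)

/-- A `p`-element of `N(Q)` centralises `Q` if `Q` is centralised by a Sylow `p`-subgroup. -/
theorem mem_centralizer_of_sylow_le {G : Type u} [Group G] [Finite G] {p : ℕ} [Fact p.Prime]
    (P : Sylow p G) {Q : Subgroup G} (hP : (P : Subgroup G) ≤ centralizer (Q : Set G)) {g : G}
    (hg : g ∈ normalizer (Q : Set G)) (hgp : IsPGroup p (zpowers g)) :
    g ∈ centralizer (Q : Set G) := by
  set N := normalizer (Q : Set G)
  have hCN : centralizer (Q : Set G) ≤ N := centralizer_le_normalizer _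
  set P' : Sylow p N := P.subtype (hP.trans hCN)
  have hp' : IsPGroup p ↥(zpowers (⟨g, hg⟩ : N)) :=
    (hgp.comap_of_injective N.subtype N.subtype_injective).to_le (zpowers_le.mpr (mem_zpowers g))
  obtain ⟨T, hT⟩ := hp'.exists_le_sylow
  obtain ⟨c, hc⟩ := MulAction.exists_smul_eq N P' T
  have hmem : (⟨g, hg⟩ : N) ∈ ((c • P' : Sylow p N) : Subgroup N) := by
    rw [hc]; exact hT (mem_zpowers _)
  rw [Sylow.coe_subgroup_smul] at hmem
  obtain ⟨x, hx, hxe⟩ := hmem
  have hg' : g = (c : G) * x * (c : G)⁻¹ := congrArg Subtype.val hxe.symm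
  have hxC : (x : G) ∈ centralizer (Q : Set G) := hP hx
  have hn : (normalizer (Q : Set G)) ≤ normalizer (centralizer (Q : Set G) : Set G) :=
    normalizer_le_normalizer_centralizer_self Q
  rw [hg']
  exact (mem_normalizer_iff.mp (hn c.2) _).mp hxC
where
  normalizer_le_normalizer_centralizer_self (Q : Subgroup G) :
      normalizer (Q : Set G) ≤ normalizer (centralizer (Q : Set G) : Set G) := by
    refine fun g hg => Coprime.mem_normalizer_of_conj_map_le (fun x hx =>
      mem_centralizer_iff.mpr fun y hy => ?_)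
    have hy' : g⁻¹ * y * g ∈ Q := (mem_normalizer_iff''.mp hg y).mp hy
    have h := mem_centralizer_iff.mp hx _ hy'
    calc y * (g * x * g⁻¹) = g * ((g⁻¹ * y * g) * x) * g⁻¹ := by group
      _ = g * (x * (g⁻¹ * y * g)) * g⁻¹ := by rw [h]
      _ = g * x * g⁻¹ * y := by group

theorem mem_centralizer_aux : ∀ (n : ℕ) {G : Type u} [Group G] [Finite G], Nat.card G = n →
    ∀ {p : ℕ} [Fact p.Prime], Cfsg.IsPSolvable p G → ∀ (P : Sylow p G) (Q : Subgroup G),
      ¬ p ∣ Nat.card Q → Q ≤ normalizer ((P : Subgroup G) : Set G) → ∀ g ∈ normalizer (Q : Set G),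
        IsPGroup p (zpowers g) → g ∈ centralizer (Q : Set G) := by
  intro n
  induction n using Nat.strong_induction_on with
  | _ n ih =>
    intro G _ _ hn p _ hG P Q hQ hQP g hg hgp
    subst hn
    rcases subsingleton_or_nontrivial G with h1 | h1
    · exact mem_centralizer_iff.mpr fun y _ => Subsingleton.elim _ _
    have step : ∀ N : Subgroup G, N.Normal → N ≠ ⊥ → ∀ q ∈ Q, ⁅g, q⁆ ∈ Q ⊓ N := by
      intro N hN hb q hq
      refine ⟨?_, ?_⟩
      · rw [commutatorElement_def]
        exact Q.mul_mem ((mem_normalizer_iff.mp hg q).mp hq) (Q.inv_mem hq)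
      · set f := QuotientGroup.mk' N
        have hf := QuotientGroup.mk'_surjective N
        have hlt : Nat.card (G ⧸ N) < Nat.card G := by
          have h1 : 1 < Nat.card N := (Subgroup.one_lt_card_iff_ne_bot N).mpr hb
          rw [Subgroup.card_eq_card_quotient_mul_card_subgroup N]
          exact lt_mul_of_one_lt_right Nat.card_pos h1
        have h := ih _ hlt rfl (Fusion.PSolvable.psolvable_quotient hG N) (P.mapSurjective hf)
          (Q.map f) (fun hd => hQ (hd.trans (card_map_dvd _ _)))
          (by rw [Sylow.coe_mapSurjective]; exact (Subgroup.map_mono hQP).trans (le_normalizer_map f))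
          (f g) (le_normalizer_map f ⟨g, hg, rfl⟩) (isPGroup_zpowers_map f hgp)
        have h2 : f ⁅g, q⁆ = 1 := by
          rw [map_commutatorElement, commutatorElement_eq_one_iff_mul_comm]
          exact (mem_centralizer_iff.mp h (f q) ⟨q, hq, rfl⟩).symm
        exact (QuotientGroup.eq_one_iff _).mp h2
    rcases Fusion.PSolvable.pCore_or_pPrimeCore_ne_bot hG with hR | hN
    · refine mem_centralizer_iff.mpr fun q hq => ?_
      have h := step _ inferInstance hR q hq
      exact (commutatorElement_eq_one_iff_mul_comm.mp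
        (eq_one_of_pGroup_of_coprime (Solvable.Cores.isPGroup_pCore p) hQ h.2 h.1)).symm
    · set N := Cfsg.pPrimeCore p G with hNdef
      set Q₀ := Q ⊓ N
      have hPQ₀ : (P : Subgroup G) ≤ centralizer (Q₀ : Set G) := by
        refine le_centralizer_iff.mp fun q hq => mem_centralizer_iff.mpr fun x hx => ?_
        refine (commutatorElement_eq_one_iff_mul_comm.mp ?_)
        have h1 : ⁅x, q⁆ ∈ (P : Subgroup G) := by
          rw [commutatorElement_def, mul_assoc, mul_assoc]
          refine mul_mem hx ?_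
          rw [← mul_assoc]
          exact (mem_normalizer_iff.mp (hQP hq.1) _).mp (inv_mem hx)
        have h2 : ⁅x, q⁆ ∈ N := by
          rw [commutatorElement_def]
          exact mul_mem (Subgroup.Normal.conj_mem inferInstance q hq.2 x) (inv_mem hq.2)
        refine eq_one_of_pGroup_of_coprime P.isPGroup' (Q := N) ?_ h1 h2
        exact fun hd => Nat.Prime.not_coprime_iff_dvd.mpr ⟨p, Fact.out, hd, dvd_rfl⟩
          (Solvable.Cores.coprime_card_pPrimeCore p)
      have hgQ₀ : g ∈ normalizer (Q₀ : Set G) :=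
        inf_normalizer_le_normalizer_inf ⟨hg, by rw [normalizer_eq_top]; exact mem_top g⟩
      have hgC := mem_centralizer_of_sylow_le P hPQ₀ hgQ₀ hgp
      refine mem_centralizer_iff.mpr fun q hq => ?_
      refine ((Coprime.commute_of_stabilizes ?_ hgC (step N inferInstance hN q hq)).eq).symm
      obtain ⟨m, hm⟩ := IsPGroup.iff_card.mp hgp
      rw [Nat.card_zpowers] at hm
      rw [hm]
      exact ((Fact.out : p.Prime).coprime_iff_not_dvd.mpr
        fun hd => hQ (hd.trans (card_dvd_of_le inf_le_left))).pow_left m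

/-- `p` does not divide the automiser of a `p'`-subgroup normalising a Sylow `p`-subgroup. -/
theorem not_dvd_relIndex {G : Type u} [Group G] [Finite G] {p : ℕ} [Fact p.Prime]
    (hG : Cfsg.IsPSolvable p G) (P : Sylow p G) {Q : Subgroup G} (hQ : ¬ p ∣ Nat.card Q)
    (hQP : Q ≤ normalizer ((P : Subgroup G) : Set G)) :
    ¬ p ∣ (centralizer (Q : Set G)).relIndex (normalizer (Q : Set G)) := by
  obtain ⟨S⟩ : Nonempty (Sylow p (normalizer (Q : Set G))) := inferInstance
  have hle : (S : Subgroup (normalizer (Q : Set G))) ≤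
      (centralizer (Q : Set G)).subgroupOf (normalizer (Q : Set G)) := fun x hx =>
    mem_centralizer_aux _ rfl hG P Q hQ hQP x x.2
      (isPGroup_zpowers_map (normalizer (Q : Set G)).subtype (S.isPGroup'.to_le (zpowers_le.mpr hx)))
  exact fun hd => S.not_dvd_index (hd.trans (Subgroup.index_dvd_of_le hle))

end CfsgLib.Components.Automizer
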