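import Cfsg.Agent.Lib.Components.Terminal.Local
import Cfsg.Agent.Lib.Components.BBalanceMain

/-!
`2`-components of the centraliser of a pair of commuting involutions, seen in a quotient with the
`B`-property.
-/

set_option autoImplicit false
set_option linter.style.haveILetI false
set_option linter.unusedSectionVars false

namespace CfsgLib.Components.BQuotient

open Subgroup CfsgLib.Solvable
open scoped commutatorElement

universe u v

variable {p : ℕ} [hp : Fact p.Prime]

/-- The image of a `p`-component under an epimorphism with kernel of order prime to `p`. -/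
theorem IsPComponent.map_coprime {C : Type u} [Group C] [Finite C] {A : Type u} [Group A]
    [Finite A] (f : C →* A) (hf : Function.Surjective f) (hk : (Nat.card f.ker).Coprime p)
    {K : Subgroup C} (hK : Cfsg.IsPComponent p K) : Cfsg.IsPComponent p (K.map f) := by
  set qA := QuotientGroup.mk' (Cfsg.pPrimeCore p A) with hqA
  set qK := QuotientGroup.mk' (Cfsg.pPrimeCore p C) with hqK
  set g := qA.comp f with hg
  have hgs : Function.Surjective g := (QuotientGroup.mk'_surjective _).comp hf
  have hgk : Cfsg.pPrimeCore p C ≤ g.ker := by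
    intro c hc
    rw [MonoidHom.mem_ker, hg, MonoidHom.comp_apply, hqA, QuotientGroup.mk'_apply,
      QuotientGroup.eq_one_iff]
    exact pPrimeCore_map_le p f hf ⟨c, hc, rfl⟩
  let φ : C ⧸ Cfsg.pPrimeCore p C →* A ⧸ Cfsg.pPrimeCore p A :=
    QuotientGroup.lift _ g hgk
  have hφ : Function.Surjective φ := fun z => by
    obtain ⟨c, rfl⟩ := hgs z
    exact ⟨qK c, rfl⟩
  have hmap : (K.map f).map qA = (K.map qK).map φ := by
    rw [map_map, map_map]
    rfl
  have hne : (K.map qK).map φ ≠ ⊥ := by
    intro h
    have h1 : K.map f ≤ Cfsg.pPrimeCore p A := by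
      rw [← QuotientGroup.ker_mk' (Cfsg.pPrimeCore p A), ← Subgroup.map_eq_bot_iff, ← hqA, hmap, h]
    have h2 : K.map f = ⊥ := Terminal.map_eq_bot_of_coprime f (Terminal.pQuasi_of_isPComponent hK).gen
      h1 (Cores.coprime_card_pPrimeCore p)
    rw [Subgroup.map_eq_bot_iff] at h2
    have h3 := (IsPComponent.dvd_card hK).trans (card_dvd_of_le h2)
    exact hp.out.coprime_iff_not_dvd.mp hk.symm h3
  refine isPComponent_of_no_pPrime_quotient (hK.1.map hf) ?_ fun N hN hidx => ?_
  · rw [← hqA, hmap]
    exact IsComponent.map hK.2.1 hφ hne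
  · exact Terminal.no_pPrime_quotient_of_gen
      (Terminal.pGen_map_self f (Terminal.pQuasi_of_isPComponent hK).gen) N hN hidx

/-- Centralisers of involutions lift over normal subgroups of odd order. -/
theorem exists_fixed_lift {Y : Type u} [Group Y] [Finite Y] (N : Subgroup Y) [N.Normal]
    (hN : (Nat.card N).Coprime 2) {x g : Y} (hx : x * x = 1)
    (h : QuotientGroup.mk' N g * QuotientGroup.mk' N x =
      QuotientGroup.mk' N x * QuotientGroup.mk' N g) :
    ∃ c ∈ centralizer ({x} : Set Y), QuotientGroup.mk' N c = QuotientGroup.mk' N g := by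
  set u := x⁻¹ * (g * x * g⁻¹) with hu
  have huN : u ∈ N := by
    rw [← QuotientGroup.eq_one_iff, ← QuotientGroup.mk'_apply]
    simp only [hu, map_mul, map_inv, h]
    group
  have hxi : x⁻¹ = x := inv_eq_of_mul_eq_one_left hx
  have hinv : x * u * x⁻¹ = u⁻¹ := by
    rw [hu, mul_inv_rev, inv_inv, mul_inv_rev, mul_inv_rev, inv_inv, hxi]
    calc x * (x * (g * x * g⁻¹)) * x = (x * x) * (g * x * g⁻¹) * x := by group
      _ = g * (x * g⁻¹) * x := by rw [hx]; group
  obtain ⟨m, hm⟩ : Odd (orderOf u) := Nat.coprime_two_right.mp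
    (hN.coprime_dvd_left (N.orderOf_dvd_natCard huN))
  set w := u ^ (m + 1) with hw
  have hw2 : w * w = u := by
    rw [hw, ← pow_add, show m + 1 + (m + 1) = orderOf u + 1 by omega, pow_succ, pow_orderOf_eq_one,
      one_mul]
  have hxw : x * w = w⁻¹ * x := by
    have h1 : x * w * x⁻¹ = w⁻¹ := by rw [hw, ← conj_pow, hinv, inv_pow]
    rw [← h1]; group
  have hconj : g * x * g⁻¹ = w⁻¹ * x * w := by
    rw [← hxw, mul_assoc x w w, hw2, hu]; group
  refine ⟨w * g, mem_centralizer_singleton_iff.mpr ?_, ?_⟩
  · calc w * g * x = w * (g * x * g⁻¹) * g := by group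
      _ = x * (w * g) := by rw [hconj]; group
  · rw [map_mul, (show QuotientGroup.mk' N w = 1 from
      (QuotientGroup.eq_one_iff _).mpr (N.pow_mem huN _)), one_mul]

/-- A component of even order centralises every subgroup of odd order it normalises. -/
theorem component_centralizes_odd {H : Type u} [Group H] [Finite H] {K E : Subgroup H}
    (hK : Cfsg.IsComponent K) (h2 : 2 ∣ Nat.card K) (hE : (Nat.card E).Coprime 2)
    (hn : K ≤ normalizer (E : Set H)) : ⁅K, E⁆ = ⊥ := by
  set M := K ⊔ E
  have hKM : Cfsg.IsComponent (K.subgroupOf M) := ⟨hK.1.subgroupOf,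
    IsQuasisimple.of_mulEquiv hK.2 (subgroupOfEquivOfLe (le_sup_left : K ≤ M)).symm⟩
  haveI : (E.subgroupOf M).Normal :=
    (normal_subgroupOf_iff_le_normalizer le_sup_right).mpr (sup_le hn Subgroup.le_normalizer)
  rcases IsComponent.le_or_commutator_eq_bot_of_normal hKM (E.subgroupOf M) with h | h
  · exfalso
    have h1 : K ≤ E := fun k hk => h (show (⟨k, mem_sup_left hk⟩ : M) ∈ K.subgroupOf M from hk)
    exact Nat.prime_two.coprime_iff_not_dvd.mp hE.symm (h2.trans (card_dvd_of_le h1))
  · have h1 := congrArg (Subgroup.map M.subtype) h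
    rwa [map_commutator, map_subgroupOf_eq_of_le le_sup_left,
      map_subgroupOf_eq_of_le le_sup_right, Subgroup.map_bot] at h1

end CfsgLib.Components.BQuotient
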