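import Cfsg.Prelude.Def_EvenTechniques
import Cfsg.Agent.Lib.Components.Constrained
import Cfsg.Agent.Lib.PGroup.CountPElements

/-!
Bender's uniqueness theorem for a pair of maximal subgroups.
-/

set_option autoImplicit false
set_option linter.style.haveILetI false
set_option linter.unusedSectionVars false

namespace CfsgLib.Components.Bender

open Subgroup CfsgLib.Solvable
open scoped commutatorElement

variable {G : Type*} [Group G] [Finite G]

/-- `O_q(M)` inside `G`. -/
def coreIn (q : ℕ) (M : Subgroup G) : Subgroup G := (Cfsg.pCore q ↥M).map M.subtype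

/-- `F(M)` inside `G`. -/
def fitIn (M : Subgroup G) : Subgroup G := (Cfsg.fittingSubgroup ↥M).map M.subtype

/-- `E(M)` inside `G`. -/
def layerIn (M : Subgroup G) : Subgroup G := (Cfsg.layer ↥M).map M.subtype

theorem coreIn_le (q : ℕ) (M : Subgroup G) : coreIn q M ≤ M := map_subtype_le _

theorem isPGroup_coreIn (q : ℕ) (M : Subgroup G) : IsPGroup q (coreIn q M) :=
  (Cores.isPGroup_pCore q).map _

theorem le_normalizer_coreIn (q : ℕ) (M : Subgroup G) : M ≤ normalizer (coreIn q M : Set G) :=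
  fun _ hg => map_subtype_normal_of_characteristic (Subgroup.le_normalizer hg)

theorem le_normalizer_layerIn (M : Subgroup G) : M ≤ normalizer (layerIn M : Set G) :=
  fun _ hg => map_subtype_normal_of_characteristic (Subgroup.le_normalizer hg)

theorem coreIn_le_fitIn (q : ℕ) [Fact q.Prime] (M : Subgroup G) : coreIn q M ≤ fitIn M :=
  Subgroup.map_mono (Cores.pCore_le_fittingSubgroup q)

/-- A `q`-element of `F(M)` lies in `O_q(M)`. -/
theorem mem_coreIn {q : ℕ} [hq : Fact q.Prime] {M : Subgroup G} {x : G} (hx : x ∈ fitIn M)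
    (hxq : IsPGroup q (zpowers x)) : x ∈ coreIn q M := by
  obtain ⟨x, hxF, rfl⟩ := hx
  refine ⟨x, ?_, rfl⟩
  set F := Cfsg.fittingSubgroup ↥M
  have hp : IsPGroup q ↥(zpowers (⟨x, hxF⟩ : F)) := by
    obtain ⟨k, hk⟩ := hxq ⟨_, mem_zpowers _⟩
    intro z
    obtain ⟨n, hn⟩ := mem_zpowers_iff.mp z.2
    refine ⟨k, Subtype.ext ?_⟩
    have h1 : (⟨x, hxF⟩ : F) ^ q ^ k = 1 :=
      Subtype.ext (Subtype.ext (by
        have h2 := congrArg Subtype.val hk
        rw [Subgroup.coe_pow, Subgroup.coe_one] at h2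
        exact h2))
    rw [Subgroup.coe_pow, ← hn, ← zpow_natCast, ← zpow_mul, mul_comm, zpow_mul, zpow_natCast, h1,
      _root_.one_zpow, Subgroup.coe_one]
  obtain ⟨P, hP⟩ := hp.exists_le_sylow
  haveI hPn : (P : Subgroup F).Normal :=
    (((Group.isNilpotent_of_finite_tfae (G := F)).out 0 3 :).mp inferInstance) q ⟨hq.out⟩ P
  haveI : Subsingleton (Sylow q F) := by
    haveI := Sylow.unique_of_normal P hPn; infer_instance
  haveI : (P : Subgroup F).Characteristic := Sylow.characteristic_of_normal P hPn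
  haveI : ((P : Subgroup F).map F.subtype).Normal := inferInstance
  exact Cores.le_pCore (P.isPGroup'.map F.subtype) ⟨⟨x, hxF⟩, hP (mem_zpowers _), rfl⟩

/-- A subgroup of `F(M)` is generated by its intersections with the `O_s(M)`. -/
theorem le_of_parts {M H T : Subgroup G} (hH : H ≤ fitIn M)
    (h : ∀ s : ℕ, s.Prime → s ∣ Nat.card H → coreIn s M ⊓ H ≤ T) : H ≤ T := by
  refine subgroupOf_eq_top.mp (Cores.eq_top_of_sylow_le (T.subgroupOf H) fun s hs => ?_)
  haveI := Fact.mk hs
  obtain ⟨P⟩ : Nonempty (Sylow s H) := inferInstance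
  refine ⟨P, fun x hx => ?_⟩
  by_cases hd : s ∣ Nat.card H
  · refine h s hs hd ⟨mem_coreIn (hH x.2) ?_, x.2⟩
    have := (P.isPGroup'.to_le (zpowers_le.mpr hx)).map H.subtype
    rwa [MonoidHom.map_zpowers] at this
  · have hb : (P : Subgroup H) = ⊥ := by
      obtain ⟨n, hn⟩ := IsPGroup.iff_card.mp P.isPGroup'
      refine Subgroup.eq_bot_of_card_eq _ ?_
      rcases Nat.eq_zero_or_pos n with rfl | hpos
      · simpa using hn
      · exact absurd ((dvd_pow_self s hpos.ne').trans (hn ▸ card_subgroup_dvd_card _)) hd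
    rw [hb, mem_bot] at hx
    rw [hx]; exact one_mem _

theorem coreIn_inf_eq_bot {q s : ℕ} [Fact q.Prime] [Fact s.Prime] (hne : q ≠ s) (M N : Subgroup G) :
    coreIn q M ⊓ coreIn s N = ⊥ :=
  (isPGroup_coreIn q M).disjoint_of_ne q s hne _ _ (isPGroup_coreIn s N) |>.eq_bot

theorem commutator_eq_bot_of_normalize {A B : Subgroup G} (hAB : A ≤ normalizer (B : Set G))
    (hBA : B ≤ normalizer (A : Set G)) (h : A ⊓ B = ⊥) : A ≤ centralizer (B : Set G) := by
  rw [← commutator_eq_bot_iff_le_centralizer, eq_bot_iff, ← h]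
  exact le_inf (commutator_le_left_of_le_normalizer hBA) (commutator_le_right_of_le_normalizer hAB)

theorem coreIn_le_centralizer {q s : ℕ} [Fact q.Prime] [Fact s.Prime] (hne : q ≠ s) (M : Subgroup G) :
    coreIn q M ≤ centralizer (coreIn s M : Set G) :=
  commutator_eq_bot_of_normalize ((coreIn_le q M).trans (le_normalizer_coreIn s M))
    ((coreIn_le s M).trans (le_normalizer_coreIn q M)) (coreIn_inf_eq_bot hne M M)

theorem layerIn_le_centralizer (q : ℕ) [Fact q.Prime] (M : Subgroup G) :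
    layerIn M ≤ centralizer (coreIn q M : Set G) := by
  haveI := Cores.pCore_isNilpotent (G := M) q
  haveI : Group.IsSolvable ↥(Cfsg.pCore q ↥M) := inferInstance
  rw [← commutator_eq_bot_iff_le_centralizer, layerIn, coreIn, ← map_commutator,
    layer_commutator_solvable_eq_bot, Subgroup.map_bot]

theorem dvd_card_fitting_iff {M : Subgroup G} {q : ℕ} [hq : Fact q.Prime] :
    q ∣ Nat.card ↥(Cfsg.fittingSubgroup ↥M) ↔ coreIn q M ≠ ⊥ := by
  constructor
  · intro hd hb
    obtain ⟨x, hx⟩ := exists_prime_orderOf_dvd_card' (G := ↥(Cfsg.fittingSubgroup ↥M)) q hd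
    have hx' : ((x : M) : G) ∈ coreIn q M := mem_coreIn ⟨x, x.2, rfl⟩
      (IsPGroup.of_card (n := 1) (by
        rw [Nat.card_zpowers, Subgroup.orderOf_coe, Subgroup.orderOf_coe, hx, pow_one]))
    rw [hb, mem_bot] at hx'
    have : x = 1 := Subtype.ext (Subtype.ext hx')
    rw [this, orderOf_one] at hx
    exact hq.out.ne_one hx.symm
  · intro hne
    obtain ⟨k, hk⟩ := IsPGroup.iff_card.mp (isPGroup_coreIn q M)
    have hk0 : k ≠ 0 := by
      rintro rfl
      exact hne (Subgroup.eq_bot_of_card_eq _ (by simpa using hk))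
    have h := (dvd_pow_self q hk0).trans (hk ▸ card_dvd_of_le (coreIn_le_fitIn q M))
    rwa [fitIn, card_map_of_injective M.subtype_injective] at h

/-- Elements centralising every `O_s(M)` and `E(M)` lie in `F(M)`. -/
theorem mem_fitIn_of_centralizes {M : Subgroup G} {x : G} (hxM : x ∈ M)
    (hF : ∀ s : ℕ, s.Prime → x ∈ centralizer (coreIn s M : Set G))
    (hE : x ∈ centralizer (layerIn M : Set G)) : x ∈ fitIn M := by
  refine ⟨⟨x, hxM⟩, centralizer_generalizedFitting_le_fitting ?_, rfl⟩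
  suffices h : Cfsg.generalizedFittingSubgroup ↥M ≤ centralizer {(⟨x, hxM⟩ : M)} from
    mem_centralizer_iff.mpr fun y hy => mem_centralizer_singleton_iff.mp (h hy)
  have hE' : fitIn M ≤ centralizer {x} := le_of_parts le_rfl fun s hs _ y hy =>
    mem_centralizer_singleton_iff.mpr (mem_centralizer_iff.mp (hF s hs) y hy.1)
  refine sup_le ?_ ?_
  · intro y hy
    exact mem_centralizer_singleton_iff.mpr (Subtype.ext
      (mem_centralizer_iff.mp hE y ⟨y, hy, rfl⟩))
  · intro y hy
    exact mem_centralizer_singleton_iff.mpr (Subtype.ext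
      (mem_centralizer_singleton_iff.mp (hE' ⟨y, hy, rfl⟩)))

/-- The data of `M ⇝ N`. -/
structure Arrow (M N : Subgroup G) where
  Q : Subgroup G
  ne_bot : Q ≠ ⊥
  le_fit : Q ≤ fitIn M
  le_N : Q ≤ N
  layer_le : layerIn M ≤ N
  cent_le : ∀ q : ℕ, q.Prime → ∀ x ∈ coreIn q M, x ∈ centralizer ((Q ⊓ coreIn q M : Subgroup G) : Set G) → x ∈ N

theorem exists_arrow {M N : Subgroup G} (h : Cfsg.leadsTo M N) : Nonempty (Arrow M N) := by
  obtain ⟨Q, hQ1, hQF, hN⟩ := h
  have hfit : fitIn M ≤ (Cfsg.generalizedFittingSubgroup ↥M).map M.subtype :=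
    Subgroup.map_mono fittingSubgroup_le_generalizedFittingSubgroup
  have hcent : ∀ x ∈ (Cfsg.generalizedFittingSubgroup ↥M).map M.subtype,
      x ∈ centralizer (Q : Set G) → x ∈ N := fun x hx hc =>
    hN ⟨hx, centralizer_le_normalizer _ hc⟩
  refine ⟨⟨Q, hQ1, hQF, fun x hx => hN ⟨hfit (hQF hx), Subgroup.le_normalizer hx⟩, ?_, ?_⟩⟩
  · intro x hx
    refine hcent x (Subgroup.map_mono layer_le_generalizedFittingSubgroup hx) ?_
    suffices hs : Q ≤ centralizer {x} from
      mem_centralizer_iff.mpr fun y hy => mem_centralizer_singleton_iff.mp (hs hy)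
    refine le_of_parts hQF fun s hs _ y hy => ?_
    haveI := Fact.mk hs
    exact mem_centralizer_singleton_iff.mpr (mem_centralizer_iff.mp (layerIn_le_centralizer s M hx) y hy.1)
  · intro q hq x hx hxc
    haveI := Fact.mk hq
    refine hcent x (hfit (coreIn_le_fitIn q M hx)) ?_
    suffices hs : Q ≤ centralizer {x} from
      mem_centralizer_iff.mpr fun y hy => mem_centralizer_singleton_iff.mp (hs hy)
    refine le_of_parts hQF fun s hs _ y hy => ?_
    haveI := Fact.mk hs
    rw [mem_centralizer_singleton_iff]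
    by_cases hsq : s = q
    · subst hsq
      exact mem_centralizer_iff.mp hxc y ⟨hy.2, hy.1⟩
    · exact mem_centralizer_iff.mp (coreIn_le_centralizer (Ne.symm hsq) M hx) y hy.1

variable {M N : Subgroup G}

/-- `N(U) ≤ M` for the nontrivial normal subgroups `U` of `M`. -/
def IsUniq (M : Subgroup G) : Prop :=
  ∀ U : Subgroup G, U ≠ ⊥ → U ≤ M → M ≤ normalizer (U : Set G) → normalizer (U : Set G) ≤ M

theorem isUniq_of_isCoatom [IsSimpleGroup G] (hM : IsCoatom M) : IsUniq M := by
  intro U hU hUM hMU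
  rcases hM.le_iff.mp hMU with h | h
  · exfalso
    haveI : U.Normal := normalizer_eq_top_iff.mp h
    rcases IsSimpleGroup.eq_bot_or_eq_top_of_normal U inferInstance with h' | h'
    · exact hU h'
    · exact hM.1 (top_le_iff.mp (h' ▸ hUM))
  · exact h.le

theorem Arrow.center_le (a : Arrow M N) {q : ℕ} [hq : Fact q.Prime] :
    coreIn q M ⊓ centralizer (coreIn q M : Set G) ≤ N := fun x hx =>
  a.cent_le q hq.out x hx.1 (centralizer_le (SetLike.coe_subset_coe.mpr inf_le_right) hx.2)

theorem center_ne_bot {q : ℕ} [hq : Fact q.Prime] (hne : coreIn q M ≠ ⊥) :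
    coreIn q M ⊓ centralizer (coreIn q M : Set G) ≠ ⊥ := by
  haveI hn : Nontrivial (coreIn q M) := (Subgroup.nontrivial_iff_ne_bot _).mpr hne
  haveI := (isPGroup_coreIn q M).center_nontrivial
  obtain ⟨z, hz⟩ := exists_ne (1 : center (coreIn q M))
  intro hb
  refine hz (Subtype.ext (Subtype.ext ?_))
  refine mem_bot.mp (hb ▸ (⟨(z : coreIn q M).2, mem_centralizer_iff.mpr fun y hy => ?_⟩ :
    ((z : coreIn q M) : G) ∈ coreIn q M ⊓ centralizer (coreIn q M : Set G)))
  exact congrArg Subtype.val (mem_center_iff.mp z.2 ⟨y, hy⟩)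

theorem centralizer_center_le (hM : IsUniq M) {q : ℕ} [hq : Fact q.Prime] (hne : coreIn q M ≠ ⊥) :
    centralizer ((coreIn q M ⊓ centralizer (coreIn q M : Set G) : Subgroup G) : Set G) ≤ M := by
  refine (centralizer_le_normalizer _).trans (hM _ ?_ (inf_le_left.trans (coreIn_le q M)) ?_)
  · exact center_ne_bot hne
  · intro g hg
    have h1 := mem_normalizer_iff_map_conj_eq.mp (le_normalizer_coreIn q M hg)
    rw [mem_normalizer_iff_map_conj_eq, Subgroup.map_inf _ _ _ (MulAut.conj g).injective, h1]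
    congr 1
    ext c
    simp only [Subgroup.mem_map, mem_centralizer_iff, SetLike.mem_coe]
    constructor
    · rintro ⟨d, hd, rfl⟩ x hx
      obtain ⟨y, hy, rfl⟩ := (h1.ge hx)
      rw [← map_mul, hd y hy, map_mul]
    · intro hc
      refine ⟨g⁻¹ * c * g, fun y hy => ?_, by simp [mul_assoc]⟩
      have h : (g * y * g⁻¹) * c = c * (g * y * g⁻¹) := hc _ (h1.le ⟨y, hy, rfl⟩)
      calc y * (g⁻¹ * c * g) = g⁻¹ * ((g * y * g⁻¹) * c) * g := by group
        _ = g⁻¹ * (c * (g * y * g⁻¹)) * g := by rw [h]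
        _ = g⁻¹ * c * g * y := by group

/-- `O_r(M) ∩ N` centralises `O_q(N)`, for primes `q ≠ r` of `F(M)`. -/
theorem Arrow.inf_le_centralizer (a : Arrow M N) (hM : IsUniq M) {q r : ℕ} [hq : Fact q.Prime]
    [Fact r.Prime] (hne : q ≠ r) (hqM : coreIn q M ≠ ⊥) :
    coreIn r M ⊓ N ≤ centralizer (coreIn q N : Set G) := by
  intro g hg
  refine mem_centralizer_of_prod (P := coreIn q M ⊓ N) ((isPGroup_coreIn q M).to_le inf_le_left)
    (isPGroup_coreIn q N) (inf_le_right.trans (le_normalizer_coreIn q N)) ?_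
    (le_normalizer_coreIn q N hg.2) ?_ (mem_centralizer_iff.mpr fun w hw => ?_)
  · obtain ⟨k, hk⟩ := isPGroup_coreIn r M ⟨g, hg.1⟩
    exact ((Nat.coprime_primes Fact.out Fact.out).mpr hne.symm |>.pow_left k).coprime_dvd_left
      (orderOf_dvd_of_pow_eq_one (by simpa using congrArg Subtype.val hk))
  · exact centralizer_le (SetLike.coe_subset_coe.mpr inf_le_left)
      (coreIn_le_centralizer (Ne.symm hne) M hg.1)
  · have hwq : w ∈ coreIn q N := hw.1
    have hwN : w ∈ N := coreIn_le q N hwq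
    have hwM : w ∈ M := centralizer_center_le hM hqM
      (centralizer_le (SetLike.coe_subset_coe.mpr (le_inf inf_le_left a.center_le)) hw.2)
    have hc : ⁅w, g⁆ ∈ coreIn r M ⊓ coreIn q N := by
      refine ⟨?_, ?_⟩
      · rw [commutatorElement_def]
        exact (coreIn r M).mul_mem ((mem_normalizer_iff.mp (le_normalizer_coreIn r M hwM) g).mp hg.1)
          ((coreIn r M).inv_mem hg.1)
      · rw [commutatorElement_def, mul_assoc, mul_assoc]
        refine (coreIn q N).mul_mem hwq ?_
        rw [← mul_assoc]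
        exact (mem_normalizer_iff.mp (le_normalizer_coreIn q N hg.2) _).mp ((coreIn q N).inv_mem hwq)
    rw [coreIn_inf_eq_bot (Ne.symm hne), mem_bot, commutatorElement_eq_one_iff_mul_comm] at hc
    exact hc

/-- Bender: `O_π(F(N)) ≤ M` when `π` has two primes. -/
theorem Arrow.coreIn_le_of_two (a : Arrow M N) (hM : IsUniq M) {q r : ℕ} [Fact q.Prime]
    [Fact r.Prime] (hne : q ≠ r) (hqM : coreIn q M ≠ ⊥) (hrM : coreIn r M ≠ ⊥) :
    coreIn q N ≤ M := by
  refine le_trans ?_ (centralizer_center_le hM hrM)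
  rw [le_centralizer_iff]
  exact (le_inf inf_le_left a.center_le).trans (a.inf_le_centralizer hM hne hqM)

/-- Bender: `O_{π'}(F(N)) ∩ M = 1`. -/
theorem Arrow.coreIn_inf_eq_bot (a : Arrow M N) {s : ℕ} [hs : Fact s.Prime] (hsM : coreIn s M = ⊥) :
    coreIn s N ⊓ M = ⊥ := by
  rw [eq_bot_iff]
  intro x hx
  set X := coreIn s N ⊓ M with hX
  have hMN : ∀ g ∈ M, g ∈ N → g ∈ normalizer (X : Set G) := fun g hgM hgN =>
    inf_normalizer_le_normalizer_inf ⟨le_normalizer_coreIn s N hgN, Subgroup.le_normalizer hgM⟩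
  have hxcent : ∀ q : ℕ, q.Prime → x ∈ centralizer (coreIn q M : Set G) := by
    intro q hq
    haveI := Fact.mk hq
    by_cases hqs : q = s
    · subst hqs
      rw [hsM]
      exact mem_centralizer_iff.mpr fun y hy => by simp [mem_bot.mp hy]
    have hxM : x ∈ M := hx.2
    have hxN : x ∈ N := coreIn_le s N hx.1
    have hcomm : ∀ y ∈ coreIn q M, y ∈ N → y * x = x * y := by
      intro y hy hyN
      have hc : ⁅y, x⁆ ∈ coreIn s N ⊓ coreIn q M := by
        refine ⟨?_, ?_⟩
        · rw [commutatorElement_def]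
          exact (coreIn s N).mul_mem ((mem_normalizer_iff.mp (le_normalizer_coreIn s N hyN) x).mp hx.1)
            ((coreIn s N).inv_mem hx.1)
        · rw [commutatorElement_def, mul_assoc, mul_assoc]
          refine (coreIn q M).mul_mem hy ?_
          rw [← mul_assoc]
          exact (mem_normalizer_iff.mp (le_normalizer_coreIn q M hxM) _).mp ((coreIn q M).inv_mem hy)
      rw [Bender.coreIn_inf_eq_bot (Ne.symm hqs), mem_bot, commutatorElement_eq_one_iff_mul_comm] at hc
      exact hc
    refine mem_centralizer_of_prod (P := a.Q ⊓ coreIn q M)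
      ((isPGroup_coreIn q M).to_le inf_le_right) (isPGroup_coreIn q M)
      (inf_le_right.trans Subgroup.le_normalizer) ?_ (le_normalizer_coreIn q M hxM)
      (mem_centralizer_iff.mpr fun y hy => hcomm y hy.2 (a.le_N hy.1))
      (mem_centralizer_iff.mpr fun y hy => hcomm y hy.1 (a.cent_le q hq y hy.1 hy.2))
    obtain ⟨k, hk⟩ := isPGroup_coreIn s N ⟨x, hx.1⟩
    exact ((Nat.coprime_primes hs.out hq).mpr (Ne.symm hqs) |>.pow_left k).coprime_dvd_left
      (orderOf_dvd_of_pow_eq_one (by simpa using congrArg Subtype.val hk))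
  have hXsol : Group.IsSolvable X := by
    haveI := ((isPGroup_coreIn s N).to_le (inf_le_left : X ≤ _)).isNilpotent
    infer_instance
  have hxE : x ∈ centralizer (layerIn M : Set G) := by
    have hXM : X ≤ M := inf_le_right
    haveI : Group.IsSolvable ↥(X.subgroupOf M) :=
      Group.isSolvable_of_isSolvable_injective
        (f := (subgroupOfEquivOfLe hXM).toMonoidHom) (subgroupOfEquivOfLe hXM).injective
    suffices hs' : Cfsg.layer ↥M ≤ centralizer {(⟨x, hx.2⟩ : M)} by
      refine mem_centralizer_iff.mpr ?_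
      rintro _ ⟨y, hy, rfl⟩
      exact congrArg Subtype.val (mem_centralizer_singleton_iff.mp (hs' hy))
    rw [layer_le_iff]
    intro L hL
    have h := IsComponent.commutator_solvable_eq_bot hL (N := X.subgroupOf M) (fun l hl =>
      mem_normalizer_iff.mpr fun y =>
        mem_normalizer_iff.mp (hMN l l.2 (a.layer_le ⟨l, IsComponent.le_layer hL hl, rfl⟩)) y)
    rw [commutator_eq_bot_iff_le_centralizer] at h
    intro l hl
    exact mem_centralizer_singleton_iff.mpr
      (mem_centralizer_iff.mp (h hl) ⟨x, hx.2⟩ (show (⟨x, hx.2⟩ : M) ∈ X.subgroupOf M from hx)).symm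
  have hxF : x ∈ fitIn M := mem_fitIn_of_centralizes hx.2 hxcent hxE
  have h1 : x ∈ coreIn s M := mem_coreIn hxF
    ((isPGroup_coreIn s N).to_le (zpowers_le.mpr hx.1))
  rw [hsM] at h1
  exact h1

/-- Every component of `N` is a component of `M` when `M ⇝ N`, `N ⇝ M`. -/
theorem layerIn_le_of_arrow (a : Arrow M N) (b : Arrow N M) : layerIn N ≤ layerIn M := by
  rw [layerIn, map_le_iff_le_comap, layer_le_iff]
  intro L hL
  by_contra hLE
  have hLg : L.map N.subtype ≤ M := fun x hx => by
    obtain ⟨l, hl, rfl⟩ := hx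
    exact b.layer_le ⟨l, IsComponent.le_layer hL hl, rfl⟩
  set H := M ⊓ N with hH
  -- `L` as a component of `M ∩ N`
  let i₁ : ↥(H.subgroupOf N) ≃* H := subgroupOfEquivOfLe inf_le_right
  have hLH : L ≤ H.subgroupOf N := fun l hl => ⟨hLg (mem_map_of_mem _ hl), l.2⟩
  set L' := (L.subgroupOf (H.subgroupOf N)).map i₁.toMonoidHom with hL'
  have hL'c : Cfsg.IsComponent L' := IsComponent.mapEquiv (IsComponent.subgroupOf hL hLH) i₁
  have hcentE : ∀ l ∈ L, (l : G) ∈ centralizer (layerIn M : Set G) := by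
    intro l hl
    suffices hs' : Cfsg.layer ↥M ≤ (centralizer {(l : G)}).comap M.subtype by
      refine mem_centralizer_iff.mpr ?_
      rintro _ ⟨y, hy, rfl⟩
      exact mem_centralizer_singleton_iff.mp (hs' hy)
    rw [layer_le_iff]
    intro K hK
    let i₂ : ↥(H.subgroupOf M) ≃* H := subgroupOfEquivOfLe inf_le_left
    have hKH : K ≤ H.subgroupOf M := fun k hk => ⟨k.2, a.layer_le ⟨k, IsComponent.le_layer hK hk, rfl⟩⟩
    have hK'c : Cfsg.IsComponent ((K.subgroupOf (H.subgroupOf M)).map i₂.toMonoidHom) :=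
      IsComponent.mapEquiv (IsComponent.subgroupOf hK hKH) i₂
    have hne : L' ≠ (K.subgroupOf (H.subgroupOf M)).map i₂.toMonoidHom := by
      intro h
      refine hLE fun l' hl' => ?_
      obtain ⟨k, hk, hkl⟩ := h.le (show i₁ ⟨l', hLH hl'⟩ ∈ L' from ⟨⟨l', hLH hl'⟩, hl', rfl⟩)
      exact ⟨k.1, IsComponent.le_layer hK hk, congrArg (fun x : H => (x : G)) hkl⟩
    intro k hk
    show (k : G) ∈ centralizer {(l : G)}
    rw [mem_centralizer_singleton_iff]
    exact (congrArg Subtype.val (mem_centralizer_iff.mp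
      (IsComponent.le_centralizer_of_ne hL'c hK'c hne ⟨⟨l, hLH hl⟩, hl, rfl⟩)
      (i₂ ⟨k, hKH hk⟩) ⟨⟨k, hKH hk⟩, hk, rfl⟩))
  have hcore : ∀ q : ℕ, q.Prime → L.map N.subtype ≤ centralizer (coreIn q M : Set G) := by
    intro q hq
    haveI := Fact.mk hq
    set Pq := coreIn q M ⊓ N with hPq
    have hPqH : Pq ≤ H := le_inf (inf_le_left.trans (coreIn_le q M)) inf_le_right
    haveI : Group.IsSolvable ↥(Pq.subgroupOf H) := by
      haveI := ((isPGroup_coreIn q M).to_le (inf_le_left : Pq ≤ _)).isNilpotent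
      exact Group.isSolvable_of_isSolvable_injective
        (f := (subgroupOfEquivOfLe hPqH).toMonoidHom) (subgroupOfEquivOfLe hPqH).injective
    have hnorm : L' ≤ normalizer ((Pq.subgroupOf H : Subgroup H) : Set H) := fun l hl =>
      mem_normalizer_iff.mpr fun y => mem_normalizer_iff.mp
        (inf_normalizer_le_normalizer_inf
          ⟨le_normalizer_coreIn q M l.2.1, Subgroup.le_normalizer l.2.2⟩) y
    have h0 := commutator_eq_bot_iff_le_centralizer.mp
      (IsComponent.commutator_solvable_eq_bot hL'c hnorm)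
    have hcP : ∀ l ∈ L, ∀ y ∈ Pq, y * (l : G) = (l : G) * y := fun l hl y hy =>
      congrArg Subtype.val (mem_centralizer_iff.mp (h0 ⟨⟨l, hLH hl⟩, hl, rfl⟩) ⟨y, hPqH hy⟩ hy)
    haveI := hL.2.1
    rw [map_le_iff_le_comap]
    refine perfect_le_of_pPrime_elements (p := q) hL.2.1 fun l hl hlq => ?_
    show (l : G) ∈ centralizer (coreIn q M : Set G)
    exact mem_centralizer_of_prod (P := a.Q ⊓ coreIn q M)
      ((isPGroup_coreIn q M).to_le inf_le_right) (isPGroup_coreIn q M)
      (inf_le_right.trans Subgroup.le_normalizer) (by rwa [Subgroup.orderOf_coe])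
      (le_normalizer_coreIn q M (hLg (mem_map_of_mem _ hl)))
      (mem_centralizer_iff.mpr fun y hy => hcP l hl y ⟨hy.2, a.le_N hy.1⟩)
      (mem_centralizer_iff.mpr fun y hy => hcP l hl y ⟨hy.1, a.cent_le q hq y hy.1 hy.2⟩)
  have hLF : L.map N.subtype ≤ fitIn M := fun x hx => by
    obtain ⟨l, hl, rfl⟩ := hx
    exact mem_fitIn_of_centralizes (hLg (mem_map_of_mem _ hl))
      (fun s hs => hcore s hs (mem_map_of_mem _ hl)) (hcentE l hl)
  refine IsComponent.not_isSolvable hL ?_
  haveI : Group.IsNilpotent ↥(fitIn M) :=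
    Group.nilpotent_of_surjective _ (MonoidHom.subgroupMap_surjective M.subtype _)
  exact Group.isSolvable_of_isSolvable_injective
    (f := (inclusion hLF).comp (L.equivMapOfInjective N.subtype N.subtype_injective).toMonoidHom)
    ((inclusion_injective hLF).comp (MulEquiv.injective _))

/-- `O_q(M) ≤ O_q(N)` in the symmetric situation, trivial layers. -/
theorem coreIn_le_coreIn (a : Arrow M N) (hM : IsUniq M)
    (hEN : layerIn N = ⊥) {q r : ℕ} [hq : Fact q.Prime] [hr : Fact r.Prime] (hne : q ≠ r)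
    (hrM : coreIn r M ≠ ⊥)
    (hπ : ∀ s : ℕ, s.Prime → coreIn s N ≠ ⊥ → coreIn s M ≠ ⊥)
    (hMN : ∀ s : ℕ, s.Prime → coreIn s M ≠ ⊥ → coreIn s M ≤ N)
    (hqM : coreIn q M ≠ ⊥) : coreIn q M ≤ coreIn q N := by
  -- centraliser of `O_{q'}(F(N))`
  set Fq := ⨆ s : {s : ℕ // s.Prime ∧ s ≠ q}, coreIn (s : ℕ) N with hFq
  set K := N ⊓ centralizer (Fq : Set G) with hK
  have hFqN : Fq ≤ N := iSup_le fun s => coreIn_le _ _
  have hNFq : N ≤ normalizer (Fq : Set G) := fun g hg => by
    rw [mem_normalizer_iff_map_conj_eq, hFq, Subgroup.map_iSup]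
    exact iSup_congr fun s => mem_normalizer_iff_map_conj_eq.mp (le_normalizer_coreIn _ _ hg)
  have hLK : coreIn q M ≤ K := by
    refine le_inf (hMN q hq.out hqM) ?_
    rw [le_centralizer_iff, hFq]
    refine iSup_le fun s => ?_
    haveI := Fact.mk s.2.1
    rw [le_centralizer_iff]
    by_cases hsN : coreIn (s : ℕ) N = ⊥
    · rw [hsN]
      exact fun x _ => mem_centralizer_iff.mpr fun y hy => by simp [mem_bot.mp hy]
    · exact (le_inf le_rfl (hMN q hq.out hqM)).trans
        (a.inf_le_centralizer hM s.2.2 (hπ s s.2.1 hsN))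
  -- `K`-elements of `q`-power order centralise `R = O_r(M)`
  set R := coreIn r M with hR
  have hRN : R ≤ N := hMN r hr.out hrM
  have hRc : R ≤ centralizer (coreIn q N : Set G) :=
    (le_inf le_rfl hRN).trans (a.inf_le_centralizer hM hne hqM)
  have hkey : ∀ g ∈ K, IsPGroup q (zpowers g) → g ∈ M := by
    intro g hg hgq
    refine centralizer_center_le hM hrM (centralizer_le (SetLike.coe_subset_coe.mpr inf_le_left) ?_)
    refine mem_centralizer_iff.mpr fun x hx => ?_
    have hxc := hRc hx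
    have hz : ⁅g, x⁆ ∈ fitIn N := by
      refine mem_fitIn_of_centralizes ?_ ?_ (by rw [hEN]; exact mem_centralizer_iff.mpr fun y hy => by simp [mem_bot.mp hy])
      · rw [commutatorElement_def]
        exact N.mul_mem (N.mul_mem (N.mul_mem hg.1 (hRN hx)) (N.inv_mem hg.1)) (N.inv_mem (hRN hx))
      · intro s hs
        haveI := Fact.mk hs
        by_cases hsq : s = q
        · subst hsq
          have h1 : g * x * g⁻¹ ∈ centralizer (coreIn s N : Set G) :=
            mem_centralizer_iff.mpr fun y hy => by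
              have hy' : g⁻¹ * y * g ∈ coreIn s N := by
                have := (mem_normalizer_iff.mp (inv_mem (le_normalizer_coreIn s N hg.1)) y).mp hy
                simpa using this
              have h := mem_centralizer_iff.mp hxc _ hy'
              calc y * (g * x * g⁻¹) = g * ((g⁻¹ * y * g) * x) * g⁻¹ := by group
                _ = g * (x * (g⁻¹ * y * g)) * g⁻¹ := by rw [h]
                _ = g * x * g⁻¹ * y := by group
          rw [commutatorElement_def]
          exact mul_mem h1 (inv_mem hxc)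
        · have hgc : g ∈ centralizer (coreIn s N : Set G) :=
            centralizer_le (SetLike.coe_subset_coe.mpr
              (le_iSup (fun s : {s : ℕ // s.Prime ∧ s ≠ q} => coreIn (s : ℕ) N) ⟨s, hs, hsq⟩)) hg.2
          have hxn : x ∈ normalizer (coreIn s N : Set G) := le_normalizer_coreIn s N (hRN hx)
          have hgi : x * g⁻¹ * x⁻¹ ∈ centralizer (coreIn s N : Set G) :=
            mem_centralizer_iff.mpr fun y hy => by
              have hy' : x⁻¹ * y * x ∈ coreIn s N := by
                have := (mem_normalizer_iff.mp (inv_mem hxn) y).mp hy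
                simpa using this
              have h := mem_centralizer_iff.mp (inv_mem hgc) _ hy'
              calc y * (x * g⁻¹ * x⁻¹) = x * ((x⁻¹ * y * x) * g⁻¹) * x⁻¹ := by group
                _ = x * (g⁻¹ * (x⁻¹ * y * x)) * x⁻¹ := by rw [h]
                _ = x * g⁻¹ * x⁻¹ * y := by group
          rw [commutatorElement_def, mul_assoc, mul_assoc]
          rw [← mul_assoc x]
          exact mul_mem hgc hgi
    obtain ⟨zF, hzF, hze⟩ := hz
    obtain ⟨aF, bF, hab, hcomm, ⟨i, hai⟩, hbq⟩ :=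
      PGroup.CountPElements.exists_decomp (p := q) (⟨zF, hzF⟩ : Cfsg.fittingSubgroup ↥N)
    set av := ((aF : N) : G) with hav
    set bv := ((bF : N) : G) with hbv
    have haFit : av ∈ fitIn N := ⟨aF, aF.2, rfl⟩
    have ha : av ∈ coreIn q N := mem_coreIn haFit (IsPGroup.of_card (n := i) (by
      rw [Nat.card_zpowers, hav, Subgroup.orderOf_coe, Subgroup.orderOf_coe, hai]))
    have hb : bv ∈ Fq := by
      have hbFit : zpowers bv ≤ fitIn N := zpowers_le.mpr ⟨bF, bF.2, rfl⟩
      refine (le_of_parts hbFit fun s hs hd => inf_le_left.trans ?_) (mem_zpowers bv)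
      refine le_iSup_of_le ⟨s, hs, fun hsq => hbq ?_⟩ le_rfl
      rw [Nat.card_zpowers, hbv, Subgroup.orderOf_coe, Subgroup.orderOf_coe, hsq] at hd
      exact hd
    have hz' : ⁅g, x⁆ = av * bv := by
      rw [← hze, show av * bv = (((aF * bF : Cfsg.fittingSubgroup ↥N) : N) : G) from rfl, hab]
      rfl
    -- the `q`-part vanishes
    set T := zpowers x ⊔ Fq with hT
    have hxFq : zpowers x ≤ normalizer (Fq : Set G) := zpowers_le.mpr (hNFq (hRN hx))
    have hTc : (Nat.card T).Coprime q := by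
      refine Nat.Coprime.coprime_dvd_left (k := Nat.card Fq * Nat.card (zpowers x)) ?_ ?_
      · haveI : (Fq.subgroupOf N).Normal := (normal_subgroupOf_iff_le_normalizer hFqN).mpr hNFq
        have h := Basic.card_sup_mul (Fq.subgroupOf N) ((zpowers x).subgroupOf N)
        rw [Nat.card_congr (subgroupOfEquivOfLe hFqN).toEquiv,
          Nat.card_congr (subgroupOfEquivOfLe (zpowers_le.mpr (hRN hx))).toEquiv,
          ← subgroupOf_sup (zpowers_le.mpr (hRN hx)) hFqN,
          Nat.card_congr (subgroupOfEquivOfLe (sup_le (zpowers_le.mpr (hRN hx)) hFqN)).toEquiv] at h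
        exact Dvd.intro _ (by rw [mul_comm (Nat.card Fq)]; exact h)
      · refine Nat.Coprime.mul_left ?_ ?_
        · have hFq' : Fq = (⨆ s : {s : ℕ // s.Prime ∧ s ≠ q}, Cfsg.pCore (s : ℕ) ↥N).map N.subtype := by
            rw [Subgroup.map_iSup]; rfl
          rw [hFq', card_map_of_injective N.subtype_injective, iSup]
          refine Cores.coprime_card_sSup q _ (by rintro _ ⟨s, rfl⟩; exact inferInstance) ?_
          rintro _ ⟨s, rfl⟩
          haveI := Fact.mk s.2.1
          exact Cores.coprime_card_pCore (G := N) hq.out s.2.2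
        · obtain ⟨k, hk⟩ := isPGroup_coreIn r M ⟨x, hx⟩
          rw [Nat.card_zpowers]
          exact ((Nat.coprime_primes hr.out hq.out).mpr hne.symm |>.pow_left k).coprime_dvd_left
            (orderOf_dvd_of_pow_eq_one (by simpa using congrArg Subtype.val hk))
    have hbx : bv * x ∈ T := mul_mem (mem_sup_right hb) (mem_sup_left (mem_zpowers x))
    have hbvq : av = 1 := by
      have hac : Commute av (bv * x) := by
        have h1 : Commute av bv := congrArg (fun z : Cfsg.fittingSubgroup ↥N => ((z : N) : G)) hcomm.eq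
        have h2 : Commute av x := mem_centralizer_iff.mp hxc av ha
        exact h1.mul_right h2
      have hconj : g * x * g⁻¹ = av * (bv * x) := by
        rw [← mul_assoc, ← hz', commutatorElement_def]; group
      have hn : (av * (bv * x)) ^ Nat.card T = 1 := by
        rw [← hconj, conj_pow, orderOf_dvd_iff_pow_eq_one.mp (T.orderOf_dvd_natCard (mem_sup_left (mem_zpowers x))), mul_one, mul_inv_cancel]
      rw [hac.mul_pow, orderOf_dvd_iff_pow_eq_one.mp (T.orderOf_dvd_natCard hbx), mul_one] at hn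
      exact orderOf_eq_one_iff.mp (Nat.Coprime.eq_one_of_dvd ((hTc.pow_right i).symm.coprime_dvd_left
        (by rw [hav, Subgroup.orderOf_coe, Subgroup.orderOf_coe, hai])) (orderOf_dvd_of_pow_eq_one hn))
    rw [hbvq, one_mul] at hz'
    have hgb : Commute g bv := (mem_centralizer_iff.mp hg.2 bv hb).symm
    have hpow : ∀ n : ℕ, g ^ n * x * (g ^ n)⁻¹ = bv ^ n * x := by
      intro n
      induction n with
      | zero => simp
      | succ n ih =>
        have h1 : g * x * g⁻¹ = bv * x := by rw [← hz', commutatorElement_def]; group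
        calc g ^ (n + 1) * x * (g ^ (n + 1))⁻¹ = g * (g ^ n * x * (g ^ n)⁻¹) * g⁻¹ := by
              rw [pow_succ']; group
          _ = g * (bv ^ n * x) * g⁻¹ := by rw [ih]
          _ = bv ^ n * (g * x * g⁻¹) := by
              rw [← mul_assoc g, (hgb.pow_right n).eq]; group
          _ = bv ^ (n + 1) * x := by rw [h1, ← mul_assoc, ← pow_succ]
    obtain ⟨k, hk⟩ := hgq ⟨g, mem_zpowers g⟩
    have hk' : g ^ q ^ k = 1 := by simpa using congrArg Subtype.val hk
    have h2 := hpow (q ^ k)
    rw [hk', one_mul, inv_one, mul_one] at h2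
    have hb1 : bv = 1 := by
      have h3 : bv ^ q ^ k = 1 := mul_eq_right.mp h2.symm
      exact orderOf_eq_one_iff.mp (Nat.Coprime.eq_one_of_dvd ((hTc.pow_right k).symm.coprime_dvd_left
        (orderOf_dvd_of_pow_eq_one h3)) (T.orderOf_dvd_natCard (mem_sup_right hb)))
    rw [hb1, commutatorElement_eq_one_iff_mul_comm] at hz'
    exact hz'.symm
  -- the subgroup generated by the `q`-elements of `K`
  set K0 := pGen q K with hK0
  have hNK : N ≤ normalizer (K : Set G) := by
    intro g hg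
    refine Coprime.mem_normalizer_of_conj_map_le fun x hx =>
      ⟨N.mul_mem (N.mul_mem hg hx.1) (N.inv_mem hg), mem_centralizer_iff.mpr fun y hy => ?_⟩
    have hy' : g⁻¹ * y * g ∈ Fq := by
      have := (mem_normalizer_iff.mp (inv_mem (hNFq hg)) y).mp hy
      simpa using this
    have h := mem_centralizer_iff.mp hx.2 _ hy'
    calc y * (g * x * g⁻¹) = g * ((g⁻¹ * y * g) * x) * g⁻¹ := by group
      _ = g * (x * (g⁻¹ * y * g)) * g⁻¹ := by rw [h]
      _ = g * x * g⁻¹ * y := by group
  have hK0M : K0 ≤ M := (closure_le _).mpr fun g hg => hkey g hg.1 (by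
    obtain ⟨k, hk⟩ := hg.2
    obtain ⟨j, -, hj⟩ := (Nat.dvd_prime_pow hq.out).mp (orderOf_dvd_of_pow_eq_one hk)
    exact IsPGroup.of_card (n := j) (by rw [Nat.card_zpowers, hj]))
  have hLK0 : coreIn q M ≤ K0 := fun x hx => subset_closure ⟨hLK hx, by
    obtain ⟨k, hk⟩ := isPGroup_coreIn q M ⟨x, hx⟩
    exact ⟨k, by simpa using congrArg Subtype.val hk⟩⟩
  have hK0N : K0 ≤ N := (pGen_le q K).trans inf_le_left
  -- `O_q(M)` is subnormal in `N`
  haveI : (K0.subgroupOf N).Normal :=
    (normal_subgroupOf_iff_le_normalizer hK0N).mpr (hNK.trans (le_normalizer_pGen q K))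
  haveI hLn : ((coreIn q M).subgroupOf N |>.subgroupOf (K0.subgroupOf N)).Normal := by
    refine (normal_subgroupOf_iff_le_normalizer
      (show (coreIn q M).subgroupOf N ≤ K0.subgroupOf N from fun x hx => hLK0 hx)).mpr fun x hx => ?_
    exact mem_normalizer_iff.mpr fun y => mem_normalizer_iff.mp (le_normalizer_coreIn q M (hK0M hx)) y
  have hmap : ((Cfsg.pCore q ↥(K0.subgroupOf N)).map (K0.subgroupOf N).subtype).map N.subtype ≤
      coreIn q N := Subgroup.map_mono (Cores.map_pCore_le q _)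
  intro x hx
  have hp : IsPGroup q ↥(((coreIn q M).subgroupOf N).subgroupOf (K0.subgroupOf N)) :=
    ((isPGroup_coreIn q M).comap_of_injective N.subtype N.subtype_injective).comap_of_injective
      (K0.subgroupOf N).subtype (subtype_injective _)
  exact hmap ⟨⟨x, hK0N (hLK0 hx)⟩, ⟨⟨⟨x, hK0N (hLK0 hx)⟩, hLK0 hx⟩, Cores.le_pCore hp hx, rfl⟩, rfl⟩

/-- A Sylow subgroup of `F(N)`, inside `G`, lies in `O_q(N)`. -/
theorem sylow_fitting_le_coreIn {q : ℕ} [Fact q.Prime] (R : Sylow q (Cfsg.fittingSubgroup ↥N)) :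
    ((R : Subgroup (Cfsg.fittingSubgroup ↥N)).map (Cfsg.fittingSubgroup ↥N).subtype).map N.subtype ≤
      coreIn q N := fun x hx =>
  mem_coreIn ((Subgroup.map_mono (map_subtype_le _)) hx)
    (((R.isPGroup'.map _).map N.subtype).to_le (zpowers_le.mpr hx))

theorem isPGroup_generalizedFitting {p : ℕ} [Fact p.Prime] (hE : layerIn M = ⊥)
    (h : ∀ s : ℕ, s.Prime → coreIn s M ≠ ⊥ → s = p) :
    IsPGroup p ↥(Cfsg.generalizedFittingSubgroup ↥M) := by
  have hE' : Cfsg.layer ↥M = ⊥ := (Subgroup.map_eq_bot_iff_of_injective _ M.subtype_injective).mp hE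
  have hF : Cfsg.generalizedFittingSubgroup ↥M = Cfsg.fittingSubgroup ↥M := by
    rw [Cfsg.generalizedFittingSubgroup, hE', bot_sup_eq]
  rw [hF]
  have hle : Cfsg.fittingSubgroup ↥M ≤ Cfsg.pCore p ↥M := by
    intro x hx
    have hle' : fitIn M ≤ coreIn p M := le_of_parts le_rfl fun s hs _ => inf_le_left.trans (by
      by_cases hb : coreIn s M = ⊥
      · rw [hb]; exact bot_le
      · rw [h s hs hb])
    obtain ⟨y, hy, hyx⟩ := hle' ⟨x, hx, rfl⟩
    rwa [← M.subtype_injective hyx]
  exact (Cores.isPGroup_pCore p).to_le hle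

/-- Bender: `M ⇝ N ⇝ M` forces `M = N` unless both `F*` are `p`-groups. -/
theorem eq_or_isPGroup [IsSimpleGroup G] (hM : IsCoatom M) (hN : IsCoatom N) (a : Arrow M N)
    (b : Arrow N M) : M = N ∨ ∃ p : ℕ, p.Prime ∧ IsPGroup p ↥(Cfsg.generalizedFittingSubgroup ↥M) ∧
      IsPGroup p ↥(Cfsg.generalizedFittingSubgroup ↥N) := by
  have uM := isUniq_of_isCoatom hM
  have uN := isUniq_of_isCoatom hN
  have fin : ∀ U : Subgroup G, U ≠ ⊥ → U ≤ M → M ≤ normalizer (U : Set G) →
      N ≤ normalizer (U : Set G) → M = N := fun U h1 h2 h3 h4 =>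
    ((hN.le_iff.mp (h4.trans (uM U h1 h2 h3))).resolve_left hM.1)
  have hE := le_antisymm (layerIn_le_of_arrow b a) (layerIn_le_of_arrow a b)
  by_cases hE0 : layerIn M = ⊥
  swap
  · exact Or.inl (fin _ hE0 (map_subtype_le _) (le_normalizer_layerIn M)
      (hE ▸ le_normalizer_layerIn N))
  have hEN : layerIn N = ⊥ := hE ▸ hE0
  have hπ : ∀ {M N : Subgroup G} (_ : Arrow M N) (_ : Arrow N M), ∀ s : ℕ, s.Prime →
      coreIn s N ≠ ⊥ → coreIn s M ≠ ⊥ := by
    intro M N a b s hs hsN hsM
    haveI := Fact.mk hs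
    exact center_ne_bot hsN (le_bot_iff.mp ((le_inf inf_le_left b.center_le).trans
      (a.coreIn_inf_eq_bot hsM).le))
  obtain ⟨p, hp, hpM⟩ : ∃ p : ℕ, p.Prime ∧ coreIn p M ≠ ⊥ := by
    by_contra hc
    push_neg at hc
    exact a.ne_bot (le_bot_iff.mp (le_of_parts a.le_fit fun s hs _ =>
      inf_le_left.trans (hc s hs).le))
  by_cases h1 : ∀ s : ℕ, s.Prime → coreIn s M ≠ ⊥ → s = p
  · haveI := Fact.mk hp
    exact Or.inr ⟨p, hp, isPGroup_generalizedFitting hE0 h1, isPGroup_generalizedFitting hEN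
      fun s hs hsN => h1 s hs (hπ a b s hs hsN)⟩
  · push_neg at h1
    obtain ⟨r, hr, hrM, hrp⟩ := h1
    haveI := Fact.mk hp
    haveI := Fact.mk hr
    have hall : ∀ {M N : Subgroup G} (_ : Arrow N M), IsUniq N → coreIn p N ≠ ⊥ → coreIn r N ≠ ⊥ →
        ∀ s : ℕ, s.Prime → coreIn s N ≠ ⊥ → coreIn s M ≤ N := by
      intro M N b hN' hpN hrN s hs hsN
      haveI := Fact.mk hs
      by_cases hsp : s = p
      · subst hsp
        exact b.coreIn_le_of_two hN' (Ne.symm hrp) hsN hrN
      · exact b.coreIn_le_of_two hN' hsp hsN hpN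
    have hpN := hπ b a p hp hpM
    have hrN := hπ b a r hr hrM
    have e : coreIn p M = coreIn p N := le_antisymm
      (coreIn_le_coreIn a uM hEN (Ne.symm hrp) hrM (hπ a b)
        (fun s hs h => hall b uN hpN hrN s hs (hπ b a s hs h)) hpM)
      (coreIn_le_coreIn b uN hE0 (Ne.symm hrp) hrN (hπ b a)
        (fun s hs h => hall a uM hpM hrM s hs (hπ a b s hs h)) hpN)
    exact Or.inl (fin _ hpM (coreIn_le p M) (le_normalizer_coreIn p M) (e ▸ le_normalizer_coreIn p N))

end CfsgLib.Components.Bender
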