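import Cfsg.Agent.Lib.Components.Bender
import Cfsg.Agent.Lib.Fusion.Basic

/-!
Bender's method: a large subnormal subgroup `S` of `F*(A)`, `A` maximal, controls the cores of the
overgroups of `S`.
-/

set_option autoImplicit false

namespace CfsgLib.Components.BenderOvergroup

open Subgroup CfsgLib.Solvable CfsgLib.Components.Bender
open scoped commutatorElement

variable {G : Type*} [Group G] [Finite G]

/-- `F*(A)` inside `G`. -/
def genIn (A : Subgroup G) : Subgroup G := (Cfsg.generalizedFittingSubgroup ↥A).map A.subtype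

omit [Finite G] in
theorem genIn_eq (A : Subgroup G) : genIn A = layerIn A ⊔ fitIn A := by
  rw [genIn, Cfsg.generalizedFittingSubgroup, Subgroup.map_sup]; rfl

theorem layerIn_le_centralizer_fitIn (A : Subgroup G) :
    layerIn A ≤ centralizer (fitIn A : Set G) := by
  rintro _ ⟨x, hx, rfl⟩
  refine mem_centralizer_iff.mpr ?_
  rintro _ ⟨y, hy, rfl⟩
  exact congrArg Subtype.val (mem_centralizer_iff.mp (layer_le_centralizer_fitting hx) y hy)

theorem genIn_parts {A : Subgroup G} {x : G} (hx : x ∈ genIn A) :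
    ∃ e ∈ layerIn A, ∃ f ∈ fitIn A, e * f = x := by
  rw [genIn_eq, sup_comm] at hx
  obtain ⟨f, hf, e, he, rfl⟩ := exists_mul_of_mem_sup
    ((Subgroup.map_subtype_le _).trans (le_normalizer_layerIn A)) hx
  exact ⟨e, he, f, hf, mem_centralizer_iff.mp (layerIn_le_centralizer_fitIn A he) f hf ▸ rfl⟩

/-- An element centralising `E(A)` and every `O_r(A)`, `r ≠ p`, centralises `O^p(F*(A))`. -/
theorem pResidual_genIn_le {A : Subgroup G} {p : ℕ} [hp : Fact p.Prime] {C : Subgroup G}
    (hE : layerIn A ≤ C) (hr : ∀ r : ℕ, r.Prime → r ≠ p → coreIn r A ≤ C)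
    {y : Cfsg.generalizedFittingSubgroup ↥A}
    (hy : y ∈ Cfsg.pResidual p ↥(Cfsg.generalizedFittingSubgroup ↥A)) : ((y : A) : G) ∈ C := by
  suffices h : Cfsg.pResidual p ↥(Cfsg.generalizedFittingSubgroup ↥A) ≤
      (C.comap A.subtype).comap (Cfsg.generalizedFittingSubgroup ↥A).subtype from h hy
  refine (closure_le _).mpr fun z hz => ?_
  change ((z : A) : G) ∈ C
  set w := ((z : A) : G) with hw
  have hwo : (orderOf w).Coprime p := by
    rw [hw, Subgroup.orderOf_coe, Subgroup.orderOf_coe]; exact hz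
  obtain ⟨e, he, f, hf, hef⟩ := genIn_parts (A := A) (x := w) ⟨z, z.2, rfl⟩
  obtain ⟨f', hf', rfl⟩ := hf
  obtain ⟨a, b, hab, hcomm, ⟨i, hai⟩, hbq⟩ :=
    PGroup.CountPElements.exists_decomp (p := p) (⟨f', hf'⟩ : Cfsg.fittingSubgroup ↥A)
  have hb : ((b : A) : G) ∈ C := by
    have hle : zpowers ((b : A) : G) ≤ fitIn A := zpowers_le.mpr ⟨b, b.2, rfl⟩
    refine (le_of_parts hle fun s hs hd => inf_le_left.trans (hr s hs fun hsp => hbq ?_))
      (mem_zpowers _)
    rw [Nat.card_zpowers, Subgroup.orderOf_coe, Subgroup.orderOf_coe, hsp] at hd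
    exact hd
  have hce : Commute e ((f' : A) : G) :=
    ((mem_centralizer_iff.mp (layerIn_le_centralizer_fitIn A he) _ ⟨f', hf', rfl⟩)).symm
  have hfab : ((f' : A) : G) = ((a : A) : G) * ((b : A) : G) := by
    rw [← Subgroup.coe_mul, ← Subgroup.coe_mul, hab]
  have hab' : Commute ((a : A) : G) ((b : A) : G) :=
    congrArg (fun u : Cfsg.fittingSubgroup ↥A => ((u : A) : G)) hcomm.eq
  have ha1 : ((a : A) : G) ^ p ^ i = 1 := by
    rw [orderOf_dvd_iff_pow_eq_one.mp]
    rw [Subgroup.orderOf_coe, Subgroup.orderOf_coe, hai]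
  have hpow : w ^ p ^ i ∈ C := by
    rw [← hef]
    change (e * ((f' : A) : G)) ^ p ^ i ∈ C
    rw [hce.mul_pow, hfab, hab'.mul_pow, ha1, one_mul]
    exact mul_mem (pow_mem (hE he) _) (pow_mem hb _)
  have hmem : w ∈ zpowers (w ^ p ^ i) :=
    mem_zpowers_pow_iff.mpr (Nat.Coprime.pow_left _ hwo.symm)
  exact (zpowers_le.mpr hpow) hmem

/-- A perfect subgroup is generated by its elements of order prime to `p`. -/
theorem le_of_perfect {L C : Subgroup G} {p : ℕ} [Fact p.Prime] (hL : Group.IsPerfect ↥L)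
    (h : ∀ g ∈ L, (orderOf g).Coprime p → g ∈ C) : L ≤ C := by
  have htop : Cfsg.pResidual p ↥L = ⊤ := by
    by_contra hne
    have hp : IsPGroup p (↥L ⧸ Cfsg.pResidual p ↥L) := Fusion.Basic.isPGroup_quotient_pResidual
    haveI : Nontrivial (↥L ⧸ Cfsg.pResidual p ↥L) := QuotientGroup.nontrivial_iff.mpr hne
    haveI := hp.isNilpotent
    haveI : Group.IsPerfect (↥L ⧸ Cfsg.pResidual p ↥L) :=
      haveI := hL
      Group.IsPerfect.ofSurjective (f := QuotientGroup.mk' (Cfsg.pResidual p ↥L))
        (QuotientGroup.mk'_surjective _)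
    exact Group.IsPerfect.not_isSolvable (↥L ⧸ Cfsg.pResidual p ↥L) inferInstance
  intro g hg
  have : Cfsg.pResidual p ↥L ≤ C.comap L.subtype :=
    (closure_le _).mpr fun z hz => h z z.2 (by rwa [Subgroup.orderOf_coe])
  exact this (htop ▸ mem_top (⟨g, hg⟩ : L))

structure Data (A S : Subgroup G) : Prop where
  uniq : IsUniq A
  le_gen : S ≤ genIn A
  sn : (S.subgroupOf (genIn A)).IsSubnormal
  cent : genIn A ⊓ centralizer (S : Set G) ≤ S

variable {A S B : Subgroup G}

theorem Data.le_A (d : Data A S) : S ≤ A := d.le_gen.trans (map_subtype_le _)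

omit [Finite G] in
theorem Data.subnormal (d : Data A S) : (S.subgroupOf A).IsSubnormal := by
  set F := Cfsg.generalizedFittingSubgroup ↥A
  have hle : S.subgroupOf A ≤ F := fun x hx => by
    obtain ⟨y, hy, hyx⟩ := d.le_gen hx
    rwa [← A.subtype_injective hyx]
  have hFn : F.Normal := by change (Cfsg.layer ↥A ⊔ Cfsg.fittingSubgroup ↥A).Normal; infer_instance
  refine Subgroup.IsSubnormal.trans hle ?_ (Subgroup.Normal.isSubnormal hFn)
  let e : F ≃* genIn A := F.equivMapOfInjective A.subtype A.subtype_injective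
  convert d.sn.map (f := e.symm.toMonoidHom) e.symm.surjective using 1
  ext x
  simp only [Subgroup.mem_map_equiv, MulEquiv.symm_symm, Subgroup.mem_subgroupOf]
  rfl

theorem Data.layer_le (d : Data A S) : layerIn A ≤ S := by
  rw [layerIn, map_le_iff_le_comap, layer_le_iff]
  intro L hL
  rcases IsComponent.le_or_commutator_eq_bot hL d.subnormal with h | h
  · exact h
  · intro x hx
    refine d.cent ⟨⟨x, layer_le_generalizedFittingSubgroup (IsComponent.le_layer hL hx), rfl⟩, ?_⟩
    refine mem_centralizer_iff.mpr fun s hs => ?_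
    exact congrArg Subtype.val
      (mem_centralizer_iff.mp (commutator_eq_bot_iff_le_centralizer.mp h hx) ⟨s, d.le_A hs⟩ hs)

theorem Data.le_centralizer_of (d : Data A S) {r : ℕ} [Fact r.Prime] {x : G}
    (hx : x ∈ coreIn r A) (hxc : x ∈ centralizer ((S ⊓ coreIn r A : Subgroup G) : Set G)) :
    x ∈ centralizer (S : Set G) := by
  have hfit : S ⊓ fitIn A ≤ centralizer {x} := le_of_parts inf_le_right fun s hs _ y hy => by
    haveI := Fact.mk hs
    rw [mem_centralizer_singleton_iff]
    by_cases hsr : s = r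
    · subst hsr
      exact mem_centralizer_iff.mp hxc y ⟨hy.2.1, hy.1⟩
    · exact mem_centralizer_iff.mp (coreIn_le_centralizer (Ne.symm hsr) A hx) y hy.1
  refine mem_centralizer_iff.mpr fun s hs => ?_
  obtain ⟨e, he, f, hf, rfl⟩ := genIn_parts (d.le_gen hs)
  have hfS : f ∈ S := by
    have := S.mul_mem (S.inv_mem (d.layer_le he)) hs
    rwa [inv_mul_cancel_left] at this
  have h1 : Commute x e := mem_centralizer_iff.mp (layerIn_le_centralizer r A he) x hx
  have h2 : Commute f x := mem_centralizer_singleton_iff.mp (hfit ⟨hfS, hf⟩)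
  exact (Commute.mul_left h1.symm h2).eq

theorem Data.inf_centralizer_le (d : Data A S) {r : ℕ} [Fact r.Prime] :
    coreIn r A ⊓ centralizer ((S ⊓ coreIn r A : Subgroup G) : Set G) ≤ S := fun _ hx =>
  d.cent ⟨Subgroup.map_mono fittingSubgroup_le_generalizedFittingSubgroup (coreIn_le_fitIn r A hx.1),
    d.le_centralizer_of hx.1 hx.2⟩

theorem Data.center_le (d : Data A S) {r : ℕ} [Fact r.Prime] :
    coreIn r A ⊓ centralizer (coreIn r A : Set G) ≤ S ⊓ coreIn r A := fun _ hx =>
  ⟨d.inf_centralizer_le ⟨hx.1, centralizer_le (SetLike.coe_subset_coe.mpr inf_le_right) hx.2⟩, hx.1⟩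

/-- An element of `A` of order prime to `r` centralising `S ∩ O_r(A)` centralises `O_r(A)`. -/
theorem Data.mem_centralizer_core (d : Data A S) {r : ℕ} [Fact r.Prime] {g : G} (hgA : g ∈ A)
    (ho : (orderOf g).Coprime r) (hg : g ∈ centralizer ((S ⊓ coreIn r A : Subgroup G) : Set G)) :
    g ∈ centralizer (coreIn r A : Set G) :=
  mem_centralizer_of_prod (P := S ⊓ coreIn r A) ((isPGroup_coreIn r A).to_le inf_le_right)
    (isPGroup_coreIn r A) (inf_le_right.trans Subgroup.le_normalizer) ho
    (le_normalizer_coreIn r A hgA) hg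
    (mem_centralizer_iff.mpr fun x hx =>
      mem_centralizer_iff.mp hg x ⟨d.inf_centralizer_le hx, hx.1⟩)

/-- A `q`-subgroup of `E(A)` normalised by `E(A)` lies in `O_q(A)`. -/
theorem normal_pgroup_le_coreIn {q : ℕ} [Fact q.Prime] {V : Subgroup G} (hV : IsPGroup q V)
    (hVE : V ≤ layerIn A) (hn : layerIn A ≤ normalizer (V : Set G)) : V ≤ coreIn q A := by
  set E := Cfsg.layer ↥A
  haveI : ((V.subgroupOf A).subgroupOf E).Normal := by
    refine ⟨fun x hx g => ?_⟩
    exact (mem_normalizer_iff.mp (hn ⟨g, g.2, rfl⟩) _).mp hx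
  intro x hx
  obtain ⟨y, hy, rfl⟩ := hVE hx
  refine ⟨y, Cores.map_pCore_le q E ⟨⟨y, hy⟩, ?_, rfl⟩, rfl⟩
  have hp : IsPGroup q ↥((V.subgroupOf A).subgroupOf E) :=
    (hV.comap_of_injective A.subtype A.subtype_injective).comap_of_injective E.subtype (subtype_injective _)
  exact Cores.le_pCore hp hx

theorem coprime_of_mem {q r : ℕ} [hq : Fact q.Prime] [hr : Fact r.Prime] (hne : q ≠ r)
    {V : Subgroup G} (hV : IsPGroup q V) {g : G} (hg : g ∈ V) : (orderOf g).Coprime r := by
  obtain ⟨k, hk⟩ := hV ⟨g, hg⟩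
  exact ((Nat.coprime_primes hq.out hr.out).mpr hne |>.pow_left k).coprime_dvd_left
    (orderOf_dvd_of_pow_eq_one (by simpa using congrArg Subtype.val hk))

theorem part_a (d : Data A S) (hSB : S ≤ B) {q : ℕ} [hq : Fact q.Prime]
    (hqA : ¬ q ∣ Nat.card ↥(Cfsg.fittingSubgroup ↥A)) : coreIn q B ⊓ A = ⊥ := by
  have hA0 : coreIn q A = ⊥ := by
    by_contra h; exact hqA (dvd_card_fitting_iff.mpr h)
  set Q := coreIn q B ⊓ A with hQ
  have hQp : IsPGroup q Q := (isPGroup_coreIn q B).to_le inf_le_left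
  have hSN : S ≤ normalizer (Q : Set G) := fun s hs =>
    inf_normalizer_le_normalizer_inf
      ⟨le_normalizer_coreIn q B (hSB hs), Subgroup.le_normalizer (d.le_A hs)⟩
  have hEN : layerIn A ≤ normalizer (Q : Set G) := d.layer_le.trans hSN
  have hQE : Q ⊓ layerIn A = ⊥ := by
    refine le_bot_iff.mp (le_of_le_of_eq ?_ hA0)
    exact normal_pgroup_le_coreIn (hQp.to_le inf_le_left) inf_le_right
      (fun e he => inf_normalizer_le_normalizer_inf ⟨hEN he, Subgroup.le_normalizer he⟩)
  have hE : Q ≤ centralizer (layerIn A : Set G) :=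
    commutator_eq_bot_of_normalize (inf_le_right.trans (le_normalizer_layerIn A)) hEN hQE
  rw [eq_bot_iff]
  intro x hx
  have hF : x ∈ fitIn A := by
    refine mem_fitIn_of_centralizes hx.2 (fun s hs => ?_) (hE hx)
    haveI := Fact.mk hs
    by_cases hsq : s = q
    · subst hsq
      rw [hA0]
      exact mem_centralizer_iff.mpr fun y hy => by simp [mem_bot.mp hy]
    · refine d.mem_centralizer_core hx.2 (coprime_of_mem (Ne.symm hsq) hQp hx) ?_
      refine commutator_eq_bot_of_normalize (A := Q) (B := S ⊓ coreIn s A) ?_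
        (inf_le_left.trans hSN) ?_ hx
      · intro g hg
        have hd : Q ⊓ (S ⊓ coreIn s A) = ⊥ := le_bot_iff.mp
          ((inf_le_inf inf_le_left inf_le_right).trans (coreIn_inf_eq_bot (Ne.symm hsq) B A).le)
        refine Coprime.mem_normalizer_of_conj_map_le fun y hy => ?_
        have hc : ⁅g, y⁆ ∈ Q ⊓ coreIn s A := by
          refine ⟨?_, ?_⟩
          · rw [commutatorElement_def, mul_assoc, mul_assoc]
            refine Q.mul_mem hg ?_
            rw [← mul_assoc]
            exact (mem_normalizer_iff.mp (hSN hy.1) _).mp (Q.inv_mem hg)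
          · rw [commutatorElement_def]
            exact (coreIn s A).mul_mem
              ((mem_normalizer_iff.mp (le_normalizer_coreIn s A hg.2) y).mp hy.2)
              ((coreIn s A).inv_mem hy.2)
        have hd' : Q ⊓ coreIn s A = ⊥ := le_bot_iff.mp
          ((inf_le_inf inf_le_left le_rfl).trans (coreIn_inf_eq_bot (Ne.symm hsq) B A).le)
        rw [hd', mem_bot, commutatorElement_eq_one_iff_mul_comm] at hc
        rw [hc, mul_inv_cancel_right]
        exact hy
      · exact le_bot_iff.mp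
          ((inf_le_inf inf_le_left inf_le_right).trans (coreIn_inf_eq_bot (Ne.symm hsq) B A).le)
  have hxq : IsPGroup q (zpowers x) := hQp.to_le (zpowers_le.mpr hx)
  have := mem_coreIn hF hxq
  rwa [hA0] at this

theorem part_b (d : Data A S) (hSB : S ≤ B) {p : ℕ} [hp : Fact p.Prime]
    (hpA : p ∣ Nat.card ↥(Cfsg.fittingSubgroup ↥A)) {x : G} (hx : x ∈ coreIn p B)
    {y : Cfsg.generalizedFittingSubgroup ↥A}
    (hy : y ∈ Cfsg.pResidual p ↥(Cfsg.generalizedFittingSubgroup ↥A)) :
    x * ((y : A) : G) = ((y : A) : G) * x := by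
  set U := coreIn p B with hU
  set R := S ⊓ coreIn p A with hR
  have hpne := dvd_card_fitting_iff.mp hpA
  have hUp : IsPGroup p U := isPGroup_coreIn p B
  have hRp : IsPGroup p R := (isPGroup_coreIn p A).to_le inf_le_right
  have hSU : S ≤ normalizer (U : Set G) := hSB.trans (le_normalizer_coreIn p B)
  have hVA : U ⊓ centralizer (R : Set G) ≤ A := inf_le_right.trans
    ((centralizer_le (SetLike.coe_subset_coe.mpr d.center_le)).trans
      (centralizer_center_le d.uniq hpne))
  set V := U ⊓ centralizer (R : Set G) with hV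
  have hER : layerIn A ≤ centralizer (R : Set G) :=
    (layerIn_le_centralizer p A).trans (centralizer_le (SetLike.coe_subset_coe.mpr inf_le_right))
  have hEV : layerIn A ≤ normalizer (V : Set G) := fun e he =>
    inf_normalizer_le_normalizer_inf
      ⟨hSU (d.layer_le he), Subgroup.le_normalizer (hER he)⟩
  have hVc : V ≤ centralizer (layerIn A : Set G) := by
    rw [← commutator_eq_bot_iff_le_centralizer]
    haveI hperf : Group.IsPerfect ↥(Cfsg.layer ↥A) := layer_isPerfect
    refine commutator_eq_bot_of_perfect (Group.IsPerfect.map (H := Cfsg.layer ↥A) A.subtype) ?_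
    have h1 : ⁅V, layerIn A⁆ ≤ V ⊓ layerIn A :=
      le_inf (commutator_le_left_of_le_normalizer hEV)
        (commutator_le_right_of_le_normalizer (hVA.trans (le_normalizer_layerIn A)))
    have h2 : V ⊓ layerIn A ≤ coreIn p A :=
      normal_pgroup_le_coreIn ((hUp.to_le inf_le_left).to_le inf_le_left) inf_le_right
        (fun e he => inf_normalizer_le_normalizer_inf ⟨hEV he, Subgroup.le_normalizer he⟩)
    rw [commutator_eq_bot_iff_le_centralizer]
    exact (h1.trans h2).trans (le_centralizer_iff.mp (layerIn_le_centralizer p A))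
  have hE : layerIn A ≤ centralizer (U : Set G) := by
    haveI hperf : Group.IsPerfect ↥(Cfsg.layer ↥A) := layer_isPerfect
    refine le_of_perfect (p := p) (Group.IsPerfect.map (H := Cfsg.layer ↥A) A.subtype) fun g hg ho => ?_
    exact mem_centralizer_of_prod (P := R) hRp hUp (inf_le_left.trans hSU) ho
      (hSU (d.layer_le hg)) (hER hg)
      (mem_centralizer_iff.mpr fun v hv => (mem_centralizer_iff.mp (hVc hv) g hg).symm)
  have hRr : ∀ r : ℕ, r.Prime → r ≠ p → S ⊓ coreIn r A ≤ centralizer (U : Set G) := by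
    intro r hr hrp g hg
    haveI := Fact.mk hr
    refine mem_centralizer_of_prod (P := R) hRp hUp (inf_le_left.trans hSU)
      (coprime_of_mem hrp ((isPGroup_coreIn r A).to_le inf_le_right) hg) (hSU hg.1)
      (centralizer_le (SetLike.coe_subset_coe.mpr inf_le_right)
        (coreIn_le_centralizer hrp A hg.2)) (mem_centralizer_iff.mpr fun v hv => ?_)
    have hc : ⁅v, g⁆ ∈ U ⊓ coreIn r A := by
      refine ⟨?_, ?_⟩
      · rw [commutatorElement_def, mul_assoc, mul_assoc]
        refine U.mul_mem hv.1 ?_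
        rw [← mul_assoc]
        exact (mem_normalizer_iff.mp (hSU hg.1) _).mp (U.inv_mem hv.1)
      · rw [commutatorElement_def]
        exact (coreIn r A).mul_mem
          ((mem_normalizer_iff.mp (le_normalizer_coreIn r A (hVA hv)) g).mp hg.2)
          ((coreIn r A).inv_mem hg.2)
    rw [hU, coreIn_inf_eq_bot (Ne.symm hrp), mem_bot, commutatorElement_eq_one_iff_mul_comm] at hc
    exact hc
  refine mem_centralizer_iff.mp (pResidual_genIn_le (C := centralizer (U : Set G)) hE
    (fun r hr hrp => ?_) hy) x hx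
  haveI := Fact.mk hr
  by_cases h0 : coreIn r A = ⊥
  · rw [h0]; exact bot_le
  have hUA : U ≤ A := fun u hu => centralizer_center_le d.uniq h0
    (mem_centralizer_iff.mpr fun z hz =>
      (mem_centralizer_iff.mp (hRr r hr hrp (d.center_le hz)) u hu).symm)
  rw [le_centralizer_iff]
  intro u hu
  exact d.mem_centralizer_core (hUA hu) (coprime_of_mem (Ne.symm hrp) hUp hu)
    (mem_centralizer_iff.mpr fun z hz => (mem_centralizer_iff.mp (hRr r hr hrp hz) u hu).symm)

end CfsgLib.Components.BenderOvergroup
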