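import Cfsg.Agent.Lib.Components.PComponents
import Cfsg.Agent.Lib.Fusion.Alperin
import Cfsg.Agent.Lib.Involution.ZStar.Weakly
import Cfsg.Agent.Lib.Involution.Basic
import Cfsg.Prelude.Def_CaseTheorems

/-!
Elements centralising a Sylow 2-subgroup of a normal subgroup (after Glauberman).

If `u` and `d` centralise the Sylow 2-subgroup `P` of `K ◁ X` and `e = d⁻¹udu⁻¹` is a 2-element,
then `e` has no other conjugate in `P⟨e⟩` inside `K⟨e⟩`, so it centralises `K` modulo `O(K)`.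
-/

set_option autoImplicit false
set_option linter.unusedSectionVars false
set_option linter.style.haveILetI false
set_option linter.style.show false
set_option maxHeartbeats 800000

namespace CfsgLib.Components.GlaubermanSylow

open Subgroup CfsgLib.Fusion
open scoped Pointwise

universe u

variable {X : Type u} [Group X]

theorem normalizer_le_normalizer_centralizer (Q : Subgroup X) :
    normalizer (Q : Set X) ≤ normalizer (centralizer (Q : Set X) : Set X) := by
  have key : ∀ g ∈ normalizer (Q : Set X), ∀ c ∈ centralizer (Q : Set X),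
      g * c * g⁻¹ ∈ centralizer (Q : Set X) := by
    intro g hg c hc
    refine mem_centralizer_iff.mpr fun q hq => ?_
    have hq' : g⁻¹ * q * g ∈ Q := by
      simpa using (mem_normalizer_iff.mp (inv_mem hg) q).mp hq
    calc q * (g * c * g⁻¹) = g * ((g⁻¹ * q * g) * c) * g⁻¹ := by group
      _ = g * (c * (g⁻¹ * q * g)) * g⁻¹ := by rw [mem_centralizer_iff.mp hc _ hq']
      _ = g * c * g⁻¹ * q := by group
  intro g hg
  refine mem_normalizer_iff.mpr fun c => ⟨key g hg c, fun h => ?_⟩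
  have := key g⁻¹ (inv_mem hg) _ h
  simpa [mul_assoc] using this

theorem normalizer_inf_le_normalizer_sup (A B : Subgroup X) :
    normalizer (A : Set X) ⊓ normalizer (B : Set X) ≤ normalizer ((A ⊔ B : Subgroup X) : Set X) := by
  have key : ∀ g ∈ normalizer (A : Set X) ⊓ normalizer (B : Set X),
      A ⊔ B ≤ (A ⊔ B).comap (MulAut.conj g).toMonoidHom := by
    intro g hg
    refine sup_le (fun a ha => ?_) (fun b hb => ?_)
    · exact mem_sup_left ((mem_normalizer_iff.mp hg.1 a).mp ha)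
    · exact mem_sup_right ((mem_normalizer_iff.mp hg.2 b).mp hb)
  intro g hg
  refine mem_normalizer_iff.mpr fun c => ⟨fun hc => key g hg hc, fun h => ?_⟩
  have h2 : g⁻¹ * (g * c * g⁻¹) * g⁻¹⁻¹ ∈ A ⊔ B := key g⁻¹ (inv_mem hg) h
  simpa [mul_assoc] using h2

theorem le_normalizer_of_le_centralizer {A B : Subgroup X} (h : A ≤ centralizer (B : Set X)) :
    A ≤ normalizer (B : Set X) := by
  intro g hg
  refine mem_normalizer_iff.mpr fun b => ⟨fun hb => ?_, fun hb => ?_⟩
  · rwa [← mem_centralizer_iff.mp (h hg) b hb, mul_inv_cancel_right]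
  · have e := mem_centralizer_iff.mp (h (inv_mem hg)) _ hb
    have e2 : g⁻¹ * (g * b * g⁻¹) = b * g⁻¹ := by group
    rw [e2] at e
    exact mul_right_cancel e ▸ hb

theorem mem_of_mem_sup_of_normalizes {A B : Subgroup X} (h : B ≤ normalizer (A : Set X)) {g : X}
    (hg : g ∈ A ⊔ B) : ∃ a ∈ A, ∃ b ∈ B, a * b = g :=
  Set.mem_mul.1 (by rw [← coe_mul_of_right_le_normalizer_left A B h]; exact hg)

variable [Finite X]

/-- The case of a subgroup `Q₀` containing its centraliser in `P`: an element of `K` normalising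
`Q₀⟨e⟩` fixes `e`. -/
theorem conj_eq_self_of_selfCentralizing (K : Subgroup X) [hK : K.Normal] {Q : Subgroup X}
    {u d e : X} (he : e = d⁻¹ * u * d * u⁻¹) (he2 : IsPGroup 2 (zpowers e))
    (hu : u ∈ centralizer (Q : Set X)) (hd : d ∈ centralizer (Q : Set X))
    (hQ : IsPGroup 2 Q) (hQK : Q ≤ K)
    (hZ : ∀ r ∈ K, r ∈ centralizer (Q : Set X) →
      r ∈ normalizer ((Q ⊔ zpowers e : Subgroup X) : Set X) → IsPGroup 2 (zpowers r) → r ∈ Q)
    {k : X} (hk : k ∈ K) (hkQ : k ∈ normalizer ((Q ⊔ zpowers e : Subgroup X) : Set X)) :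
    k * e * k⁻¹ = e := by
  haveI : Fact (Nat.Prime 2) := ⟨Nat.prime_two⟩
  have heC : e ∈ centralizer (Q : Set X) := by
    rw [he]; exact mul_mem (mul_mem (mul_mem (inv_mem hd) hu) hd) (inv_mem hu)
  have hEC : zpowers e ≤ centralizer (Q : Set X) := zpowers_le.mpr heC
  have hEQ : zpowers e ≤ normalizer (Q : Set X) := le_normalizer_of_le_centralizer hEC
  have hzE : ∀ r ∈ zpowers e, r ∈ K → r ∈ Q := fun r hr hrK =>
    hZ r hrK (hEC hr) (le_normalizer (mem_sup_right hr)) (he2.to_le (zpowers_le.mpr hr))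
  have hcap : ∀ r ∈ Q ⊔ zpowers e, r ∈ K → r ∈ Q := by
    intro r hr hrK
    obtain ⟨a, ha, b, hb, rfl⟩ := mem_of_mem_sup_of_normalizes hEQ hr
    refine mul_mem ha (hzE b hb ?_)
    have := mul_mem (inv_mem (hQK ha)) hrK
    rwa [inv_mul_cancel_left] at this
  have hkQ0 : k ∈ normalizer (Q : Set X) := by
    have key : ∀ g ∈ normalizer ((Q ⊔ zpowers e : Subgroup X) : Set X),
        ∀ a ∈ Q, g * a * g⁻¹ ∈ Q := fun g hg a ha =>
      hcap _ ((mem_normalizer_iff.mp hg a).mp (mem_sup_left ha)) (hK.conj_mem a (hQK ha) g)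
    refine mem_normalizer_iff.mpr fun a => ⟨key k hkQ a, fun ha => ?_⟩
    have := key k⁻¹ (inv_mem hkQ) _ ha
    simpa [mul_assoc] using this
  -- `M = C_K(Q)` and the centre `Z` of `Q`
  set M := K ⊓ centralizer (Q : Set X) with hM
  set Z := Q ⊓ centralizer (Q : Set X) with hZdef
  have hZM : Z ≤ M := inf_le_inf hQK le_rfl
  have hNM : normalizer (Q : Set X) ≤ normalizer (M : Set X) := by
    intro g hg
    have hc := mem_normalizer_iff.mp (normalizer_le_normalizer_centralizer Q hg)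
    refine mem_normalizer_iff.mpr fun c => ?_
    refine and_congr ⟨fun h => hK.conj_mem c h g, fun h => ?_⟩ (hc c)
    have := hK.conj_mem _ h g⁻¹
    simpa [mul_assoc] using this
  have hZc : ∀ z ∈ Z, ∀ c ∈ centralizer (Q : Set X), z * c = c * z := fun z hz c hc =>
    mem_centralizer_iff.mp hc z hz.1
  -- `Z` is a Sylow subgroup of `M`
  have hEM : zpowers e ≤ normalizer (M : Set X) := hEQ.trans hNM
  set Z' := Z ⊔ zpowers e with hZ'
  have hEZ : zpowers e ≤ normalizer (Z : Set X) :=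
    le_normalizer_of_le_centralizer fun c hc => mem_centralizer_iff.mpr fun z hz =>
      hZc z hz c (hEC hc)
  have hZ'2 : IsPGroup 2 Z' := (hQ.to_le inf_le_left).to_sup_of_normal_left' he2 hEZ
  have hZ'M : Z' ≤ M ⊔ zpowers e := sup_le_sup_right hZM _
  obtain ⟨T', hT'⟩ := (hZ'2.of_equiv (subgroupOfEquivOfLe hZ'M).symm).exists_le_sylow
  set T := (T' : Subgroup ↥(M ⊔ zpowers e)).map (M ⊔ zpowers e).subtype with hT
  have hT2 : IsPGroup 2 T := T'.2.map _
  have hZT : Z' ≤ T := by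
    intro z hz
    exact ⟨⟨z, hZ'M hz⟩, hT' (mem_subgroupOf.mpr hz), rfl⟩
  have hTle : T ≤ M ⊔ zpowers e := map_subtype_le _
  have hTeq : T = Z' := by
    refine le_antisymm ?_ hZT
    by_contra hcon
    have hlt : Z'.subgroupOf T < ⊤ := by
      rw [lt_top_iff_ne_top, Ne, subgroupOf_eq_top]; exact hcon
    haveI : Group.IsNilpotent T := hT2.isNilpotent
    obtain ⟨⟨x, hxT⟩, hx, hx'⟩ := SetLike.exists_of_lt
      (Group.normalizerCondition_of_isNilpotent _ hlt)
    have hxN : x ∈ normalizer (Z' : Set X) := by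
      refine mem_normalizer_iff.mpr fun z => ⟨fun hz => ?_, fun hz => ?_⟩
      · exact (mem_normalizer_iff.mp hx ⟨z, hZT hz⟩).mp hz
      · have hzT : z ∈ T := by
          have := mul_mem (mul_mem (inv_mem hxT) (hZT hz)) hxT
          simpa [mul_assoc] using this
        exact (mem_normalizer_iff.mp hx ⟨z, hzT⟩).mpr hz
    obtain ⟨m, hm, c, hc, hmc⟩ := mem_of_mem_sup_of_normalizes hEM (hTle hxT)
    have hcZ : c ∈ Z' := mem_sup_right hc
    have hmx : m = x * c⁻¹ := by rw [← hmc, mul_inv_cancel_right]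
    have hmN : m ∈ normalizer (Z' : Set X) :=
      hmx ▸ mul_mem hxN (inv_mem (le_normalizer hcZ))
    have hm2 : IsPGroup 2 (zpowers m) :=
      hT2.to_le (zpowers_le.mpr (hmx ▸ mul_mem hxT (inv_mem (hZT hcZ))))
    have e1 : Q ⊔ Z' = Q ⊔ zpowers e :=
      le_antisymm (sup_le le_sup_left (sup_le_sup_right inf_le_left _))
        (sup_le_sup_left le_sup_right _)
    have hmQ : m ∈ Q := hZ m hm.1 hm.2 (e1 ▸ normalizer_inf_le_normalizer_sup Q Z'
      ⟨le_normalizer_of_le_centralizer (zpowers_le.mpr hm.2) (mem_zpowers m), hmN⟩) hm2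
    exact hx' (mem_subgroupOf.mpr (hmc ▸ mul_mem (mem_sup_left ⟨hmQ, hm.2⟩) hcZ))
  obtain ⟨R, hR⟩ := ((hQ.to_le (inf_le_left : Z ≤ Q)).of_equiv
    (subgroupOfEquivOfLe hZM).symm).exists_le_sylow
  have hRcen : ∀ r ∈ (R : Subgroup M), ((r : M) : X) ∈ Z := by
    intro r hr
    have hr2 : IsPGroup 2 (zpowers (r : X)) := by
      have h1 := (R.2.to_le (zpowers_le.mpr hr)).map M.subtype
      rwa [MonoidHom.map_zpowers] at h1
    haveI : (M.subgroupOf (M ⊔ zpowers e)).Normal :=
      (normal_subgroupOf_iff_le_normalizer le_sup_left).mpr (sup_le le_normalizer hEM)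
    have hRle : (R : Subgroup M).map M.subtype ≤ M ⊔ zpowers e :=
      (map_subtype_le _).trans le_sup_left
    obtain ⟨g, hg⟩ := CfsgLib.Involution.Basic.exists_conj_le T'
      ((R.2.map M.subtype).of_equiv (subgroupOfEquivOfLe hRle).symm)
    let ψ : ↥(R : Subgroup M) → Z := fun s => ⟨(g : X) * ((s : M) : X) * (g : X)⁻¹, by
      have h1 : (g : X) * ((s : M) : X) * (g : X)⁻¹ ∈ T :=
        ⟨_, hg ⟨((s : M) : X), mem_sup_left (s : M).2⟩
          (mem_subgroupOf.mpr ⟨_, s.2, rfl⟩), rfl⟩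
      have h2 : (g : X) * ((s : M) : X) * (g : X)⁻¹ ∈ M :=
        (mem_normalizer_iff.mp ((sup_le le_normalizer hEM) g.2) _).mp (s : M).2
      rw [hTeq] at h1
      obtain ⟨z, hz, c, hc, hzc⟩ := mem_of_mem_sup_of_normalizes hEZ h1
      rw [← hzc]
      refine mul_mem hz ⟨hzE c hc ?_, hEC hc⟩
      have h3 : z⁻¹ * (z * c) ∈ K := K.mul_mem (K.inv_mem (hZM hz).1) (hzc.symm ▸ h2.1)
      rwa [inv_mul_cancel_left] at h3⟩
    have hψ : Function.Injective ψ := fun a b hab => Subtype.ext (Subtype.ext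
      (mul_left_cancel (mul_right_cancel (congrArg Subtype.val hab))))
    have hcard := Nat.card_le_card_of_injective ψ hψ
    have heq : Z.subgroupOf M = R := eq_of_le_of_card_ge hR
      (hcard.trans (Nat.card_congr (subgroupOfEquivOfLe hZM).toEquiv).ge)
    rw [← heq] at hr
    exact mem_subgroupOf.mp hr
  have hnpc : Cfsg.HasNormalPComplement 2 M := Alperin.npc_of_frobenius R
    fun S hS g _ _ => mem_centralizer_iff.mpr fun s hs =>
      Subtype.ext (hZc _ (hRcen s (hS hs)) _ g.2.2)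
  set O := (Cfsg.pResidual 2 M).map M.subtype with hO
  have hOc : (Nat.card O).Coprime 2 := by
    rw [hO, card_map_of_injective M.subtype_injective]
    exact Basic.npc_iff_coprime.mp hnpc
  have hNO : normalizer (Q : Set X) ≤ normalizer (O : Set X) := by
    intro g hg
    have key : ∀ g ∈ normalizer (M : Set X), ∀ y ∈ O, g * y * g⁻¹ ∈ O := by
      rintro g hg _ ⟨y, hy, rfl⟩
      refine ⟨((M.normalizerMonoidHom ⟨g, hg⟩) y), ?_, rfl⟩
      exact (characteristic_iff_map_le.mp inferInstance _) ⟨y, hy, rfl⟩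
    refine mem_normalizer_iff.mpr fun y => ⟨key g (hNM hg) y, fun h => ?_⟩
    have := key g⁻¹ (inv_mem (hNM hg)) _ h
    simpa [mul_assoc] using this
  -- commutators with `k` lie in `M = O Z`
  have hcomm : ∀ c ∈ centralizer (Q : Set X),
      ∃ o ∈ O, ∃ z ∈ Z, k * c * k⁻¹ = o * z * c := by
    intro c hc
    have h1 : k * c * k⁻¹ * c⁻¹ ∈ M := by
      refine ⟨?_, Subgroup.mul_mem _ ?_ (Subgroup.inv_mem _ hc)⟩
      · show k * c * k⁻¹ * c⁻¹ ∈ K
        rw [show k * c * k⁻¹ * c⁻¹ = k * (c * k⁻¹ * c⁻¹) by group]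
        exact mul_mem hk (hK.conj_mem _ (inv_mem hk) c)
      · exact (mem_normalizer_iff.mp (normalizer_le_normalizer_centralizer Q hkQ0) c).mp hc
    obtain ⟨o, ho, z, hz, hoz⟩ := Basic.exists_eq_pResidual_mul R ⟨_, h1⟩
    refine ⟨o, ⟨o, ho, rfl⟩, z, hRcen z hz, ?_⟩
    have := congrArg (fun y : M => (y : X) * c) hoz
    simpa [mul_assoc] using this
  obtain ⟨o1, ho1, z1, hz1, hku⟩ := hcomm u hu
  obtain ⟨o2, ho2, z2, hz2, hkd⟩ := hcomm d hd
  have hmem : ∀ c ∈ centralizer (Q : Set X), c ∈ normalizer (O : Set X) := fun c hc =>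
    hNO (le_normalizer_of_le_centralizer (zpowers_le.mpr hc) (mem_zpowers c))
  set N := normalizer (O : Set X) with hN
  haveI hON : (O.subgroupOf N).Normal := normal_in_normalizer
  let π := QuotientGroup.mk' (O.subgroupOf N)
  have hπO : ∀ (o : X) (ho : o ∈ O), π ⟨o, le_normalizer ho⟩ = 1 := fun o ho =>
    (QuotientGroup.eq_one_iff _).mpr (mem_subgroupOf.mpr ho)
  set K' := π ⟨k, hNO hkQ0⟩ with hK'
  set U := π ⟨u, hmem u hu⟩ with hU
  set D := π ⟨d, hmem d hd⟩ with hD
  set Z1 := π ⟨z1, hmem z1 hz1.2⟩ with hZ1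
  set Z2 := π ⟨z2, hmem z2 hz2.2⟩ with hZ2
  have hU' : K' * U * K'⁻¹ = Z1 * U := by
    rw [hK', hU, hZ1, ← map_inv, ← map_mul, ← map_mul, ← map_mul]
    have e1 : (⟨k, hNO hkQ0⟩ * ⟨u, hmem u hu⟩ * (⟨k, hNO hkQ0⟩ : N)⁻¹ : N) =
        ⟨o1, le_normalizer ho1⟩ * (⟨z1, hmem z1 hz1.2⟩ * ⟨u, hmem u hu⟩) :=
      Subtype.ext (by simpa [mul_assoc] using hku)
    rw [e1, map_mul, hπO o1 ho1, one_mul]
  have hD' : K' * D * K'⁻¹ = Z2 * D := by
    rw [hK', hD, hZ2, ← map_inv, ← map_mul, ← map_mul, ← map_mul]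
    have e1 : (⟨k, hNO hkQ0⟩ * ⟨d, hmem d hd⟩ * (⟨k, hNO hkQ0⟩ : N)⁻¹ : N) =
        ⟨o2, le_normalizer ho2⟩ * (⟨z2, hmem z2 hz2.2⟩ * ⟨d, hmem d hd⟩) :=
      Subtype.ext (by simpa [mul_assoc] using hkd)
    rw [e1, map_mul, hπO o2 ho2, one_mul]
  have hcm : ∀ (z : X) (hz : z ∈ Z) (c : X) (hc : c ∈ centralizer (Q : Set X)),
      Commute (π ⟨z, hmem z hz.2⟩) (π ⟨c, hmem c hc⟩) := fun z hz c hc => by
    refine Commute.map ?_ π
    exact Subtype.ext (hZc z hz c hc)
  have c12 : Commute Z1 Z2 := hcm z1 hz1 z2 hz2.2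
  have c1u : Commute Z1 U := hcm z1 hz1 u hu
  have c1d : Commute Z1 D := hcm z1 hz1 d hd
  have c2u : Commute Z2 U := hcm z2 hz2 u hu
  have hE : K' * (D⁻¹ * U * D * U⁻¹) * K'⁻¹ = D⁻¹ * U * D * U⁻¹ := by
    calc K' * (D⁻¹ * U * D * U⁻¹) * K'⁻¹
        = (K' * D * K'⁻¹)⁻¹ * (K' * U * K'⁻¹) * (K' * D * K'⁻¹) * (K' * U * K'⁻¹)⁻¹ := by group
      _ = D⁻¹ * (Z2⁻¹ * (Z1 * U) * Z2) * D * (U⁻¹ * Z1⁻¹) := by rw [hU', hD']; group
      _ = D⁻¹ * (Z1 * U) * D * (U⁻¹ * Z1⁻¹) := by
        rw [mul_assoc Z2⁻¹ (Z1 * U) Z2, ((c12.symm.mul_right c2u).symm).eq, inv_mul_cancel_left]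
      _ = (D⁻¹ * Z1) * U * D * (U⁻¹ * Z1⁻¹) := by group
      _ = (Z1 * D⁻¹) * U * D * (U⁻¹ * Z1⁻¹) := by rw [c1d.inv_right.eq]
      _ = Z1 * (D⁻¹ * U * D * U⁻¹) * Z1⁻¹ := by group
      _ = D⁻¹ * U * D * U⁻¹ := by
        rw [(((c1d.inv_right.mul_right c1u).mul_right c1d).mul_right c1u.inv_right).eq,
          mul_inv_cancel_right]
  have hkey : k * e * k⁻¹ * e⁻¹ ∈ O := by
    have heN := hmem e heC
    have hπe : π ⟨e, heN⟩ = D⁻¹ * U * D * U⁻¹ := by
      rw [hD, hU, ← map_inv, ← map_inv, ← map_mul, ← map_mul, ← map_mul]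
      exact congrArg π (Subtype.ext he)
    have h1 : π (⟨k, hNO hkQ0⟩ * ⟨e, heN⟩ * (⟨k, hNO hkQ0⟩ : N)⁻¹ * (⟨e, heN⟩ : N)⁻¹) = 1 := by
      rw [map_mul, map_mul, map_mul, map_inv, map_inv, hπe, hE, mul_inv_cancel]
    exact mem_subgroupOf.mp ((QuotientGroup.eq_one_iff _).mp h1)
  have hkQ' : k * e * k⁻¹ * e⁻¹ ∈ Q := by
    refine hcap _ (mul_mem ((mem_normalizer_iff.mp hkQ e).mp (mem_sup_right (mem_zpowers e)))
      (inv_mem (mem_sup_right (mem_zpowers e)))) ?_
    rw [show k * e * k⁻¹ * e⁻¹ = k * (e * k⁻¹ * e⁻¹) by group]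
    exact mul_mem hk (hK.conj_mem _ (inv_mem hk) e)
  have h0 : k * e * k⁻¹ * e⁻¹ ∈ Q ⊓ O := ⟨hkQ', hkey⟩
  rw [Basic.inf_eq_bot_of_coprime hQ hOc, mem_bot, mul_inv_eq_one] at h0
  exact h0

/-- In a tame intersection a `2`-element of the normaliser is conjugate into the Sylow subgroup. -/
theorem exists_conj_mem_of_tame {W : Type u} [Group W] [Finite W] {S R : Sylow 2 W}
    (ht : Alperin.Tame S R) {r : W}
    (hr : r ∈ normalizer ((((S : Subgroup W) ⊓ (R : Subgroup W)) : Subgroup W) : Set W))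
    (hr2 : IsPGroup 2 (zpowers r)) :
    ∃ n ∈ normalizer ((((S : Subgroup W) ⊓ (R : Subgroup W)) : Subgroup W) : Set W),
      n * r * n⁻¹ ∈ (S : Subgroup W) := by
  haveI : Fact (Nat.Prime 2) := ⟨Nat.prime_two⟩
  set N := normalizer ((((S : Subgroup W) ⊓ (R : Subgroup W)) : Subgroup W) : Set W)
  let U : Sylow 2 N := Basic.sylowSubgroupOf (inf_le_right : (S : Subgroup W) ⊓ N ≤ N)
    (S.2.to_le inf_le_left) ht.1
  obtain ⟨n, hn⟩ := CfsgLib.Involution.Basic.exists_conj_le U
    (hr2.of_equiv (subgroupOfEquivOfLe (zpowers_le.mpr hr : zpowers r ≤ N)).symm)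
  have h := hn ⟨r, hr⟩ (mem_subgroupOf.mpr (mem_zpowers r))
  exact ⟨n, n.2, h.1⟩

/-- A Frattini argument at a tame intersection. -/
theorem exists_centralizing_of_tame {W : Type u} [Group W] [Finite W] {S R : Sylow 2 W}
    (ht : Alperin.Tame S R) {x : W}
    (hx : x ∈ normalizer ((((S : Subgroup W) ⊓ (R : Subgroup W)) : Subgroup W) : Set W)) :
    ∃ c ∈ centralizer ((((S : Subgroup W) ⊓ (R : Subgroup W)) : Subgroup W) : Set W),
      c * x ∈ normalizer ((((S : Subgroup W) ⊓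
        centralizer ((((S : Subgroup W) ⊓ (R : Subgroup W)) : Subgroup W) : Set W)) :
          Subgroup W) : Set W) := by
  haveI : Fact (Nat.Prime 2) := ⟨Nat.prime_two⟩
  set Q := (S : Subgroup W) ⊓ (R : Subgroup W)
  set N := normalizer (Q : Set W)
  set C := centralizer (Q : Set W)
  have hCN : C ≤ N := le_normalizer_of_le_centralizer le_rfl
  let U : Sylow 2 N := Basic.sylowSubgroupOf (inf_le_right : (S : Subgroup W) ⊓ N ≤ N)
    (S.2.to_le inf_le_left) ht.1
  haveI : (C.subgroupOf N).Normal :=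
    (normal_subgroupOf_iff_le_normalizer hCN).mpr (normalizer_le_normalizer_centralizer Q)
  have hU : (U : Subgroup N) = ((S : Subgroup W) ⊓ N).subgroupOf N := Basic.coe_sylowSubgroupOf _ _ _
  have hidx : ¬ 2 ∣ ((S : Subgroup W) ⊓ C).relIndex C := by
    have h := Basic.not_dvd_relIndex_of_normal U (C.subgroupOf N)
    rw [← relIndex_map_map_of_injective _ _ N.subtype_injective,
      Subgroup.map_inf _ _ _ N.subtype_injective, hU, subgroupOf_map_subtype,
      subgroupOf_map_subtype] at h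
    have e1 : (S : Subgroup W) ⊓ N ⊓ N ⊓ (C ⊓ N) = (S : Subgroup W) ⊓ C := by
      rw [inf_eq_left.mpr hCN, inf_assoc, inf_assoc, inf_eq_right.mpr hCN, inf_eq_right.mpr hCN]
    rwa [e1, inf_eq_left.mpr hCN] at h
  let T : Sylow 2 C := Basic.sylowSubgroupOf (inf_le_right : (S : Subgroup W) ⊓ C ≤ C)
    (S.2.to_le inf_le_left) hidx
  set SC := (S : Subgroup W) ⊓ C with hSC
  have hxC := mem_normalizer_iff.mp (normalizer_le_normalizer_centralizer Q hx)
  have hle : SC.map (MulAut.conj x).toMonoidHom ≤ C := by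
    rintro _ ⟨s, hs, rfl⟩; exact (hxC s).mp hs.2
  obtain ⟨c, hc⟩ := CfsgLib.Involution.Basic.exists_conj_le T
    (((S.2.to_le (inf_le_left : SC ≤ (S : Subgroup W))).map
      (MulAut.conj x).toMonoidHom).of_equiv (subgroupOfEquivOfLe hle).symm)
  refine ⟨c, c.2, ?_⟩
  refine mem_normalizer_iff_map_conj_eq.mpr ?_
  refine eq_of_le_of_card_ge ?_ (card_map_of_injective (MulAut.conj _).injective).ge
  rintro _ ⟨s, hs, rfl⟩
  have hmem : x * s * x⁻¹ ∈ C := (hxC s).mp hs.2
  have h := hc ⟨_, hmem⟩ (mem_subgroupOf.mpr ⟨s, hs, rfl⟩)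
  show (c : W) * x * s * ((c : W) * x)⁻¹ ∈ SC
  rw [show (c : W) * x * s * ((c : W) * x)⁻¹ = (c : W) * (x * s * x⁻¹) * (c : W)⁻¹ by group]
  exact h

theorem fixed_of_chain {W : Type u} [Group W] [Finite W] [Fact (Nat.Prime 2)] {S : Sylow 2 W}
    {A : Set W} {g : W} (h : Alperin.Chain S A g) {e : W} (he : e ∈ A)
    (H : ∀ R : Sylow 2 W, Alperin.Tame S R → e ∈ (S : Subgroup W) ⊓ (R : Subgroup W) →
      A.ncard ≤ Nat.card ((S : Subgroup W) ⊓ (R : Subgroup W) : Subgroup W) →
      ∀ x ∈ normalizer ((((S : Subgroup W) ⊓ (R : Subgroup W)) : Subgroup W) : Set W),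
        x * e * x⁻¹ = e) :
    g⁻¹ * e * g = e := by
  induction h with
  | nil A _ => group
  | cons A Q x g ht hx hA _ ih =>
    have hinj : Function.Injective fun a : W => x⁻¹ * a * x := fun a b h =>
      mul_left_cancel (mul_right_cancel h)
    have h0 := H Q ht (hA he) (by
      rw [← SetLike.coe_sort_coe, Nat.card_coe_set_eq]
      exact Set.ncard_le_ncard hA (Set.toFinite _)) x⁻¹ (inv_mem hx)
    rw [inv_inv] at h0
    have h2 := ih ⟨e, he, h0⟩ fun R hR hR1 hR2 =>
      H R hR hR1 (by rwa [Set.ncard_image_of_injective _ hinj] at hR2)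
    calc (x * g)⁻¹ * e * (x * g) = g⁻¹ * (x⁻¹ * e * x) * g := by group
      _ = e := by rw [h0]; exact h2

/-- `[e, K] ≤ O(K)` for `e = [d, u⁻¹]` a 2-element, `u` and `d` centralising a Sylow 2-subgroup
of `K`. -/
theorem comm_mem_oddCore (K : Subgroup X) [hK : K.Normal] (P : Sylow 2 K) {u d e : X}
    (he : e = d⁻¹ * u * d * u⁻¹)
    (hu : u ∈ centralizer (((P : Subgroup K).map K.subtype : Subgroup X) : Set X))
    (hd : d ∈ centralizer (((P : Subgroup K).map K.subtype : Subgroup X) : Set X))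
    (he2 : IsPGroup 2 (zpowers e)) {k : X} (hk : k ∈ K) :
    e * k * e⁻¹ * k⁻¹ ∈ (Cfsg.oddCore K).map K.subtype := by
  haveI : Fact (Nat.Prime 2) := ⟨Nat.prime_two⟩
  set PX := (P : Subgroup K).map K.subtype with hPX
  have hPK : PX ≤ K := map_subtype_le _
  have heC : e ∈ centralizer (PX : Set X) := by
    rw [he]; exact mul_mem (mul_mem (mul_mem (inv_mem hd) hu) hd) (inv_mem hu)
  have hEP : zpowers e ≤ normalizer (PX : Set X) :=
    le_normalizer_of_le_centralizer (zpowers_le.mpr heC)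
  set W := K ⊔ zpowers e with hW
  have hKW : K ≤ W := le_sup_left
  have heW : e ∈ W := mem_sup_right (mem_zpowers e)
  have hS02 : IsPGroup 2 ↥(PX ⊔ zpowers e) :=
    (P.2.map K.subtype).to_sup_of_normal_left' he2 hEP
  have hS0W : PX ⊔ zpowers e ≤ W := sup_le_sup_right hPK _
  obtain ⟨S, hS⟩ := (hS02.of_equiv (subgroupOfEquivOfLe hS0W).symm).exists_le_sylow
  set eW : W := ⟨e, heW⟩ with heWdef
  have heS : eW ∈ (S : Subgroup W) := hS (mem_subgroupOf.mpr (mem_sup_right (mem_zpowers e)))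
  -- `S ∩ K = P` and `S = P⟨e⟩`
  have hSK : ∀ s : W, s ∈ (S : Subgroup W) → (s : X) ∈ K → (s : X) ∈ PX := by
    intro s hs hsK
    set T := ((S : Subgroup W).map W.subtype).subgroupOf K
    have hT2 : IsPGroup 2 T :=
      (S.2.map W.subtype).comap_of_injective K.subtype K.subtype_injective
    have hle : (P : Subgroup K) ≤ T := fun y hy =>
      mem_subgroupOf.mpr ⟨⟨y, hKW y.2⟩,
        hS (mem_subgroupOf.mpr (mem_sup_left ⟨y, hy, rfl⟩)), rfl⟩
    exact ⟨⟨s, hsK⟩, (P.3 hT2 hle).le (mem_subgroupOf.mpr ⟨s, hs, rfl⟩), rfl⟩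
  have hSdec : ∀ s : W, s ∈ (S : Subgroup W) → (s : X) ∈ PX ⊔ zpowers e := by
    intro s hs
    obtain ⟨a, ha, c, hc, hac⟩ :=
      mem_of_mem_sup_of_normalizes (A := K) (B := zpowers e) le_normalizer_of_normal s.2
    have hcS : (⟨c, mem_sup_right hc⟩ : W) ∈ (S : Subgroup W) :=
      hS (mem_subgroupOf.mpr (mem_sup_right hc))
    have hmem := mul_mem hs (inv_mem hcS)
    rw [← hac]
    refine mul_mem (mem_sup_left ?_) (mem_sup_right hc)
    have h1 := hSK _ hmem (show (s : X) * c⁻¹ ∈ K by rw [← hac, mul_inv_cancel_right]; exact ha)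
    change (s : X) * c⁻¹ ∈ PX at h1
    rwa [← hac, mul_inv_cancel_right] at h1
  have hScen : ∀ s ∈ (S : Subgroup W), eW * s = s * eW := by
    intro s hs
    refine Subtype.ext ?_
    have h1 : PX ⊔ zpowers e ≤ centralizer ({e} : Set X) :=
      sup_le (fun y hy => mem_centralizer_singleton_iff.mpr (mem_centralizer_iff.mp heC y hy))
        (zpowers_le.mpr (mem_centralizer_singleton_iff.mpr rfl))
    exact (mem_centralizer_singleton_iff.mp (h1 (hSdec s hs))).symm
  -- the normaliser of a tame intersection containing `e` fixes it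
  have key : ∀ n, ∀ R : Sylow 2 W, Alperin.Tame S R →
      eW ∈ (S : Subgroup W) ⊓ (R : Subgroup W) →
      Nat.card W - Nat.card ((S : Subgroup W) ⊓ (R : Subgroup W) : Subgroup W) = n →
      ∀ x ∈ normalizer ((((S : Subgroup W) ⊓ (R : Subgroup W)) : Subgroup W) : Set W),
        x * eW * x⁻¹ = eW := by
    intro n
    induction n using Nat.strong_induction_on with
    | h n ih =>
    intro R ht heQ hn x hx
    set Q := (S : Subgroup W) ⊓ (R : Subgroup W) with hQ
    by_cases hgrow : (S : Subgroup W) ⊓ centralizer (Q : Set W) ≤ Q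
    · -- the self-centralising case
      set Q0 := Q.map W.subtype ⊓ K with hQ0
      have hQ0PX : Q0 ≤ PX := by
        rintro _ ⟨⟨s, hs, rfl⟩, hsK⟩
        exact hSK s hs.1 hsK
      have hcP : centralizer (PX : Set X) ≤ centralizer (Q0 : Set X) :=
        centralizer_le hQ0PX
      have hQsup : Q0 ⊔ zpowers e = Q.map W.subtype := by
        refine le_antisymm (sup_le inf_le_left (zpowers_le.mpr ⟨eW, heQ, rfl⟩)) ?_
        rintro _ ⟨s, hs, rfl⟩
        obtain ⟨a, ha, c, hc, hac⟩ := mem_of_mem_sup_of_normalizes hEP (hSdec s hs.1)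
        rw [show W.subtype s = a * c from hac.symm]
        refine mul_mem (mem_sup_left ⟨?_, hPK ha⟩) (mem_sup_right hc)
        obtain ⟨i, rfl⟩ := hc
        refine ⟨s * (eW ^ i)⁻¹, Q.mul_mem hs (Q.inv_mem (Q.zpow_mem heQ i)), ?_⟩
        change (s : X) * (e ^ i)⁻¹ = a
        rw [show (s : X) = a * e ^ i from hac.symm, mul_inv_cancel_right]
      have hnorm : ∀ r : W, (r : X) ∈ normalizer ((Q0 ⊔ zpowers e : Subgroup X) : Set X) →
          r ∈ normalizer (Q : Set W) := by
        intro r hr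
        rw [hQsup] at hr
        refine mem_normalizer_iff.mpr fun q => ?_
        have h1 := mem_normalizer_iff.mp hr (q : X)
        constructor
        · intro hq
          obtain ⟨y, hy, hye⟩ := h1.mp ⟨q, hq, rfl⟩
          rwa [show r * q * r⁻¹ = y from Subtype.ext hye.symm]
        · intro hq
          obtain ⟨y, hy, hye⟩ := h1.mpr ⟨_, hq, rfl⟩
          rwa [show q = y from Subtype.ext hye.symm]
      have hZ : ∀ r ∈ K, r ∈ centralizer (Q0 : Set X) →
          r ∈ normalizer ((Q0 ⊔ zpowers e : Subgroup X) : Set X) → IsPGroup 2 (zpowers r) →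
            r ∈ Q0 := by
        intro r hrK hrC hrN hr2
        set rW : W := ⟨r, hKW hrK⟩
        have hr2' : IsPGroup 2 (zpowers rW) :=
          (hr2.comap_of_injective W.subtype W.subtype_injective).to_le
            (zpowers_le.mpr (mem_comap.mpr (mem_zpowers r)))
        obtain ⟨m, hm, hmS⟩ := exists_conj_mem_of_tame ht (hnorm rW hrN) hr2'
        have hmX : ∀ q : X, q ∈ Q0 → (m : X)⁻¹ * q * (m : X) ∈ Q0 := by
          rintro _ ⟨⟨q, hq, rfl⟩, hqK⟩
          refine ⟨⟨m⁻¹ * q * m, ?_, rfl⟩, ?_⟩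
          · have h1 := (mem_normalizer_iff.mp (inv_mem hm) q).mp hq
            rwa [inv_inv] at h1
          · simpa using hK.conj_mem _ hqK (m : X)⁻¹
        have hsX : (m : X) * r * (m : X)⁻¹ ∈ PX :=
          hSK _ hmS (hK.conj_mem r hrK m)
        have hsC : (m : X) * r * (m : X)⁻¹ ∈ centralizer (Q0 : Set X) := by
          refine mem_centralizer_iff.mpr fun q hq => ?_
          have h := mem_centralizer_iff.mp hrC _ (hmX q hq)
          calc q * ((m : X) * r * (m : X)⁻¹)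
              = (m : X) * (((m : X)⁻¹ * q * (m : X)) * r) * (m : X)⁻¹ := by group
            _ = (m : X) * (r * ((m : X)⁻¹ * q * (m : X))) * (m : X)⁻¹ := by rw [h]
            _ = (m : X) * r * (m : X)⁻¹ * q := by group
        have hsQ : (⟨(m : X) * r * (m : X)⁻¹, hKW (hPK hsX)⟩ : W) ∈ Q := by
          refine hgrow ⟨hmS, mem_centralizer_iff.mpr fun q hq => Subtype.ext ?_⟩
          have h1 : Q0 ⊔ zpowers e ≤ centralizer ({(m : X) * r * (m : X)⁻¹} : Set X) :=
            sup_le (fun y hy => mem_centralizer_singleton_iff.mpr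
                (mem_centralizer_iff.mp hsC y hy))
              (zpowers_le.mpr (mem_centralizer_singleton_iff.mpr
                (mem_centralizer_iff.mp heC _ hsX).symm))
          exact mem_centralizer_singleton_iff.mp (h1 (hQsup.ge ⟨q, hq, rfl⟩))
        have := hmX _ ⟨⟨_, hsQ, rfl⟩, hPK hsX⟩
        simpa [mul_assoc] using this
      obtain ⟨k', hk', c, hc, hkc⟩ :=
        mem_of_mem_sup_of_normalizes (A := K) (B := zpowers e) le_normalizer_of_normal x.2
      have hcQ : (⟨c, mem_sup_right hc⟩ : W) ∈ Q := by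
        obtain ⟨i, rfl⟩ := hc
        exact Q.zpow_mem heQ i
      have hkW : (⟨k', hKW hk'⟩ : W) ∈ normalizer (Q : Set W) := by
        have : (⟨k', hKW hk'⟩ : W) = x * (⟨c, mem_sup_right hc⟩ : W)⁻¹ :=
          Subtype.ext (eq_mul_inv_of_mul_eq hkc)
        exact this ▸ mul_mem hx (inv_mem (le_normalizer hcQ))
      have hkN : k' ∈ normalizer ((Q0 ⊔ zpowers e : Subgroup X) : Set X) := by
        rw [hQsup]
        exact le_normalizer_map W.subtype ⟨_, hkW, rfl⟩
      have h0 := conj_eq_self_of_selfCentralizing K he he2 (hcP hu) (hcP hd)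
        ((P.2.map K.subtype).to_le hQ0PX) inf_le_right hZ hk' hkN
      refine Subtype.ext ?_
      change (x : X) * e * (x : X)⁻¹ = e
      obtain ⟨i, rfl⟩ := hc
      rw [← hkc]
      calc k' * e ^ i * e * (k' * e ^ i)⁻¹ = k' * (e ^ i * e * (e ^ i)⁻¹) * k'⁻¹ := by group
        _ = e := by rw [((Commute.refl e).zpow_left i).eq, mul_inv_cancel_right]; exact h0
    · -- the intersection grows
      obtain ⟨c, hc, hcx⟩ := exists_centralizing_of_tame ht hx
      set Q' := Q ⊔ ((S : Subgroup W) ⊓ centralizer (Q : Set W)) with hQ'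
      have hlt : Nat.card Q < Nat.card Q' := by
        refine lt_of_le_of_ne (card_le_of_le le_sup_left) fun h => hgrow ?_
        have := eq_of_le_of_card_ge (le_sup_left : Q ≤ Q') h.ge
        exact le_sup_right.trans this.ge
      have hQ'S : Q' ≤ (S : Subgroup W) := sup_le inf_le_left inf_le_left
      have hy : c * x ∈ normalizer (Q' : Set W) := normalizer_inf_le_normalizer_sup _ _
        ⟨mul_mem (le_normalizer_of_le_centralizer le_rfl hc) hx, hcx⟩
      have hAg : (fun a => ((c * x)⁻¹)⁻¹ * a * (c * x)⁻¹) '' (Q' : Set W) ⊆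
          ((S : Subgroup W) : Set W) := by
        rintro _ ⟨a, ha, rfl⟩
        refine hQ'S ?_
        simpa using (mem_normalizer_iff.mp hy a).mp ha
      have h0 := fixed_of_chain (Alperin.chain_of_conj S (Q' : Set W) (c * x)⁻¹ (SetLike.coe_subset_coe.mpr hQ'S) hAg)
        (e := eW) (show eW ∈ Q' from mem_sup_left heQ) fun R' hR' he' hle' => by
          have hle'' : Nat.card Q' ≤ Nat.card ((S : Subgroup W) ⊓ (R' : Subgroup W) : Subgroup W) := by
            refine le_trans (le_of_eq ?_) hle'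
            exact Nat.card_coe_set_eq _
          refine ih _ ?_ R' hR' he' rfl
          have := card_le_card_group ((S : Subgroup W) ⊓ (R' : Subgroup W))
          omega
      rw [inv_inv] at h0
      have hfix : c⁻¹ * eW * c = eW := by
        rw [mul_assoc, mem_centralizer_iff.mp hc eW heQ, inv_mul_cancel_left]
      calc x * eW * x⁻¹ = c⁻¹ * (c * x * eW * (c * x)⁻¹) * c := by group
        _ = eW := by rw [h0, hfix]
  -- so `e` has no other conjugate in `S`
  have hfix : ∀ g : W, g * eW * g⁻¹ ∈ S → g * eW * g⁻¹ = eW := by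
    intro g hg
    have h0 := fixed_of_chain (Alperin.chain_of_conj S {eW} g⁻¹
      (Set.singleton_subset_iff.mpr heS) (by
        rw [Set.image_singleton, inv_inv]; exact Set.singleton_subset_iff.mpr hg))
      (Set.mem_singleton eW) fun R hR he' _ => key _ R hR he' rfl
    rwa [inv_inv] at h0
  have hres := CfsgLib.Involution.ZStar.comm_mem_oddCore_of_fixed S heS hfix ⟨k, hKW hk⟩
  set O := (Cfsg.oddCore W).map W.subtype with hO
  have hOK : O ≤ K := by
    rintro _ ⟨g, hg, rfl⟩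
    obtain ⟨a, ha, c, hc, hac⟩ :=
      mem_of_mem_sup_of_normalizes (A := K) (B := zpowers e) le_normalizer_of_normal g.2
    obtain ⟨j, hj⟩ := he2 ⟨c, hc⟩
    have hj' : c ^ 2 ^ j = 1 := congrArg Subtype.val hj
    refine mem_of_coprime_pows (m := orderOf (g : X)) (n := 2 ^ j) ?_ ?_ ?_
    · refine Nat.Coprime.pow_right j ?_
      rw [Subgroup.orderOf_coe]
      exact ((CfsgLib.Solvable.Cores.coprime_card_pPrimeCore (G := W) 2)).coprime_dvd_left
        ((Cfsg.oddCore W).orderOf_dvd_natCard hg)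
    · show (g : X) ^ orderOf (g : X) ∈ K
      rw [pow_orderOf_eq_one]; exact one_mem K
    · refine (QuotientGroup.eq_one_iff _).mp ?_
      have : (((g : X) ^ 2 ^ j : X) : X ⧸ K) = ((c : X) : X ⧸ K) ^ 2 ^ j := by
        rw [← hac, QuotientGroup.mk_pow, QuotientGroup.mk_mul, (QuotientGroup.eq_one_iff a).mpr ha,
          one_mul]
      change (((g : X) ^ 2 ^ j : X) : X ⧸ K) = 1
      rw [this, ← QuotientGroup.mk_pow, hj', QuotientGroup.mk_one]
  haveI : (O.subgroupOf K).Normal :=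
    (normal_subgroupOf_iff_le_normalizer hOK).mpr
      (hKW.trans (le_normalizer.trans le_normalizer_map_oddCore))
  have h1 : O.subgroupOf K ≤ Cfsg.oddCore K := CfsgLib.Solvable.Cores.le_pPrimeCore (by
    rw [Nat.card_congr (subgroupOfEquivOfLe hOK).toEquiv, hO,
      card_map_of_injective W.subtype_injective]
    exact CfsgLib.Solvable.Cores.coprime_card_pPrimeCore 2)
  have hmem : e * k * e⁻¹ * k⁻¹ ∈ O := ⟨_, hres, rfl⟩
  exact ⟨⟨_, hOK hmem⟩, h1 (mem_subgroupOf.mpr hmem), rfl⟩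
where
  le_normalizer_map_oddCore {W : Subgroup X} :
      normalizer (W : Set X) ≤ normalizer ((Cfsg.oddCore W).map W.subtype : Set X) :=
    fun _ hg => map_subtype_normal_of_characteristic hg

/-- If `O(K) = 1` such an element centralises `K`. -/
theorem mem_centralizer (K : Subgroup X) [K.Normal] (hO : Cfsg.oddCore K = ⊥) (P : Sylow 2 K)
    {u d e : X} (he : e = d⁻¹ * u * d * u⁻¹)
    (hu : u ∈ centralizer (((P : Subgroup K).map K.subtype : Subgroup X) : Set X))
    (hd : d ∈ centralizer (((P : Subgroup K).map K.subtype : Subgroup X) : Set X))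
    (he2 : IsPGroup 2 (zpowers e)) : e ∈ centralizer (K : Set X) := by
  refine mem_centralizer_iff.mpr fun k hk => ?_
  have h := comm_mem_oddCore K P he hu hd he2 hk
  rw [hO, Subgroup.map_bot, mem_bot, mul_inv_eq_one, mul_inv_eq_iff_eq_mul] at h
  exact h.symm

/-- Glauberman: if `O(K) = 1` and `C_X(K) = 1` then `C_X(P)` has abelian 2-subgroups and a normal
2-complement, for `P` a Sylow 2-subgroup of `K`. -/
theorem centralizer_structure (K : Subgroup X) [K.Normal] (hO : Cfsg.oddCore K = ⊥)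
    (hC : centralizer (K : Set X) = ⊥) (P : Sylow 2 K) :
    (∀ V : Subgroup X, V ≤ centralizer (((P : Subgroup K).map K.subtype : Subgroup X) : Set X) →
        IsPGroup 2 V → ∀ a ∈ V, ∀ b ∈ V, a * b = b * a) ∧
      Cfsg.HasNormalPComplement 2
        ↥(centralizer (((P : Subgroup K).map K.subtype : Subgroup X) : Set X)) := by
  haveI : Fact (Nat.Prime 2) := ⟨Nat.prime_two⟩
  set C := centralizer (((P : Subgroup K).map K.subtype : Subgroup X) : Set X)
  have key : ∀ u d : X, u ∈ C → d ∈ C → IsPGroup 2 (zpowers (d⁻¹ * u * d * u⁻¹)) →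
      d * u = u * d := by
    intro u d hu hd h2
    have h := mem_centralizer K hO P rfl hu hd h2
    rw [hC, mem_bot] at h
    calc d * u = d * ((d⁻¹ * u * d * u⁻¹) * u) := by rw [h, one_mul]
      _ = u * d := by group
  refine ⟨fun V hV h2 a ha b hb => key b a (hV hb) (hV ha) (h2.to_le (zpowers_le.mpr ?_)), ?_⟩
  · exact mul_mem (mul_mem (mul_mem (inv_mem ha) hb) ha) (inv_mem hb)
  obtain ⟨T⟩ : Nonempty (Sylow 2 C) := inferInstance
  refine Alperin.npc_of_frobenius T fun Q hQ g hg _ => mem_centralizer_iff.mpr fun q hq => ?_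
  refine Subtype.ext (key (q : X) (g : X) q.2 g.2 ?_).symm
  have h1 : g⁻¹ * q * g * q⁻¹ ∈ Q := by
    refine Q.mul_mem ?_ (Q.inv_mem hq)
    simpa using (mem_normalizer_iff.mp (inv_mem hg) q).mp hq
  have h2 := ((T.2.to_le hQ).to_le (zpowers_le.mpr h1)).map C.subtype
  rw [MonoidHom.map_zpowers] at h2
  exact h2

end CfsgLib.Components.GlaubermanSylow
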