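import Cfsg.Agent.Lib.Components.LocalCore
import Cfsg.Agent.Lib.Components.GlaubermanSylow
import Cfsg.Prelude.Def_KGroupFacts

/-!
L-balance: the `p`-layer of a `p`-local subgroup lies in the `p`-layer, for `p = 2` and under the
Schreier property of the components.
-/

set_option autoImplicit false
set_option linter.style.haveILetI false
set_option linter.unusedSectionVars false
set_option linter.style.show false
set_option maxHeartbeats 800000

namespace CfsgLib.Components.LBalance

open Subgroup CfsgLib.Solvable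
open scoped commutatorElement

variable {G : Type*} [Group G] [Finite G] {p : ℕ} [hp : Fact p.Prime]

local notation "qq" => QuotientGroup.mk' (Cfsg.pPrimeCore p G)

/-- An image of a quasisimple group as a subnormal subgroup lies in the layer. -/
theorem range_le_layer {H B A : Type*} [Group H] [Group B] [Group A] (g : H →* B)
    (hg : Function.Surjective g) (hB : Cfsg.IsQuasisimple B) (f : H →* A) (hk : g.ker ≤ f.ker)
    (hsn : f.range.IsSubnormal) : f.range ≤ Cfsg.layer A := by
  let φ := (QuotientGroup.lift g.ker f hk).comp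
    (QuotientGroup.quotientKerEquivOfSurjective g hg).symm.toMonoidHom
  have hr : φ.range = f.range := by
    ext a
    constructor
    · rintro ⟨b, rfl⟩
      obtain ⟨y, hy⟩ := QuotientGroup.mk_surjective
        ((QuotientGroup.quotientKerEquivOfSurjective g hg).symm b)
      exact ⟨y, by simp [φ, ← hy]⟩
    · rintro ⟨y, rfl⟩
      exact ⟨QuotientGroup.quotientKerEquivOfSurjective g hg (y : H ⧸ g.ker), by simp [φ]⟩
  by_cases hb : f.range = ⊥
  · rw [hb]; exact bot_le
  refine IsComponent.le_layer ⟨hsn, ?_⟩
  rw [← hr, MonoidHom.range_eq_map] at hb ⊢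
  exact IsQuasisimple.map (IsQuasisimple.of_mulEquiv hB Subgroup.topEquiv.symm) φ hb

theorem core_sup_layer_eq_comap :
    Cfsg.pLayer p G ⊔ Cfsg.pPrimeCore p G =
      (Cfsg.layer (G ⧸ Cfsg.pPrimeCore p G)).comap qq := by
  rw [← pLayer_map_eq, comap_map_eq, QuotientGroup.ker_mk']

theorem core_sup_layer_le_normalizer :
    Cfsg.pLayer p G ⊔ Cfsg.pPrimeCore p G ≤ normalizer (Cfsg.pLayer p G : Set G) := by
  intro g hg
  refine Coprime.mem_normalizer_of_conj_map_le fun x hx => ?_
  have h : (Cfsg.pLayer p G).map (MulAut.conj g).toMonoidHom ≤ Cfsg.pLayer p G := by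
    rw [map_le_iff_le_comap]
    refine sSup_le fun K hK => map_le_iff_le_comap.mp ?_
    have h1 : Cfsg.pLayer p G ⊔ Cfsg.pPrimeCore p G ≤ normalizer (K : Set G) :=
      sup_le (pLayer_le_normalizer hK) (pPrimeCore_le_normalizer_pComponent hK)
    exact (mem_normalizer_iff_map_conj_eq.mp (h1 hg)).le.trans (IsPComponent.le_pLayer hK)
  exact h ⟨x, hx, rfl⟩

/-- A homomorphism from a `p`-component into a group of order prime to `p` is trivial. -/
theorem eq_one_of_coprime_range {K : Subgroup G} (hK : Cfsg.IsPComponent p K) {A : Type*}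
    [Group A] (f : K →* A) (hc : (Nat.card f.range).Coprime p) (k : K) : f k = 1 := by
  have h := IsPComponent.no_pPrime_quotient hK f.ker inferInstance
    (by rwa [index_ker])
  exact MonoidHom.mem_ker.mp (h ▸ mem_top k)

/-- A `p`-component maps into the `p`-layer as soon as its image is subnormal. -/
theorem range_le_pLayer {H : Type*} [Group H] [Finite H] {K : Subgroup H}
    (hK : Cfsg.IsPComponent p K) (f : K →* G) (hsn : f.range.IsSubnormal) :
    f.range ≤ Cfsg.pLayer p G := by
  have hsmall : (Cfsg.pPrimeCore p ↥K).map f ≤ Cfsg.pPrimeCore p G := by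
    refine le_pPrimeCore_of_subnormal ?_
      ((Cores.coprime_card_pPrimeCore p).coprime_dvd_left (card_map_dvd _ _))
    have h1 : ((Cfsg.pPrimeCore p ↥K).map f.rangeRestrict).IsSubnormal :=
      (Normal.isSubnormal (Cfsg.pPrimeCore_normal p ↥K)).map f.rangeRestrict_surjective
    have h2 := h1.trans' hsn
    rwa [map_map, MonoidHom.subtype_comp_rangeRestrict] at h2
  have h1 := range_le_layer (QuotientGroup.mk' (Cfsg.pPrimeCore p ↥K))
    (QuotientGroup.mk'_surjective _) (IsPComponent.quasisimple_quotient hK) ((qq).comp f)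
    (fun k hk => by
      rw [QuotientGroup.ker_mk'] at hk
      rw [MonoidHom.mem_ker, MonoidHom.comp_apply]
      exact (QuotientGroup.eq_one_iff _).mpr (hsmall ⟨k, hk, rfl⟩))
    (by rw [MonoidHom.range_comp]; exact hsn.map (QuotientGroup.mk'_surjective _))
  set W := Cfsg.pLayer p G ⊔ Cfsg.pPrimeCore p G with hW
  have hfW : ∀ k, f k ∈ W := fun k => by
    rw [hW, core_sup_layer_eq_comap]; exact h1 ⟨k, rfl⟩
  haveI : ((Cfsg.pLayer p G).subgroupOf W).Normal :=
    (normal_subgroupOf_iff_le_normalizer le_sup_left).mpr core_sup_layer_le_normalizer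
  let g := (QuotientGroup.mk' ((Cfsg.pLayer p G).subgroupOf W)).comp (f.codRestrict W hfW)
  have hc : (Nat.card g.range).Coprime p := by
    refine (Cores.coprime_card_pPrimeCore (G := G) p).coprime_dvd_left ?_
    refine (card_dvd_of_le (K := ((Cfsg.pPrimeCore p G).subgroupOf W).map
      (QuotientGroup.mk' ((Cfsg.pLayer p G).subgroupOf W))) ?_).trans
      ((card_map_dvd _ _).trans (Nat.card_congr (subgroupOfEquivOfLe le_sup_right).toEquiv).dvd)
    rintro _ ⟨k, rfl⟩
    obtain ⟨a, ha, b, hb, hab⟩ := GlaubermanSylow.mem_of_mem_sup_of_normalizes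
      (A := Cfsg.pLayer p G) (B := Cfsg.pPrimeCore p G)
      (le_sup_right.trans core_sup_layer_le_normalizer) (hfW k)
    refine ⟨⟨b, mem_sup_right hb⟩, hb, ?_⟩
    refine (QuotientGroup.eq.mpr ?_).symm.trans (by rfl)
    refine mem_subgroupOf.mpr ?_
    show (f k)⁻¹ * b ∈ Cfsg.pLayer p G
    rw [← hab]
    have hbN := (le_sup_right.trans core_sup_layer_le_normalizer) hb
    have := (mem_normalizer_iff.mp (inv_mem hbN) a⁻¹).mp (inv_mem ha)
    simpa [mul_assoc] using this
  rintro _ ⟨k, rfl⟩
  exact mem_subgroupOf.mp ((QuotientGroup.eq_one_iff _).mp (eq_one_of_coprime_range hK g hc k))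

variable (p) in
/-- The `p`-layer of `N(R)`, inside the group. -/
def localLayer (R : Subgroup G) : Subgroup G :=
  (Cfsg.pLayer p ↥(normalizer (R : Set G))).map (normalizer (R : Set G)).subtype

variable (p) in
/-- The core of `N(R)`, inside the group. -/
def localCore (R : Subgroup G) : Subgroup G :=
  (Cfsg.pPrimeCore p ↥(normalizer (R : Set G))).map (normalizer (R : Set G)).subtype

theorem mem_centralizer_of_local {R : Subgroup G} {g : normalizer (R : Set G)}
    (h : g ∈ centralizer (R.subgroupOf (normalizer (R : Set G)) : Set (normalizer (R : Set G)))) :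
    (g : G) ∈ centralizer (R : Set G) :=
  mem_centralizer_iff.mpr fun r hr => congrArg Subtype.val
    (mem_centralizer_iff.mp h ⟨r, Subgroup.le_normalizer hr⟩ hr)

theorem localLayer_le_centralizer {R : Subgroup G} (hR : IsPGroup p R) :
    localLayer p R ≤ centralizer (R : Set G) := by
  rintro _ ⟨g, hg, rfl⟩
  haveI : (R.subgroupOf (normalizer (R : Set G))).Normal := normal_in_normalizer
  exact mem_centralizer_of_local (le_centralizer_pGroup_of_pLayer
    (hR.of_equiv (subgroupOfEquivOfLe Subgroup.le_normalizer).symm) hg)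

theorem localCore_le_centralizer {R : Subgroup G} (hR : IsPGroup p R) :
    localCore p R ≤ centralizer (R : Set G) := by
  rintro _ ⟨g, hg, rfl⟩
  haveI : (R.subgroupOf (normalizer (R : Set G))).Normal := normal_in_normalizer
  exact mem_centralizer_of_local (pPrimeCore_le_centralizer_pGroup
    (hR.of_equiv (subgroupOfEquivOfLe Subgroup.le_normalizer).symm) hg)

theorem localCore_coprime (R : Subgroup G) : (Nat.card (localCore p R)).Coprime p := by
  rw [localCore, card_map_of_injective (subtype_injective _)]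
  exact Cores.coprime_card_pPrimeCore p

theorem sup_le_normalizer (hO : Cfsg.pPrimeCore p G = ⊥) {R : Subgroup G} (hR : IsPGroup p R)
    {L : Subgroup G} (hL : Cfsg.IsComponent L) :
    localLayer p R ⊔ localCore p R ≤ normalizer (L : Set G) := by
  have h := PermuteComponents.coreLayer_le_normalizer hO hR (N := normalizer (R : Set G))
    Subgroup.le_normalizer le_rfl (centralizer_le_normalizer _) hL
  rw [PermuteComponents.coreLayer_eq, Subgroup.map_sup] at h
  exact h

theorem localLayer_le_centralizer_pCore {R : Subgroup G} (hR : IsPGroup p R) :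
    localLayer p R ≤ centralizer (Cfsg.pCore p G : Set G) := by
  set N := normalizer (R : Set G) with hN
  rw [localLayer, map_le_iff_le_comap]
  refine sSup_le fun K hK => ?_
  refine perfect_le_of_pPrime_elements (p := p) (IsPComponent.isPerfect hK) fun g hg hgp => ?_
  haveI : (Cfsg.pCore p G).Normal := Cfsg.pCore_normal p G
  haveI : (centralizer (R : Set G)).subgroupOf N |>.Normal :=
    (normal_subgroupOf_iff_le_normalizer (centralizer_le_normalizer _)).mpr
      normalizer_le_normalizer_centralizer
  set V := ((Cfsg.pCore p G).subgroupOf N ⊓ (centralizer (R : Set G)).subgroupOf N) with hV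
  have hVp : IsPGroup p V :=
    ((Cores.isPGroup_pCore p).comap_of_injective N.subtype N.subtype_injective).to_le inf_le_left
  have hc := le_centralizer_pGroup_of_pLayer hVp (IsPComponent.le_pLayer hK hg)
  refine mem_centralizer_of_prod hR (Cores.isPGroup_pCore p)
    (by rw [normalizer_eq_top]; exact le_top) (g := (g : G))
    (by rwa [Subgroup.orderOf_coe]) (by rw [normalizer_eq_top]; exact mem_top _)
    (localLayer_le_centralizer hR ⟨g, IsPComponent.le_pLayer hK hg, rfl⟩) ?_
  refine mem_centralizer_iff.mpr fun v hv => ?_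
  exact congrArg Subtype.val (mem_centralizer_iff.mp hc ⟨v, centralizer_le_normalizer _ hv.2⟩ hv)

theorem layer_le_inner {L : Subgroup G} (hL : Cfsg.IsComponent L) :
    Cfsg.layer G ≤ L ⊔ centralizer (L : Set G) :=
  layer_le_iff.mpr fun K hK => by
    by_cases h : K = L
    · exact h ▸ le_sup_left
    · exact (IsComponent.le_centralizer_of_ne hK hL h).trans le_sup_right

/-- Elements inducing inner automorphisms on every component and centralising `O_p`. -/
theorem le_layer_of_inner (hO : Cfsg.pPrimeCore p G = ⊥) {S : Subgroup G}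
    (hS : ∀ L : Subgroup G, Cfsg.IsComponent L → S ≤ L ⊔ centralizer (L : Set G))
    (hSp : S ≤ centralizer (Cfsg.pCore p G : Set G)) (hperf : ⁅S, S⁆ = S) :
    S ≤ Cfsg.layer G := by
  classical
  set E := Cfsg.layer G with hE
  set F := Cfsg.fittingSubgroup G with hF
  have hEC : E ≤ centralizer (F : Set G) := layer_le_centralizer_fitting
  have hSF : S ≤ E ⊔ (F ⊓ centralizer (F : Set G)) := by
    intro g hg
    have key : ∀ s : Finset (Subgroup G), (∀ L ∈ s, Cfsg.IsComponent L) →
        ∃ e ∈ E, ∀ L ∈ s, e⁻¹ * g ∈ centralizer (L : Set G) := by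
      intro s
      induction s using Finset.induction_on with
      | empty => exact fun _ => ⟨1, one_mem _, by simp⟩
      | @insert L s hLs ih =>
        intro hs
        obtain ⟨e, he, hes⟩ := ih fun M hM => hs M (Finset.mem_insert_of_mem hM)
        have hL := hs L (Finset.mem_insert_self _ _)
        have hh : e⁻¹ * g ∈ L ⊔ centralizer (L : Set G) :=
          mul_mem (inv_mem (layer_le_inner hL he)) (hS L hL hg)
        obtain ⟨l, hl, c, hc, hlc⟩ := GlaubermanSylow.mem_of_mem_sup_of_normalizes
          (GlaubermanSylow.le_normalizer_of_le_centralizer le_rfl) hh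
        refine ⟨e * l, mul_mem he (IsComponent.le_layer hL hl), fun M hM => ?_⟩
        have hec : (e * l)⁻¹ * g = c := by rw [mul_inv_rev, mul_assoc, ← hlc, inv_mul_cancel_left]
        rcases Finset.mem_insert.mp hM with h | h
        · rw [hec, h]; exact hc
        · rw [mul_inv_rev, mul_assoc]
          exact mul_mem (inv_mem (IsComponent.le_centralizer_of_ne hL
            (hs M (Finset.mem_insert_of_mem h)) (fun h' => hLs (h' ▸ h)) hl)) (hes M h)
    haveI := Fintype.ofFinite (Subgroup G)
    obtain ⟨e, he, hes⟩ := key (Finset.univ.filter fun L => Cfsg.IsComponent L)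
      fun L hL => (Finset.mem_filter.mp hL).2
    have hc1 : e⁻¹ * g ∈ centralizer (E : Set G) := by
      suffices hs : E ≤ centralizer {e⁻¹ * g} from mem_centralizer_iff.mpr fun y hy =>
        mem_centralizer_singleton_iff.mp (hs hy)
      rw [hE, layer_le_iff]
      exact fun L hL y hy => mem_centralizer_singleton_iff.mpr (mem_centralizer_iff.mp
        (hes L (Finset.mem_filter.mpr ⟨Finset.mem_univ _, hL⟩)) y hy)
    have hc2 : e⁻¹ * g ∈ centralizer (F : Set G) :=
      mul_mem (inv_mem (hEC he)) (by rw [hF, Cores.fittingSubgroup_eq_pCore p hO]; exact hSp hg)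
    have hc : e⁻¹ * g ∈ centralizer (Cfsg.generalizedFittingSubgroup G : Set G) := by
      suffices hs : Cfsg.generalizedFittingSubgroup G ≤ centralizer {e⁻¹ * g} from
        mem_centralizer_iff.mpr fun y hy => mem_centralizer_singleton_iff.mp (hs hy)
      refine sup_le (fun y hy => ?_) (fun y hy => ?_) <;> rw [mem_centralizer_singleton_iff]
      · exact mem_centralizer_iff.mp hc1 y hy
      · exact mem_centralizer_iff.mp hc2 y hy
    rw [← mul_inv_cancel_left e g]
    exact mul_mem (mem_sup_left he)
      (mem_sup_right ⟨centralizer_generalizedFitting_le_fitting hc, hc2⟩)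
  have hcomm : ⁅S, S⁆ ≤ E := by
    refine (Subgroup.commutator_mono hSF hSF).trans ?_
    rw [commutator_le]
    intro a ha b hb
    obtain ⟨a1, ha1, a2, ha2, rfl⟩ := GlaubermanSylow.mem_of_mem_sup_of_normalizes
      (le_normalizer_of_normal) ha
    obtain ⟨b1, hb1, b2, hb2, rfl⟩ := GlaubermanSylow.mem_of_mem_sup_of_normalizes
      (le_normalizer_of_normal) hb
    have h1 : QuotientGroup.mk' E ⁅a1 * a2, b1 * b2⁆ = 1 := by
      have e1 : QuotientGroup.mk' E a1 = 1 := (QuotientGroup.eq_one_iff a1).mpr ha1
      have e2 : QuotientGroup.mk' E b1 = 1 := (QuotientGroup.eq_one_iff b1).mpr hb1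
      have h2 : ⁅a2, b2⁆ = 1 :=
        commutatorElement_eq_one_iff_mul_comm.mpr (mem_centralizer_iff.mp hb2.2 a2 ha2.1)
      rw [map_commutatorElement, map_mul, map_mul, e1, e2, one_mul, one_mul,
        ← map_commutatorElement, h2, map_one]
    exact (QuotientGroup.eq_one_iff _).mp h1
  exact hperf ▸ hcomm

theorem mem_centralizer_of_commutator {L : Subgroup G} (hL : Cfsg.IsComponent L) {g : G}
    (hg : g ∈ normalizer (L : Set G)) (h : ∀ l ∈ L, ⁅g, l⁆ ∈ centralizer (L : Set G)) :
    g ∈ centralizer (L : Set G) := by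
  set NL := normalizer (L : Set G) with hNL
  haveI : ((centralizer (L : Set G)).subgroupOf NL).Normal :=
    (normal_subgroupOf_iff_le_normalizer (centralizer_le_normalizer _)).mpr
      normalizer_le_normalizer_centralizer
  set π := QuotientGroup.mk' ((centralizer (L : Set G)).subgroupOf NL)
  have h4 := commutator_eq_bot_of_perfect (X := zpowers g) hL.2.1 (by
    rw [commutator_eq_bot_iff_le_centralizer, commutator_le]
    intro z hz l hl
    obtain ⟨i, rfl⟩ := mem_zpowers_iff.mp hz
    have hcm : Commute (π ⟨g, hg⟩) (π ⟨l, Subgroup.le_normalizer hl⟩) := by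
      refine commutatorElement_eq_one_iff_mul_comm.mp ?_
      rw [← map_commutatorElement]
      exact (QuotientGroup.eq_one_iff _).mpr (mem_subgroupOf.mpr (h l hl))
    have h9 : π ⁅(⟨g, hg⟩ : NL) ^ i, ⟨l, Subgroup.le_normalizer hl⟩⁆ = 1 := by
      rw [map_commutatorElement, map_zpow, commutatorElement_eq_one_iff_mul_comm]
      exact (hcm.zpow_left i).eq
    simpa [commutatorElement_def] using mem_subgroupOf.mp ((QuotientGroup.eq_one_iff _).mp h9))
  exact commutator_eq_bot_iff_le_centralizer.mp h4 (mem_zpowers g)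

/-! ### The action on one component -/

section Component
variable {L : Subgroup G}

/-- The inner and central part of `N(L)`. -/
def innerPart (L : Subgroup G) : Subgroup (normalizer (L : Set G)) :=
  (L ⊔ centralizer (L : Set G)).subgroupOf (normalizer (L : Set G))

instance innerPart_normal (L : Subgroup G) : (innerPart L).Normal :=
  (normal_subgroupOf_iff_le_normalizer
    (sup_le Subgroup.le_normalizer (centralizer_le_normalizer _))).mpr
    ((le_inf le_rfl normalizer_le_normalizer_centralizer).trans
      (GlaubermanSylow.normalizer_inf_le_normalizer_sup _ _))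

/-- The outer image of a subgroup of `N(L)`. -/
def outImage (L S : Subgroup G) : Subgroup (normalizer (L : Set G) ⧸ innerPart L) :=
  (S.subgroupOf (normalizer (L : Set G))).map (QuotientGroup.mk' (innerPart L))

theorem card_outImage_dvd {S : Subgroup G} (hS : S ≤ normalizer (L : Set G)) :
    Nat.card (outImage L S) ∣ Nat.card S :=
  (card_map_dvd _ _).trans (Nat.card_congr (subgroupOfEquivOfLe hS).toEquiv).dvd

theorem outImage_mono {S T : Subgroup G} (h : S ≤ T) : outImage L S ≤ outImage L T :=
  map_mono (comap_mono h)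

theorem outImage_eq_bot {S : Subgroup G} (h : S ≤ L ⊔ centralizer (L : Set G)) :
    outImage L S = ⊥ := by
  rw [outImage, Subgroup.map_eq_bot_iff, QuotientGroup.ker_mk']
  exact comap_mono h

theorem outImage_sup {S T : Subgroup G} (hS : S ≤ normalizer (L : Set G))
    (hT : T ≤ normalizer (L : Set G)) : outImage L (S ⊔ T) = outImage L S ⊔ outImage L T := by
  rw [outImage, Subgroup.subgroupOf_sup hS hT, Subgroup.map_sup]
  rfl

theorem coprime_card_sup {A : Type*} [Group A] [Finite A] {S T : Subgroup A}
    (h : S ≤ normalizer (T : Set A)) (hS : (Nat.card S).Coprime p) (hT : (Nat.card T).Coprime p) :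
    (Nat.card ↥(S ⊔ T)).Coprime p := by
  let f : S × T → ↥(S ⊔ T) :=
    fun x => ⟨(x.1 : A) * (x.2 : A), mul_mem (mem_sup_left x.1.2) (mem_sup_right x.2.2)⟩
  haveI : (T.subgroupOf (S ⊔ T)).Normal :=
    (normal_subgroupOf_iff_le_normalizer le_sup_right).mpr (sup_le h Subgroup.le_normalizer)
  have h1 := card_eq_card_quotient_mul_card_subgroup (T.subgroupOf (S ⊔ T))
  have h2 : Nat.card (↥(S ⊔ T) ⧸ T.subgroupOf (S ⊔ T)) ∣ Nat.card S := by
    let g : S →* ↥(S ⊔ T) ⧸ T.subgroupOf (S ⊔ T) :=
      (QuotientGroup.mk' _).comp (inclusion le_sup_left)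
    have hg : Function.Surjective g := by
      intro y
      obtain ⟨⟨y, hy⟩, rfl⟩ := QuotientGroup.mk_surjective y
      rw [sup_comm] at hy
      obtain ⟨t, ht, s, hs, rfl⟩ := GlaubermanSylow.mem_of_mem_sup_of_normalizes h hy
      refine ⟨⟨s, hs⟩, QuotientGroup.eq.mpr (mem_subgroupOf.mpr ?_)⟩
      show s⁻¹ * (t * s) ∈ T
      have := (mem_normalizer_iff.mp (inv_mem (h hs)) t).mp ht
      simpa [mul_assoc] using this
    exact Subgroup.card_dvd_of_surjective g hg
  rw [h1, Nat.card_congr (subgroupOfEquivOfLe le_sup_right).toEquiv]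
  exact (hS.coprime_dvd_left h2).mul_left hT

/-- A `p`-component of a subgroup whose outer image on `L` has order prime to `p`. -/
theorem le_inner_of_coprime {H : Subgroup G} {K : Subgroup H} (hK : Cfsg.IsPComponent p K)
    (hN : K.map H.subtype ≤ normalizer (L : Set G))
    (hc : (Nat.card (outImage L (K.map H.subtype))).Coprime p) :
    K.map H.subtype ≤ L ⊔ centralizer (L : Set G) := by
  let f : K →* normalizer (L : Set G) ⧸ innerPart L :=
    (QuotientGroup.mk' (innerPart L)).comp
      ((H.subtype.comp K.subtype).codRestrict _ fun k => hN ⟨k, k.2, rfl⟩)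
  have hr : f.range ≤ outImage L (K.map H.subtype) := by
    rintro _ ⟨k, rfl⟩
    exact ⟨_, ⟨k, k.2, rfl⟩, rfl⟩
  rintro _ ⟨k, hk, rfl⟩
  have h1 : (⟨(k : G), hN ⟨k, hk, rfl⟩⟩ : normalizer (L : Set G)) ∈ innerPart L :=
    (QuotientGroup.eq_one_iff _).mp
      (eq_one_of_coprime_range hK f (hc.coprime_dvd_left (card_dvd_of_le hr)) ⟨k, hk⟩)
  exact mem_subgroupOf.mp h1

/-- The step from `R` to a larger `2`-group by an element of the layer. -/
theorem le_inner_step (hO : Cfsg.pPrimeCore p G = ⊥) {R : Subgroup G} (hR : IsPGroup p R)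
    (hL : Cfsg.IsComponent L) {x : G} (hxE : x ∈ Cfsg.layer G) (hx : IsPGroup p (zpowers x))
    (hxR : x ∈ normalizer (R : Set G))
    (ih : localLayer p (R ⊔ zpowers x) ≤ L ⊔ centralizer (L : Set G)) :
    ∀ K : Subgroup (normalizer (R : Set G)), Cfsg.IsPComponent p K →
      K.map (normalizer (R : Set G)).subtype ≤ L ⊔ centralizer (L : Set G) := by
  set N := normalizer (R : Set G) with hN
  intro K hK
  set O := Cfsg.pPrimeCore p ↥N with hOdef
  have hLC : localLayer p R ⊔ localCore p R ≤ normalizer (L : Set G) := sup_le_normalizer hO hR hL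
  have hKL : K.map N.subtype ≤ localLayer p R := map_mono (IsPComponent.le_pLayer hK)
  have hKN : K.map N.subtype ≤ normalizer (L : Set G) := hKL.trans (le_sup_left.trans hLC)
  refine le_inner_of_coprime hK hKN ?_
  have hcore : (Nat.card (outImage L (localCore p R))).Coprime p :=
    (localCore_coprime R).coprime_dvd_left (card_outImage_dvd (le_sup_right.trans hLC))
  set M := (Cfsg.layer G).subgroupOf N with hM
  haveI : M.Normal := inferInstance
  haveI : (M.map (QuotientGroup.mk' O)).Normal :=
    Subgroup.Normal.map inferInstance _ (QuotientGroup.mk'_surjective _)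
  rcases IsComponent.le_or_commutator_eq_bot_of_normal hK.2.1 (M.map (QuotientGroup.mk' O)) with
    hle | hc
  · refine hcore.coprime_dvd_left (card_dvd_of_le ?_)
    have h1 : K.map N.subtype ≤ (Cfsg.layer G ⊓ N) ⊔ localCore p R := by
      have h2 : K ≤ M ⊔ O := by
        have := map_le_iff_le_comap.mp hle
        rwa [comap_map_eq, QuotientGroup.ker_mk'] at this
      have h3 := map_mono (f := N.subtype) h2
      rwa [Subgroup.map_sup, hM, subgroupOf_map_subtype] at h3
    refine (outImage_mono h1).trans ?_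
    rw [outImage_sup (inf_le_left.trans (layer_le_normalizer hL)) (le_sup_right.trans hLC),
      outImage_eq_bot (inf_le_left.trans (layer_le_inner hL)), bot_sup_eq]
  · set R' := R ⊔ zpowers x with hR'
    set C' := centralizer (R' : Set G) with hC'
    set N' := normalizer (R' : Set G) with hN'
    have hR'p : IsPGroup p R' := hR.to_sup_of_normal_left' hx (zpowers_le.mpr hxR)
    have hC'C : C' ≤ centralizer (R : Set G) := centralizer_le (SetLike.coe_subset_coe.mpr le_sup_left)
    let j : C' →* N := inclusion (hC'C.trans (centralizer_le_normalizer _))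
    let ι : C' →* N' := inclusion (centralizer_le_normalizer _)
    haveI hOn : O.Normal := Cfsg.pPrimeCore_normal p ↥N
    set H := (K ⊔ O).comap j with hH
    have hKO : (K ⊔ O).IsSubnormal := by
      have := (hK.1.map (QuotientGroup.mk'_surjective O)).comap (QuotientGroup.mk' O)
      rwa [comap_map_eq, QuotientGroup.ker_mk'] at this
    -- every element of `K` is `O` times an element of `H`
    set xN : N := ⟨x, hxR⟩
    have hcov : ∀ k ∈ K, ∃ n ∈ O, ∃ c : C', c ∈ H ∧ j c = n * k := by
      intro k hk
      have hxN : IsPGroup p (zpowers xN) :=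
        (hx.comap_of_injective N.subtype N.subtype_injective).to_le
          (zpowers_le.mpr (mem_comap.mpr (mem_zpowers x)))
      obtain ⟨n, hn, hnk⟩ := Coprime.exists_mul_mem_centralizer (A := zpowers xN) (N := O) (k := k)
        (by rw [normalizer_eq_top]; exact le_top)
        (coprime_card_of_isPGroup hxN (Cores.coprime_card_pPrimeCore p))
        (.inl (Coprime.isSolvable_zpowers xN)) (fun a ha => by
          have h1 : QuotientGroup.mk' O a ∈ M.map (QuotientGroup.mk' O) :=
            mem_map_of_mem _ (zpowers_le.mpr (show xN ∈ M from hxE) ha)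
          have h2 := mem_centralizer_iff.mp (commutator_eq_bot_iff_le_centralizer.mp hc
            (mem_map_of_mem _ hk)) _ h1
          rw [← QuotientGroup.eq_one_iff]
          have h3 : QuotientGroup.mk' O ⁅a, k⁆ = 1 := by
            rw [map_commutatorElement, commutatorElement_eq_one_iff_mul_comm]; exact h2
          exact h3)
      have hR1 : ((n * k : N) : G) ∈ centralizer (R : Set G) :=
        mul_mem (localCore_le_centralizer hR ⟨n, hn, rfl⟩)
          (localLayer_le_centralizer hR (hKL ⟨k, hk, rfl⟩))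
      have hx1 : ((n * k : N) : G) ∈ centralizer ({x} : Set G) :=
        mem_centralizer_singleton_iff.mpr (congrArg Subtype.val
          (mem_centralizer_iff.mp hnk xN (mem_zpowers xN))).symm
      have hC1 : ((n * k : N) : G) ∈ C' := by
        rw [hC', hR', mem_centralizer_iff]
        suffices hs : R ⊔ zpowers x ≤ centralizer {((n * k : N) : G)} from
          fun y hy => mem_centralizer_singleton_iff.mp (hs hy)
        refine sup_le (fun y hy => ?_) (zpowers_le.mpr ?_)
        · exact mem_centralizer_singleton_iff.mpr (mem_centralizer_iff.mp hR1 y hy)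
        · exact mem_centralizer_singleton_iff.mpr (mem_centralizer_singleton_iff.mp hx1).symm
      refine ⟨n, hn, ⟨_, hC1⟩, ?_, Subtype.ext rfl⟩
      show j ⟨_, hC1⟩ ∈ K ⊔ O
      exact mul_mem (mem_sup_right hn) (mem_sup_left hk)
    -- the image of `H` in `N(R')` lies in the `p`-layer times the core
    set O' := Cfsg.pPrimeCore p ↥N'
    have hιn : ι.range.Normal := by
      rw [inclusion_range]
      exact (normal_subgroupOf_iff_le_normalizer (centralizer_le_normalizer _)).mpr
        normalizer_le_normalizer_centralizer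
    have hιinj : Function.Injective ι := inclusion_injective _
    have hmapsn : ∀ S : Subgroup C', S.IsSubnormal → (S.map ι).IsSubnormal := by
      intro S hS
      have h2 := (hS.map ι.rangeRestrict_surjective).trans' (Normal.isSubnormal hιn)
      rwa [map_map, MonoidHom.subtype_comp_rangeRestrict] at h2
    have hHsn : H.IsSubnormal := hKO.comap j
    let g : H →* ↥(K.map (QuotientGroup.mk' O)) :=
      ((QuotientGroup.mk' O).comp (j.comp H.subtype)).codRestrict _ fun h => by
        obtain ⟨a, ha, b, hb, hab⟩ := GlaubermanSylow.mem_of_mem_sup_of_normalizes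
          (B := O) (A := K) (pPrimeCore_le_normalizer_pComponent hK) h.2
        refine ⟨a, ha, ?_⟩
        show QuotientGroup.mk' O a = QuotientGroup.mk' O (j h)
        rw [← hab, map_mul, (show QuotientGroup.mk' O b = 1 from (QuotientGroup.eq_one_iff b).mpr hb),
          mul_one]
    have hgs : Function.Surjective g := by
      rintro ⟨_, k, hk, rfl⟩
      obtain ⟨n, hn, c, hc, hj⟩ := hcov k hk
      refine ⟨⟨c, hc⟩, Subtype.ext ?_⟩
      show QuotientGroup.mk' O (j c) = _
      rw [hj, map_mul, (show QuotientGroup.mk' O n = 1 from (QuotientGroup.eq_one_iff n).mpr hn),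
        one_mul]
    have hker : O.comap j ≤ O'.comap ι := by
      rw [← map_le_iff_le_comap]
      refine le_pPrimeCore_of_subnormal (hmapsn _ ((Normal.isSubnormal hOn).comap j)) ?_
      refine (Cores.coprime_card_pPrimeCore (G := ↥N) p).coprime_dvd_left ?_
      have hjinj : Function.Injective j := inclusion_injective _
      rw [card_map_of_injective hιinj, ← card_map_of_injective hjinj]
      exact card_dvd_of_le (map_comap_le _ _)
    have hlay : H.map ι ≤ Cfsg.pLayer p ↥N' ⊔ O' := by
      rw [core_sup_layer_eq_comap, ← map_le_iff_le_comap]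
      have h := range_le_layer g hgs hK.2.1.2
        ((QuotientGroup.mk' O').comp (ι.comp H.subtype))
        (fun h hh => by
          have h1 : QuotientGroup.mk' O (j h) = 1 := congrArg Subtype.val hh
          exact (QuotientGroup.eq_one_iff _).mpr (hker ((QuotientGroup.eq_one_iff (j h)).mp h1)))
        (by
          rw [MonoidHom.range_comp, MonoidHom.range_comp, range_subtype]
          exact (hmapsn H hHsn).map (QuotientGroup.mk'_surjective _))
      rwa [MonoidHom.range_comp, MonoidHom.range_comp, range_subtype] at h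
    have hLC' : localLayer p R' ⊔ localCore p R' ≤ normalizer (L : Set G) :=
      sup_le_normalizer hO hR'p hL
    have hHG : H.map C'.subtype ≤ localLayer p R' ⊔ localCore p R' := by
      have h1 := map_mono (f := N'.subtype) hlay
      rw [map_map, Subgroup.map_sup] at h1
      exact h1
    have hA : (Nat.card (outImage L (H.map C'.subtype))).Coprime p := by
      refine (localCore_coprime R').coprime_dvd_left ((card_dvd_of_le ((outImage_mono hHG).trans
        ?_)).trans (card_outImage_dvd (le_sup_right.trans hLC')))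
      rw [outImage_sup (le_sup_left.trans hLC') (le_sup_right.trans hLC'), outImage_eq_bot ih,
        bot_sup_eq]
    have hHN : H.map C'.subtype ≤ N := (map_subtype_le _).trans
      (hC'C.trans (centralizer_le_normalizer _))
    have hKle : K.map N.subtype ≤ H.map C'.subtype ⊔ localCore p R := by
      rintro _ ⟨k, hk, rfl⟩
      obtain ⟨n, hn, c, hc, hj⟩ := hcov k hk
      have e1 : (k : G) = (n : G)⁻¹ * (c : G) := by
        have h2 : (c : G) = (n : G) * (k : G) := congrArg Subtype.val hj
        rw [h2, inv_mul_cancel_left]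
      show (k : G) ∈ _
      rw [e1]
      exact mul_mem (inv_mem (mem_sup_right ⟨n, hn, rfl⟩)) (mem_sup_left ⟨c, hc, rfl⟩)
    have hnorm : outImage L (H.map C'.subtype) ≤
        normalizer (outImage L (localCore p R) : Set _) := by
      refine (map_mono ?_).trans (le_normalizer_map _)
      intro y hy
      have hy' : (y : G) ∈ normalizer (localCore p R : Set G) :=
        map_subtype_normal_of_characteristic (Subgroup.le_normalizer (hHN hy))
      exact le_normalizer_comap (normalizer (L : Set G)).subtype (mem_comap.mpr hy')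
    refine (coprime_card_sup hnorm hA hcore).coprime_dvd_left (card_dvd_of_le ?_)
    rw [← outImage_sup (hHG.trans hLC') (le_sup_right.trans hLC)]
    exact outImage_mono hKle

end Component

theorem not_dvd_relIndex_inf {U A B : Subgroup G} (hA : A ≤ B) (hn : B ≤ normalizer (A : Set G))
    (hUB : U ≤ B) (hU : IsPGroup p U) (h : ¬ p ∣ U.relIndex B) : ¬ p ∣ (U ⊓ A).relIndex A := by
  let P : Sylow p B := Fusion.Basic.sylowSubgroupOf hUB hU h
  haveI : (A.subgroupOf B).Normal := (normal_subgroupOf_iff_le_normalizer hA).mpr hn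
  have h1 := Fusion.Basic.not_dvd_relIndex_of_normal P (A.subgroupOf B)
  rw [← relIndex_map_map_of_injective _ _ B.subtype_injective,
    Subgroup.map_inf _ _ _ B.subtype_injective,
    Fusion.Basic.map_sylowSubgroupOf, map_subgroupOf_eq_of_le hA] at h1
  exact h1

/-- A `2`-component centralising a Sylow `2`-subgroup of `L` centralises `L`. -/
theorem le_inner_base [Fact (Nat.Prime 2)] (hO : Cfsg.pPrimeCore 2 G = ⊥) {L : Subgroup G}
    (hL : Cfsg.IsComponent L) {H : Subgroup G} {K : Subgroup H} (hK : Cfsg.IsPComponent 2 K)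
    (hN : K.map H.subtype ≤ normalizer (L : Set G)) {U : Subgroup G} (hUL : U ≤ L)
    (hU : IsPGroup 2 U) (hidx : ¬ 2 ∣ U.relIndex L)
    (hKU : K.map H.subtype ≤ centralizer (U : Set G)) :
    K.map H.subtype ≤ centralizer (L : Set G) := by
  set NL := normalizer (L : Set G) with hNL
  haveI : ((centralizer (L : Set G)).subgroupOf NL).Normal :=
    (normal_subgroupOf_iff_le_normalizer (centralizer_le_normalizer _)).mpr
      normalizer_le_normalizer_centralizer
  set π := QuotientGroup.mk' ((centralizer (L : Set G)).subgroupOf NL) with hπ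
  haveI : (L.subgroupOf NL).Normal := normal_in_normalizer
  set Kb := (L.subgroupOf NL).map π with hKb
  haveI hKbn : Kb.Normal := Subgroup.Normal.map inferInstance _ (QuotientGroup.mk'_surjective _)
  have hC : centralizer (Kb : Set (NL ⧸ (centralizer (L : Set G)).subgroupOf NL)) = ⊥ := by
    rw [eq_bot_iff]
    intro y hy
    obtain ⟨g, rfl⟩ := QuotientGroup.mk_surjective y
    rw [mem_bot, QuotientGroup.eq_one_iff, mem_subgroupOf]
    refine mem_centralizer_of_commutator hL g.2 fun l hl => ?_
    have h2 := mem_centralizer_iff.mp hy (π ⟨l, Subgroup.le_normalizer hl⟩)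
      (mem_map_of_mem π (show (⟨l, Subgroup.le_normalizer hl⟩ : NL) ∈ L.subgroupOf NL from hl))
    have h3 : π ⁅g, (⟨l, Subgroup.le_normalizer hl⟩ : NL)⁆ = 1 := by
      rw [map_commutatorElement, commutatorElement_eq_one_iff_mul_comm]; exact h2.symm
    exact mem_subgroupOf.mp ((QuotientGroup.eq_one_iff _).mp h3)
  have hOK : Cfsg.oddCore Kb = ⊥ := by
    let f : L →* ↥Kb := (π.comp (inclusion Subgroup.le_normalizer)).codRestrict Kb
      fun l => ⟨_, l.2, rfl⟩
    have hf : Function.Surjective f := by
      rintro ⟨_, l, hl, rfl⟩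
      exact ⟨⟨l, hl⟩, rfl⟩
    rcases IsQuasisimple.normal_le_center_or_top hL.2 ((Cfsg.oddCore Kb).comap f) with h | h
    · rw [eq_bot_iff]
      intro z hz
      obtain ⟨l, rfl⟩ := hf z
      have hl : (l : G) ∈ centralizer (L : Set G) := mem_centralizer_iff.mpr fun m hm =>
        congrArg Subtype.val (mem_center_iff.mp (h (mem_comap.mpr hz)) ⟨m, hm⟩)
      exact Subtype.ext ((QuotientGroup.eq_one_iff _).mpr (mem_subgroupOf.mpr hl))
    · exfalso
      have h1 : Cfsg.oddCore Kb = ⊤ := by
        rw [← map_comap_eq_self_of_surjective hf (Cfsg.oddCore Kb), h, map_top_of_surjective f hf]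
      have h2 : (Nat.card Kb).Coprime 2 := by
        have := Cores.coprime_card_pPrimeCore (G := ↥Kb) 2
        rwa [show Cfsg.pPrimeCore 2 ↥Kb = ⊤ from h1, Subgroup.card_top] at this
      have h3 := eq_top_of_index_coprime_quasisimple (p := 2) hL.2
        (component_dvd_card_of_pPrimeCore_eq_bot hO hL) f.ker
        (by rwa [index_ker, MonoidHom.range_eq_top.mpr hf, Subgroup.card_top])
      refine IsComponent.not_le_centralizer hL fun l hl => ?_
      have h4 : f ⟨l, hl⟩ = 1 := MonoidHom.mem_ker.mp (h3 ▸ mem_top _)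
      exact mem_subgroupOf.mp ((QuotientGroup.eq_one_iff _).mp (congrArg Subtype.val h4))
  let f : L →* ↥Kb := (π.comp (inclusion Subgroup.le_normalizer)).codRestrict Kb
    fun l => ⟨_, l.2, rfl⟩
  have hf : Function.Surjective f := by
    rintro ⟨_, l, hl, rfl⟩
    exact ⟨⟨l, hl⟩, rfl⟩
  let PL : Sylow 2 L := Fusion.Basic.sylowSubgroupOf hUL hU hidx
  obtain ⟨-, hnpc⟩ := GlaubermanSylow.centralizer_structure Kb hOK hC (PL.mapSurjective hf)
  set PX : Subgroup (NL ⧸ (centralizer (L : Set G)).subgroupOf NL) :=
    ((PL.mapSurjective hf : Sylow 2 Kb) : Subgroup Kb).map Kb.subtype with hPX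
  set CP := centralizer (PX : Set (NL ⧸ (centralizer (L : Set G)).subgroupOf NL)) with hCP
  let g : K →* NL ⧸ (centralizer (L : Set G)).subgroupOf NL :=
    π.comp ((H.subtype.comp K.subtype).codRestrict _ fun k => hN ⟨k, k.2, rfl⟩)
  have hrange : g.range ≤ CP := by
    rintro _ ⟨k, rfl⟩
    rw [hCP, mem_centralizer_iff]
    rintro _ ⟨_, ⟨u, hu, rfl⟩, rfl⟩
    have hu' : (u : G) ∈ U := hu
    show π (inclusion Subgroup.le_normalizer u) * π _ = π _ * π (inclusion Subgroup.le_normalizer u)
    rw [← map_mul, ← map_mul]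
    exact congrArg π (Subtype.ext (mem_centralizer_iff.mp (hKU ⟨k, k.2, rfl⟩) (u : G) hu'))
  have hnp : Cfsg.HasNormalPComplement 2 g.range := Fusion.Basic.npc_of_injective
    (inclusion hrange) (inclusion_injective _) hnpc
  haveI := IsPComponent.isPerfect hK
  haveI : Group.IsPerfect g.range := by
    rw [MonoidHom.range_eq_map]
    exact Group.IsPerfect.map g
  have hcop : (Nat.card g.range).Coprime 2 := by
    have h := Fusion.Basic.npc_iff_coprime.mp hnp
    rwa [pResidual_eq_top_of_perfect, Subgroup.card_top] at h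
  rintro _ ⟨k, hk, rfl⟩
  have h1 : (⟨(k : G), hN ⟨k, hk, rfl⟩⟩ : NL) ∈ (centralizer (L : Set G)).subgroupOf NL :=
    (QuotientGroup.eq_one_iff _).mp (eq_one_of_coprime_range hK g hcop ⟨k, hk⟩)
  exact mem_subgroupOf.mp h1

/-- For `p = 2`, the 2-layer of a 2-local subgroup induces inner automorphisms on components. -/
theorem localLayer_le_inner_two [Fact (Nat.Prime 2)] (hO : Cfsg.pPrimeCore 2 G = ⊥)
    {L : Subgroup G} (hL : Cfsg.IsComponent L) {R : Subgroup G} (hR : IsPGroup 2 R) :
    localLayer 2 R ≤ L ⊔ centralizer (L : Set G) := by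
  induction hn : Nat.card G - Nat.card R using Nat.strong_induction_on generalizing R with
  | h n ih =>
  rw [localLayer, map_le_iff_le_comap]
  refine sSup_le fun K hK => map_le_iff_le_comap.mp ?_
  set E := Cfsg.layer G with hE
  set Y := R ⊔ E with hY
  obtain ⟨S0, hS0⟩ := (hR.comap_of_injective Y.subtype Y.subtype_injective).exists_le_sylow
  set S := (S0 : Subgroup Y).map Y.subtype with hS
  have hRS : R ≤ S := fun r hr => ⟨⟨r, mem_sup_left hr⟩, hS0 hr, rfl⟩
  have hS2 : IsPGroup 2 S := S0.2.map _
  have hPidx : ¬ 2 ∣ (S ⊓ E).relIndex E := by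
    refine not_dvd_relIndex_inf (B := Y) le_sup_right (by rw [normalizer_eq_top]; exact le_top)
      (map_subtype_le _) hS2 ?_
    rw [relIndex, hS, subgroupOf_map_subtype_eq]
    exact S0.not_dvd_index
  by_cases hPR : S ⊓ E ≤ R
  · have hLE : L ≤ E := IsComponent.le_layer hL
    refine (le_inner_base hO hL hK ?_ (U := S ⊓ E ⊓ L) inf_le_right
      (hS2.to_le (inf_le_left.trans inf_le_left))
      (not_dvd_relIndex_inf (B := E) hLE (layer_le_normalizer hL) inf_le_right
        (hS2.to_le inf_le_left) hPidx) ?_).trans le_sup_right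
    · exact (map_mono (IsPComponent.le_pLayer hK)).trans
        (le_sup_left.trans (sup_le_normalizer hO hR hL))
    · exact (map_mono (IsPComponent.le_pLayer hK)).trans
        ((localLayer_le_centralizer hR).trans (centralizer_le (inf_le_left.trans hPR)))
  · obtain ⟨s, hs, hsR⟩ := SetLike.not_le_iff_exists.mp hPR
    have hlt : R.subgroupOf S < ⊤ := by
      rw [lt_top_iff_ne_top, Ne, subgroupOf_eq_top]
      exact fun h => hsR (h hs.1)
    haveI := hS2.isNilpotent
    obtain ⟨⟨y, hyS⟩, hy, hyR⟩ := SetLike.exists_of_lt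
      (Group.normalizerCondition_of_isNilpotent _ hlt)
    have hyN : y ∈ normalizer (R : Set G) := by
      refine mem_normalizer_iff.mpr fun z => ⟨fun hz => ?_, fun hz => ?_⟩
      · exact (mem_normalizer_iff.mp hy ⟨z, hRS hz⟩).mp hz
      · have hzS : z ∈ S := by
          have := mul_mem (mul_mem (inv_mem hyS) (hRS hz)) hyS
          simpa [mul_assoc] using this
        exact (mem_normalizer_iff.mp hy ⟨z, hzS⟩).mpr hz
    obtain ⟨x, hxE, r, hr, hxr⟩ := GlaubermanSylow.mem_of_mem_sup_of_normalizes
      (A := E) (B := R) (by rw [normalizer_eq_top]; exact le_top)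
      (show y ∈ E ⊔ R by rw [sup_comm]; exact map_subtype_le _ hyS)
    have hxy : x = y * r⁻¹ := by rw [← hxr, mul_inv_cancel_right]
    have hxS : x ∈ S := hxy ▸ mul_mem hyS (inv_mem (hRS hr))
    have hxN : x ∈ normalizer (R : Set G) :=
      hxy ▸ mul_mem hyN (inv_mem (Subgroup.le_normalizer hr))
    have hxR : x ∉ R := fun h => hyR (mem_subgroupOf.mpr (hxr ▸ mul_mem h hr))
    have hx2 : IsPGroup 2 (zpowers x) := hS2.to_le (zpowers_le.mpr hxS)
    refine le_inner_step hO hR hL hxE hx2 hxN
      (ih _ ?_ (hR.to_sup_of_normal_left' hx2 (zpowers_le.mpr hxN)) rfl) K hK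
    have h1 : Nat.card R < Nat.card ↥(R ⊔ zpowers x) := by
      refine lt_of_le_of_ne (card_le_of_le le_sup_left) fun h => hxR ?_
      exact (eq_of_le_of_card_ge le_sup_left h.ge).ge (mem_sup_right (mem_zpowers x))
    have h2 := card_le_card_group (R ⊔ zpowers x)
    omega

/-- Under the Schreier property the `p`-layer of a `p`-local subgroup induces inner automorphisms
on components. -/
theorem localLayer_le_inner_schreier (hO : Cfsg.pPrimeCore p G = ⊥) {L : Subgroup G}
    (hL : Cfsg.IsComponent L) (hout : Group.IsSolvable (Cfsg.Out (↥L ⧸ center ↥L)))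
    {R : Subgroup G} (hR : IsPGroup p R) : localLayer p R ≤ L ⊔ centralizer (L : Set G) := by
  rw [localLayer, map_le_iff_le_comap]
  refine sSup_le fun K hK => map_le_iff_le_comap.mp ?_
  have hN : K.map (normalizer (R : Set G)).subtype ≤ normalizer (L : Set G) :=
    (map_mono (IsPComponent.le_pLayer hK)).trans (le_sup_left.trans (sup_le_normalizer hO hR hL))
  set NL := normalizer (L : Set G) with hNL
  let β : MulAut L →* MulAut (↥L ⧸ center ↥L) :=
    { toFun := fun φ => QuotientGroup.congr _ _ φ
        (characteristic_iff_map_eq.mp inferInstance φ)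
      map_one' := MulEquiv.ext fun y => by
        obtain ⟨l, rfl⟩ := QuotientGroup.mk_surjective y; rfl
      map_mul' := fun φ ψ => MulEquiv.ext fun y => by
        obtain ⟨l, rfl⟩ := QuotientGroup.mk_surjective y; rfl }
  let δ : NL →* Cfsg.Out (↥L ⧸ center ↥L) :=
    (QuotientGroup.mk' _).comp (β.comp L.normalizerMonoidHom)
  let f : K →* Cfsg.Out (↥L ⧸ center ↥L) :=
    δ.comp (((normalizer (R : Set G)).subtype.comp K.subtype).codRestrict _
      fun k => hN ⟨k, k.2, rfl⟩)
  haveI := IsPComponent.isPerfect hK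
  haveI : Group.IsPerfect f.range := by
    rw [MonoidHom.range_eq_map]
    exact Group.IsPerfect.map f
  haveI : Group.IsSolvable f.range := inferInstance
  have hbot : f.range = ⊥ := by
    by_contra h
    haveI : Nontrivial f.range := (Subgroup.nontrivial_iff_ne_bot _).mpr h
    exact Group.IsPerfect.not_isSolvable f.range inferInstance
  rintro _ ⟨k, hk, rfl⟩
  have h1 : f ⟨k, hk⟩ = 1 := mem_bot.mp (hbot ▸ ⟨⟨k, hk⟩, rfl⟩)
  set n : NL := ⟨(k : G), hN ⟨k, hk, rfl⟩⟩
  have h2 : β (L.normalizerMonoidHom n) ∈ Cfsg.Inn (↥L ⧸ center ↥L) :=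
    (QuotientGroup.eq_one_iff _).mp h1
  obtain ⟨lb, hlb⟩ := h2
  obtain ⟨l, rfl⟩ := QuotientGroup.mk_surjective lb
  have h3 : ∀ m : L, ⁅(l : G)⁻¹ * (k : G), (m : G)⁆ ∈ centralizer (L : Set G) := by
    intro m
    have h4 := DFunLike.congr_fun hlb (m : ↥L ⧸ center ↥L)
    change ((l * m * l⁻¹ : L) : ↥L ⧸ center ↥L) =
      ((L.normalizerMonoidHom n m : L) : ↥L ⧸ center ↥L) at h4
    rw [QuotientGroup.eq] at h4
    have h5 : ∀ z : L, z ∈ center ↥L → (z : G) ∈ centralizer (L : Set G) := fun z hz =>
      mem_centralizer_iff.mpr fun y hy =>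
        congrArg Subtype.val (mem_center_iff.mp hz ⟨y, hy⟩)
    have h6 : ((l : G) * m * (l : G)⁻¹)⁻¹ * ((k : G) * m * (k : G)⁻¹) ∈
        centralizer (L : Set G) := h5 _ h4
    have h7 : ⁅(l : G)⁻¹ * (k : G), (m : G)⁆ =
        (m : G) * ((l : G)⁻¹ *
          ((((l : G) * m * (l : G)⁻¹)⁻¹ * ((k : G) * m * (k : G)⁻¹))) * (l : G)) * (m : G)⁻¹ := by
      rw [commutatorElement_def]; group
    rw [h7]
    have h11 := (mem_normalizer_iff.mp (normalizer_le_normalizer_centralizer
      (Subgroup.le_normalizer (inv_mem l.2))) _).mp h6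
    rw [inv_inv] at h11
    exact (mem_normalizer_iff.mp (normalizer_le_normalizer_centralizer
      (Subgroup.le_normalizer m.2)) _).mp h11
  have h10 : (l : G)⁻¹ * (k : G) ∈ centralizer (L : Set G) :=
    mem_centralizer_of_commutator hL (mul_mem (inv_mem (Subgroup.le_normalizer l.2)) n.2)
      fun y hy => h3 ⟨y, hy⟩
  show (k : G) ∈ _
  rw [← mul_inv_cancel_left (l : G) (k : G)]
  exact mul_mem (mem_sup_left l.2) (mem_sup_right h10)

/-! ### Conclusion -/

/-- L-balance when `O_{p'}(G) = 1`. -/
theorem localLayer_le_layer (hO : Cfsg.pPrimeCore p G = ⊥) {R : Subgroup G} (hR : IsPGroup p R)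
    (hinner : ∀ L : Subgroup G, Cfsg.IsComponent L →
      localLayer p R ≤ L ⊔ centralizer (L : Set G)) : localLayer p R ≤ Cfsg.layer G := by
  rw [localLayer, map_le_iff_le_comap]
  refine sSup_le fun K hK => map_le_iff_le_comap.mp ?_
  have hle : K.map (normalizer (R : Set G)).subtype ≤ localLayer p R :=
    map_mono (IsPComponent.le_pLayer hK)
  refine le_layer_of_inner hO (fun L hL => hle.trans (hinner L hL))
    (hle.trans (localLayer_le_centralizer_pCore hR)) ?_
  rw [← map_commutator, Subgroup.isPerfect_iff.mp (IsPComponent.isPerfect hK)]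

/-- L-balance, given the inner action modulo `O_{p'}`. -/
theorem localLayer_le_pLayer {R : Subgroup G} (hR : IsPGroup p R)
    (hinner : ∀ L : Subgroup (G ⧸ Cfsg.pPrimeCore p G), Cfsg.IsComponent L →
      localLayer p (R.map qq) ≤ L ⊔ centralizer (L : Set (G ⧸ Cfsg.pPrimeCore p G))) :
    localLayer p R ≤ Cfsg.pLayer p G := by
  set N := normalizer (R : Set G) with hN
  set Rb := R.map qq with hRb
  set Nb := normalizer (Rb : Set (G ⧸ Cfsg.pPrimeCore p G)) with hNb
  have hmain := localLayer_le_layer pPrimeCore_quotient_eq_bot (hR.map qq) hinner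
  rw [localLayer, map_le_iff_le_comap]
  refine sSup_le fun K hK => map_le_iff_le_comap.mp ?_
  set I := K.map N.subtype with hI
  have hIC : I ≤ centralizer (R : Set G) :=
    (map_mono (IsPComponent.le_pLayer hK)).trans (localLayer_le_centralizer hR)
  have hmap : (centralizer (R : Set G)).map qq = centralizer (Rb : Set _) :=
    (centralizer_map_mk (Cores.coprime_card_pPrimeCore p) hR).symm
  -- the subgroup `C(R)` of `N`, mapped onto `C(R̄)`, inside `N(R̄)`
  set CN := (centralizer (R : Set G)).subgroupOf N with hCN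
  have hKC : K ≤ CN := fun k hk => mem_subgroupOf.mpr (hIC ⟨k, hk, rfl⟩)
  let φ : CN →* ↥(centralizer (Rb : Set (G ⧸ Cfsg.pPrimeCore p G))) :=
    ((qq).comp (N.subtype.comp CN.subtype)).codRestrict _ fun c =>
      hmap ▸ mem_map_of_mem _ (mem_subgroupOf.mp c.2)
  have hφ : Function.Surjective φ := by
    rintro ⟨y, hy⟩
    rw [← hmap] at hy
    obtain ⟨c, hc, rfl⟩ := hy
    exact ⟨⟨⟨c, centralizer_le_normalizer _ hc⟩, mem_subgroupOf.mpr hc⟩, rfl⟩
  let ι : ↥(centralizer (Rb : Set (G ⧸ Cfsg.pPrimeCore p G))) →* Nb :=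
    inclusion (centralizer_le_normalizer _)
  have hιn : ι.range.Normal := by
    rw [inclusion_range]
    exact (normal_subgroupOf_iff_le_normalizer (centralizer_le_normalizer _)).mpr
      normalizer_le_normalizer_centralizer
  let f : K →* Nb := ι.comp (φ.comp (inclusion hKC))
  have hfr : f.range ≤ Cfsg.pLayer p ↥Nb := by
    refine range_le_pLayer hK f ?_
    have h1 : ((φ.comp (inclusion hKC)).range).IsSubnormal := by
      rw [MonoidHom.range_comp, inclusion_range]
      exact (hK.1.subgroupOf).map hφ
    have h2 := (h1.map ι.rangeRestrict_surjective).trans' (Normal.isSubnormal hιn)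
    rw [map_map, MonoidHom.subtype_comp_rangeRestrict] at h2
    rwa [show f.range = (φ.comp (inclusion hKC)).range.map ι from MonoidHom.range_comp _ _]
  have hqI : I.map qq ≤ Cfsg.layer (G ⧸ Cfsg.pPrimeCore p G) := by
    rintro _ ⟨_, ⟨k, hk, rfl⟩, rfl⟩
    exact hmain ⟨f ⟨k, hk⟩, hfr ⟨⟨k, hk⟩, rfl⟩, rfl⟩
  -- `I ≤ L_{p'}(G) O_{p'}(G)`, and `I` has no `p'`-quotient
  set W := Cfsg.pLayer p G ⊔ Cfsg.pPrimeCore p G with hW
  have hIW : I ≤ W := by
    rw [hW, core_sup_layer_eq_comap]
    exact map_le_iff_le_comap.mp hqI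
  haveI : ((Cfsg.pLayer p G).subgroupOf W).Normal :=
    (normal_subgroupOf_iff_le_normalizer le_sup_left).mpr core_sup_layer_le_normalizer
  let g : K →* W ⧸ (Cfsg.pLayer p G).subgroupOf W :=
    (QuotientGroup.mk' _).comp
      ((N.subtype.comp K.subtype).codRestrict W fun k => hIW ⟨k, k.2, rfl⟩)
  have hc : (Nat.card g.range).Coprime p := by
    refine (Cores.coprime_card_pPrimeCore (G := G) p).coprime_dvd_left ?_
    refine (card_dvd_of_le (K := ((Cfsg.pPrimeCore p G).subgroupOf W).map
      (QuotientGroup.mk' ((Cfsg.pLayer p G).subgroupOf W))) ?_).trans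
      ((card_map_dvd _ _).trans (Nat.card_congr (subgroupOfEquivOfLe le_sup_right).toEquiv).dvd)
    have htop : ((Cfsg.pPrimeCore p G).subgroupOf W).map
        (QuotientGroup.mk' ((Cfsg.pLayer p G).subgroupOf W)) = ⊤ := by
      have e1 : (Cfsg.pLayer p G).subgroupOf W ⊔ (Cfsg.pPrimeCore p G).subgroupOf W = ⊤ := by
        rw [← Subgroup.subgroupOf_sup le_sup_left le_sup_right]
        exact subgroupOf_self W
      rw [← map_top_of_surjective _ (QuotientGroup.mk'_surjective _), ← e1, Subgroup.map_sup,
        QuotientGroup.map_mk'_self, bot_sup_eq]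
    rw [htop]; exact le_top
  rintro _ ⟨k, hk, rfl⟩
  have h1 : (⟨(k : G), hIW ⟨k, hk, rfl⟩⟩ : W) ∈ (Cfsg.pLayer p G).subgroupOf W :=
    (QuotientGroup.eq_one_iff _).mp (eq_one_of_coprime_range hK g hc ⟨k, hk⟩)
  exact mem_subgroupOf.mp h1

/-- The `p`-layer of `C(R)` lies in the `p`-layer of `N(R)`. -/
theorem centralizerLayer_le_localLayer (R : Subgroup G) :
    (Cfsg.pLayer p ↥(centralizer (R : Set G))).map (centralizer (R : Set G)).subtype ≤
      localLayer p R := by
  set ι : ↥(centralizer (R : Set G)) →* ↥(normalizer (R : Set G)) :=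
    inclusion (centralizer_le_normalizer _)
  have hι : ι.range.Normal := by
    rw [inclusion_range]
    exact (normal_subgroupOf_iff_le_normalizer (centralizer_le_normalizer _)).mpr
      normalizer_le_normalizer_centralizer
  rw [map_le_iff_le_comap]
  refine sSup_le fun K hK k hk => ?_
  have h : (ι.comp K.subtype).range ≤ Cfsg.pLayer p _ := by
    refine range_le_pLayer hK _ ?_
    have h2 := (hK.1.map ι.rangeRestrict_surjective).trans' (Normal.isSubnormal hι)
    rw [map_map, MonoidHom.subtype_comp_rangeRestrict] at h2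
    rwa [MonoidHom.range_comp, range_subtype]
  exact ⟨ι k, h ⟨⟨k, hk⟩, rfl⟩, rfl⟩

end CfsgLib.Components.LBalance
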