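import Cfsg.Agent.Lib.Components.ExtendedLayer
import Cfsg.Agent.Lib.Components.LBalance

/-!
Core balance for the prime 2: the core of the centraliser of a 2-subgroup lies in the extended
2-layer. No hypothesis on the composition factors is used: a core element centralising a Sylow
2-subgroup of the layer is controlled by Glauberman's lemma.
-/

set_option autoImplicit false
set_option linter.style.haveILetI false
set_option linter.unusedSectionVars false
set_option linter.style.show false
set_option maxHeartbeats 800000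

namespace CfsgLib.Components.CoreBalance

open Subgroup CfsgLib.Solvable
open CfsgLib.Components.ExtendedLayer (part bigU sylowSub extLayer part_map_le part_le_centralizer
  normalizer_le_normalizer_part extLayer_eq)
open scoped commutatorElement

variable {G : Type*} [Group G] [Finite G] [hp : Fact (Nat.Prime 2)]

theorem coprime_card_part (T : Subgroup G) : (Nat.card (part 2 T)).Coprime 2 := by
  rw [part, card_map_of_injective (subtype_injective _)]
  exact Cores.coprime_card_pPrimeCore 2

/-- An odd subgroup of `C(T)` normalised by `C(T)` lies in the core of `C(T)`. -/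
theorem le_part {T D : Subgroup G} (hD : (Nat.card D).Coprime 2)
    (hDT : D ≤ centralizer (T : Set G)) (hn : centralizer (T : Set G) ≤ normalizer (D : Set G)) :
    D ≤ part 2 T := by
  haveI : (D.subgroupOf (centralizer (T : Set G))).Normal :=
    (normal_subgroupOf_iff_le_normalizer hDT).mpr hn
  intro g hg
  exact ⟨⟨g, hDT hg⟩, Cores.le_pPrimeCore (p := 2)
    (by rwa [Nat.card_congr (subgroupOfEquivOfLe hDT).toEquiv]) (mem_subgroupOf.mpr hg), rfl⟩

/-- The centraliser of a Sylow 2-subgroup of `E(G) O_2(G)` has a normal 2-complement. -/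
theorem npc_centralizer (hO : Cfsg.pPrimeCore 2 G = ⊥) {P : Subgroup G}
    (hPE : P ≤ Cfsg.layer G) (hP : IsPGroup 2 P) (hidx : ¬ 2 ∣ P.relIndex (Cfsg.layer G)) :
    Cfsg.HasNormalPComplement 2 ↥(centralizer ((P ⊔ Cfsg.pCore 2 G : Subgroup G) : Set G)) := by
  set C := centralizer ((P ⊔ Cfsg.pCore 2 G : Subgroup G) : Set G) with hC
  let S : Sylow 2 ↥(Cfsg.layer G) := Fusion.Basic.sylowSubgroupOf hPE hP hidx
  have hS : (S : Subgroup ↥(Cfsg.layer G)).map (Cfsg.layer G).subtype = P :=
    Fusion.Basic.map_sylowSubgroupOf hPE hP hidx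
  have hOE : Cfsg.oddCore ↥(Cfsg.layer G) = ⊥ := by
    have h := pPrimeCore_map_subtype_le (p := 2)
      (Normal.isSubnormal (inferInstance : (Cfsg.layer G).Normal))
    rw [hO, le_bot_iff, Subgroup.map_eq_bot_iff, ker_subtype, le_bot_iff] at h
    exact h
  obtain ⟨T⟩ : Nonempty (Sylow 2 C) := inferInstance
  refine Fusion.Alperin.npc_of_frobenius T fun Q hQ g hg ho => mem_centralizer_iff.mpr fun q hq => ?_
  have hCP : ∀ c : C, (c : G) ∈ centralizer
      (((S : Subgroup ↥(Cfsg.layer G)).map (Cfsg.layer G).subtype : Subgroup G) : Set G) := by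
    intro c
    rw [hS]
    exact centralizer_le (SetLike.coe_subset_coe.mpr le_sup_left) c.2
  have hCQ : ∀ c : C, (c : G) ∈ centralizer (Cfsg.pCore 2 G : Set G) := fun c =>
    centralizer_le (SetLike.coe_subset_coe.mpr le_sup_right) c.2
  set e : C := g⁻¹ * q * g * q⁻¹ with he
  have heQ : e ∈ Q := by
    refine Q.mul_mem ?_ (Q.inv_mem hq)
    simpa using (mem_normalizer_iff.mp (inv_mem hg) q).mp hq
  have he2 : IsPGroup 2 (zpowers (e : G)) := by
    have h := ((T.2.to_le hQ).to_le (zpowers_le.mpr heQ)).map C.subtype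
    rwa [MonoidHom.map_zpowers] at h
  have heE : (e : G) ∈ centralizer (Cfsg.layer G : Set G) :=
    GlaubermanSylow.mem_centralizer (Cfsg.layer G) hOE S rfl (hCP q) (hCP g) he2
  have heF : (e : G) ∈ Cfsg.pCore 2 G := by
    rw [← Cores.fittingSubgroup_eq_pCore 2 hO]
    refine centralizer_generalizedFitting_le_fitting ?_
    suffices hs : Cfsg.generalizedFittingSubgroup G ≤ centralizer {(e : G)} from
      mem_centralizer_iff.mpr fun y hy => mem_centralizer_singleton_iff.mp (hs hy)
    refine sup_le (fun y hy => ?_) (fun y hy => ?_) <;> rw [mem_centralizer_singleton_iff]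
    · exact mem_centralizer_iff.mp heE y hy
    · rw [Cores.fittingSubgroup_eq_pCore 2 hO] at hy
      exact mem_centralizer_iff.mp (hCQ e) y hy
  have hge : Commute g e :=
    (Subtype.ext (mem_centralizer_iff.mp (hCQ g) (e : G) heF) : e * g = g * e).symm
  -- `q ↦ e q` has order prime to 2
  have hstep : ∀ n : ℕ, (g ^ n)⁻¹ * q * g ^ n = e ^ n * q := by
    intro n
    induction n with
    | zero => simp
    | succ n ih =>
      rw [pow_succ, mul_inv_rev,
        show g⁻¹ * (g ^ n)⁻¹ * q * (g ^ n * g) = g⁻¹ * ((g ^ n)⁻¹ * q * g ^ n) * g by group, ih,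
        show g⁻¹ * (e ^ n * q) * g = g⁻¹ * e ^ n * g * (g⁻¹ * q * g * q⁻¹) * q by group, ← he]
      rw [show g⁻¹ * e ^ n * g = e ^ n by
        rw [mul_assoc, ← (hge.pow_right n).eq, inv_mul_cancel_left], ← pow_succ]
  have h1 := hstep (orderOf g)
  rw [pow_orderOf_eq_one, inv_one, one_mul, mul_one, eq_comm, mul_eq_right] at h1
  obtain ⟨k, hk⟩ := (T.2.to_le hQ) ⟨e, heQ⟩
  have he1 : e = 1 := by
    refine orderOf_eq_one_iff.mp (Nat.eq_one_of_dvd_coprimes (ho.pow_right k) ?_ ?_)
    · exact orderOf_dvd_of_pow_eq_one h1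
    · exact orderOf_dvd_of_pow_eq_one (by simpa using congrArg Subtype.val hk)
  have h2 : g⁻¹ * q * g * q⁻¹ = 1 := he ▸ he1
  rw [mul_inv_eq_one, mul_assoc, inv_mul_eq_iff_eq_mul] at h2
  exact h2

/-- A core of a centraliser which centralises a Sylow 2-subgroup of the layer. -/
theorem part_le_base (hO : Cfsg.pPrimeCore 2 G = ⊥) {R P : Subgroup G} (hR : IsPGroup 2 R)
    (hPE : P ≤ Cfsg.layer G) (hP : IsPGroup 2 P) (hidx : ¬ 2 ∣ P.relIndex (Cfsg.layer G))
    (hPR : P ≤ R) : part 2 R ≤ part 2 (P ⊔ Cfsg.pCore 2 G) := by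
  haveI : (Cfsg.pCore 2 G).Normal := Cfsg.pCore_normal 2 G
  have h1 : part 2 R ≤ centralizer (Cfsg.pCore 2 G : Set G) :=
    LocalCore.le_centralizer_pGroup hR (coprime_card_part R) (part_le_centralizer R)
      ((centralizer_le_normalizer _).trans (normalizer_le_normalizer_part R)) _
      (Cores.isPGroup_pCore 2)
  have h2 : part 2 R ≤ centralizer ((P ⊔ Cfsg.pCore 2 G : Subgroup G) : Set G) := by
    intro g hg
    suffices hs : P ⊔ Cfsg.pCore 2 G ≤ centralizer {g} from
      mem_centralizer_iff.mpr fun y hy => mem_centralizer_singleton_iff.mp (hs hy)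
    refine sup_le (fun y hy => ?_) (fun y hy => ?_) <;> rw [mem_centralizer_singleton_iff]
    · exact mem_centralizer_iff.mp (part_le_centralizer R hg) y (hPR hy)
    · exact mem_centralizer_iff.mp (h1 hg) y hy
  have hn := Fusion.Basic.npc_iff_coprime.mp (npc_centralizer hO hPE hP hidx)
  intro g hg
  refine ⟨⟨g, h2 hg⟩, Cores.le_pPrimeCore (p := 2) hn
    (Fusion.Basic.mem_pResidual_of_coprime ?_), rfl⟩
  rw [Subgroup.orderOf_mk]
  exact (coprime_card_part R).coprime_dvd_left ((part 2 R).orderOf_dvd_natCard hg)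

/-- Core balance when `O(G) = 1`. -/
theorem part_le_aux (hO : Cfsg.pPrimeCore 2 G = ⊥) {P : Subgroup G} (hPE : P ≤ Cfsg.layer G)
    (hP : IsPGroup 2 P) (hidx : ¬ 2 ∣ P.relIndex (Cfsg.layer G)) {R : Subgroup G}
    (hR : IsPGroup 2 R) : part 2 R ≤ Cfsg.layer G ⊔ part 2 (P ⊔ Cfsg.pCore 2 G) := by
  induction hn : Nat.card G - Nat.card R using Nat.strong_induction_on generalizing R with
  | h n ih =>
  set Y := R ⊔ Cfsg.layer G with hY
  obtain ⟨S0, hS0⟩ := (hR.comap_of_injective Y.subtype Y.subtype_injective).exists_le_sylow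
  set S := (S0 : Subgroup Y).map Y.subtype with hS
  have hRS : R ≤ S := fun r hr => ⟨⟨r, mem_sup_left hr⟩, hS0 hr, rfl⟩
  have hS2 : IsPGroup 2 S := S0.2.map _
  have hPidx : ¬ 2 ∣ (S ⊓ Cfsg.layer G).relIndex (Cfsg.layer G) := by
    refine LBalance.not_dvd_relIndex_inf (B := Y) le_sup_right
      (by rw [normalizer_eq_top]; exact le_top) (map_subtype_le _) hS2 ?_
    rw [relIndex, hS, subgroupOf_map_subtype_eq]
    exact S0.not_dvd_index
  by_cases hPR : S ⊓ Cfsg.layer G ≤ R
  · refine (part_le_base hO hR inf_le_right (hS2.to_le inf_le_left) hPidx hPR).trans ?_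
    -- conjugate the two Sylow subgroups of the layer
    obtain ⟨u, hu⟩ := MulAction.exists_smul_eq (↥(Cfsg.layer G))
      (Fusion.Basic.sylowSubgroupOf hPE hP hidx)
      (Fusion.Basic.sylowSubgroupOf inf_le_right (hS2.to_le inf_le_left) hPidx)
    have e1 : S ⊓ Cfsg.layer G = P.map (MulAut.conj (u : G)).toMonoidHom := by
      rw [← Fusion.Basic.map_sylowSubgroupOf inf_le_right (hS2.to_le inf_le_left) hPidx, ← hu,
        Sylow.coe_subgroup_smul]
      conv_rhs => rw [← Fusion.Basic.map_sylowSubgroupOf hPE hP hidx]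
      ext y
      constructor
      · rintro ⟨_, ⟨z, hz, rfl⟩, rfl⟩
        exact ⟨z, ⟨z, hz, rfl⟩, rfl⟩
      · rintro ⟨_, ⟨z, hz, rfl⟩, rfl⟩
        exact ⟨u * z * u⁻¹, ⟨z, hz, rfl⟩, rfl⟩
    have e2 : (S ⊓ Cfsg.layer G) ⊔ Cfsg.pCore 2 G =
        (P ⊔ Cfsg.pCore 2 G).map (MulAut.conj (u : G)).toMonoidHom := by
      haveI : (Cfsg.pCore 2 G).Normal := Cfsg.pCore_normal 2 G
      have hQ : (u : G) ∈ normalizer (Cfsg.pCore 2 G : Set G) := by
        rw [normalizer_eq_top]; exact mem_top _
      rw [Subgroup.map_sup, e1, mem_normalizer_iff_map_conj_eq.mp hQ]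
    intro g hg
    rw [e2] at hg
    have h3 := part_map_le (p := 2) (u : G)⁻¹
      ((P ⊔ Cfsg.pCore 2 G).map (MulAut.conj (u : G)).toMonoidHom) ⟨g, hg, rfl⟩
    rw [PermuteComponents.conj_map_conj, inv_mul_cancel,
      show (P ⊔ Cfsg.pCore 2 G).map (MulAut.conj (1 : G)).toMonoidHom = P ⊔ Cfsg.pCore 2 G by
        ext; simp] at h3
    have h4 : (u : G) * ((u : G)⁻¹ * g * (u : G)⁻¹⁻¹) * (u : G)⁻¹ ∈
        Cfsg.layer G ⊔ part 2 (P ⊔ Cfsg.pCore 2 G) :=
      mul_mem (mul_mem (mem_sup_left u.2) (mem_sup_right h3)) (inv_mem (mem_sup_left u.2))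
    simpa [mul_assoc] using h4
  · obtain ⟨s, hs, hsR⟩ := SetLike.not_le_iff_exists.mp hPR
    have hlt : R.subgroupOf S < ⊤ := by
      rw [lt_top_iff_ne_top, Ne, subgroupOf_eq_top]
      exact fun h => hsR (h hs.1)
    haveI := hS2.isNilpotent
    obtain ⟨⟨y, hyS⟩, hy, hyR⟩ := SetLike.exists_of_lt
      (Group.normalizerCondition_of_isNilpotent _ hlt)
    have hyN : y ∈ normalizer (R : Set G) := by
      refine mem_normalizer_iff.mpr fun z => ⟨fun hz => ?_, fun hz => ?_⟩
      · exact (mem_normalizer_iff.mp hy ⟨z, hRS hz⟩).mp hz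
      · have hzS : z ∈ S := by
          have := mul_mem (mul_mem (inv_mem hyS) (hRS hz)) hyS
          simpa [mul_assoc] using this
        exact (mem_normalizer_iff.mp hy ⟨z, hzS⟩).mpr hz
    obtain ⟨x, hxE, r, hr, hxr⟩ := GlaubermanSylow.mem_of_mem_sup_of_normalizes
      (A := Cfsg.layer G) (B := R) (by rw [normalizer_eq_top]; exact le_top)
      (show y ∈ Cfsg.layer G ⊔ R by rw [sup_comm]; exact map_subtype_le _ hyS)
    have hxy : x = y * r⁻¹ := by rw [← hxr, mul_inv_cancel_right]
    have hxS : x ∈ S := hxy ▸ mul_mem hyS (inv_mem (hRS hr))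
    have hxN : x ∈ normalizer (R : Set G) :=
      hxy ▸ mul_mem hyN (inv_mem (Subgroup.le_normalizer hr))
    have hxR : x ∉ R := fun h => hyR (mem_subgroupOf.mpr (hxr ▸ mul_mem h hr))
    have hx2 : IsPGroup 2 (zpowers x) := hS2.to_le (zpowers_le.mpr hxS)
    set R' := R ⊔ zpowers x with hR'
    have hlt' : Nat.card R < Nat.card ↥R' := by
      refine lt_of_le_of_ne (card_le_of_le le_sup_left) fun h => hxR ?_
      exact (eq_of_le_of_card_ge le_sup_left h.ge).ge (mem_sup_right (mem_zpowers x))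
    have hR'c := card_le_card_group R'
    have hrec := ih (Nat.card G - Nat.card ↥R') (by omega)
      (hR.to_sup_of_normal_left' hx2 (zpowers_le.mpr hxN)) rfl
    set D := part 2 R with hD
    have hDn : normalizer (R : Set G) ≤ normalizer (D : Set G) := normalizer_le_normalizer_part R
    have hfix : ∀ d ∈ D, d ∈ centralizer (R' : Set G) → d ∈ part 2 R' := fun d hd hd' =>
      le_part (D := D ⊓ centralizer (R' : Set G))
        ((coprime_card_part R).coprime_dvd_left (card_dvd_of_le inf_le_left)) inf_le_right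
        (fun g hg => by
          have h1 : g ∈ normalizer (D : Set G) := hDn (centralizer_le_normalizer _
            (centralizer_le (SetLike.coe_subset_coe.mpr le_sup_left) hg))
          refine mem_normalizer_iff.mpr fun c => ?_
          exact and_congr (mem_normalizer_iff.mp h1 c)
            (mem_normalizer_iff.mp (Subgroup.le_normalizer hg) c)) ⟨hd, hd'⟩
    intro d hd
    have hxD : zpowers x ≤ normalizer (D : Set G) := zpowers_le.mpr (hDn hxN)
    obtain ⟨k, hk, hkd⟩ := Coprime.exists_mul_mem_centralizer (A := zpowers x)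
      (N := D ⊓ Cfsg.layer G) (k := d)
      (fun g hg => by
        refine mem_normalizer_iff.mpr fun c => ?_
        exact and_congr (mem_normalizer_iff.mp (hxD hg) c)
          (mem_normalizer_iff.mp (by rw [normalizer_eq_top]; exact mem_top g) c))
      (coprime_card_of_isPGroup hx2
        ((coprime_card_part R).coprime_dvd_left (card_dvd_of_le inf_le_left)))
      (.inl (Coprime.isSolvable_zpowers x))
      (fun a ha => ⟨by
        rw [commutatorElement_def]
        exact D.mul_mem ((mem_normalizer_iff.mp (hxD ha) d).mp hd) (D.inv_mem hd), by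
        have haE : a ∈ Cfsg.layer G := zpowers_le.mpr hxE ha
        rw [commutatorElement_def, show a * d * a⁻¹ * d⁻¹ = a * (d * a⁻¹ * d⁻¹) by group]
        exact mul_mem haE
          ((inferInstance : (Cfsg.layer G).Normal).conj_mem _ (inv_mem haE) d)⟩)
    have hkR' : k * d ∈ centralizer (R' : Set G) := by
      suffices hs : R' ≤ centralizer {k * d} from
        mem_centralizer_iff.mpr fun y hy => mem_centralizer_singleton_iff.mp (hs hy)
      refine sup_le (fun y hy => ?_) (fun y hy => ?_) <;> rw [mem_centralizer_singleton_iff]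
      · exact mem_centralizer_iff.mp (part_le_centralizer R (mul_mem hk.1 hd)) y hy
      · exact mem_centralizer_iff.mp hkd y hy
    have h5 := mul_mem (inv_mem (mem_sup_left (T := part 2 (P ⊔ Cfsg.pCore 2 G)) hk.2))
      (hrec (hfix _ (mul_mem hk.1 hd) hkR'))
    rwa [inv_mul_cancel_left] at h5

/-- Core balance when `O(G) = 1`, for a Sylow 2-subgroup `T` of `E(G) O_2(G)`. -/
theorem part_le (hO : Cfsg.pPrimeCore 2 G = ⊥) {T : Subgroup G}
    (hTU : T ≤ Cfsg.layer G ⊔ Cfsg.pCore 2 G) (hT : IsPGroup 2 T)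
    (hidx : ¬ 2 ∣ T.relIndex (Cfsg.layer G ⊔ Cfsg.pCore 2 G)) {R : Subgroup G}
    (hR : IsPGroup 2 R) : part 2 R ≤ Cfsg.layer G ⊔ part 2 T := by
  haveI : (Cfsg.pCore 2 G).Normal := Cfsg.pCore_normal 2 G
  set U := Cfsg.layer G ⊔ Cfsg.pCore 2 G with hU
  have hQT : Cfsg.pCore 2 G ≤ T := by
    let S : Sylow 2 ↥U := Fusion.Basic.sylowSubgroupOf hTU hT hidx
    have h := ((Cores.isPGroup_pCore (G := G) 2).comap_of_injective U.subtype
      U.subtype_injective).le_sylow_of_normal S
    rw [Fusion.Basic.coe_sylowSubgroupOf] at h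
    exact fun g hg => mem_subgroupOf.mp (h (show (⟨g, mem_sup_right hg⟩ : U) ∈
      (Cfsg.pCore 2 G).comap U.subtype from hg))
  have hidx' : ¬ 2 ∣ (T ⊓ Cfsg.layer G).relIndex (Cfsg.layer G) :=
    LBalance.not_dvd_relIndex_inf le_sup_left (by rw [normalizer_eq_top]; exact le_top) hTU hT hidx
  have hTeq : (T ⊓ Cfsg.layer G) ⊔ Cfsg.pCore 2 G = T := by
    refine le_antisymm (sup_le inf_le_left hQT) fun t ht => ?_
    obtain ⟨e, he, c, hc, rfl⟩ := GlaubermanSylow.mem_of_mem_sup_of_normalizes
      (A := Cfsg.layer G) (B := Cfsg.pCore 2 G) (by rw [normalizer_eq_top]; exact le_top) (hTU ht)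
    refine mul_mem (mem_sup_left ⟨?_, he⟩) (mem_sup_right hc)
    have := mul_mem ht (inv_mem (hQT hc))
    rwa [mul_inv_cancel_right] at this
  have h := part_le_aux hO inf_le_right (hT.to_le inf_le_left) hidx' hR
  rwa [hTeq] at h

/-- Core balance: `O(C(R))` lies in the extended 2-layer. -/
theorem part_le_extLayer {R : Subgroup G} (hR : IsPGroup 2 R) : part 2 R ≤ extLayer 2 G := by
  set q := QuotientGroup.mk' (Cfsg.pPrimeCore 2 G) with hq
  have hqs : Function.Surjective q := QuotientGroup.mk'_surjective _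
  have hU : (bigU 2 G).map q =
      Cfsg.layer (G ⧸ Cfsg.pPrimeCore 2 G) ⊔ Cfsg.pCore 2 (G ⧸ Cfsg.pPrimeCore 2 G) := by
    rw [bigU, Subgroup.map_sup, pLayer_map_eq, Cfsg.pPrimePCore,
      map_comap_eq_self_of_surjective hqs]
  obtain ⟨T⟩ : Nonempty (Sylow 2 ↥(bigU 2 G)) := inferInstance
  set T0 := sylowSub T with hT0
  have hT2 : IsPGroup 2 T0 := T.2.map _
  have hidx : ¬ 2 ∣ (T0.map q).relIndex ((bigU 2 G).map q) := fun hd => by
    let f := q.subgroupMap (bigU 2 G)
    have hfs : Function.Surjective f := q.subgroupMap_surjective (bigU 2 G)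
    have e : (T : Subgroup ↥(bigU 2 G)).map f = (T0.map q).subgroupOf ((bigU 2 G).map q) := by
      ext y
      constructor
      · rintro ⟨t, ht, rfl⟩
        exact ⟨t, ⟨t, ht, rfl⟩, rfl⟩
      · rintro ⟨_, ⟨t, ht, rfl⟩, h⟩
        exact ⟨t, ht, Subtype.ext h⟩
    rw [relIndex, ← e] at hd
    exact T.not_dvd_index (hd.trans (Subgroup.index_map_dvd _ hfs))
  rw [hU] at hidx
  have h := part_le pPrimeCore_quotient_eq_bot (T := T0.map q)
    (hU ▸ map_mono (map_subtype_le _)) (hT2.map q) hidx (hR.map q)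
  -- images of the cores
  have hmap : ∀ S : Subgroup G, IsPGroup 2 S →
      centralizer ((S.map q : Subgroup _) : Set (G ⧸ Cfsg.pPrimeCore 2 G)) =
        (centralizer (S : Set G)).map q :=
    fun S hS => centralizer_map_mk (Cores.coprime_card_pPrimeCore 2) hS
  have hdown : (part 2 R).map q ≤ part 2 (R.map q) := by
    refine le_part ((coprime_card_part R).coprime_dvd_left (card_map_dvd _ _)) ?_ ?_
    · rw [hmap R hR]; exact map_mono (part_le_centralizer R)
    · rw [hmap R hR]
      exact (map_mono ((centralizer_le_normalizer _).trans (normalizer_le_normalizer_part R))).trans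
        (le_normalizer_map _)
  have hup : part 2 (T0.map q) ≤ (part 2 T0).map q := by
    let φ : ↥(centralizer (T0 : Set G)) →*
        ↥(centralizer ((T0.map q : Subgroup _) : Set (G ⧸ Cfsg.pPrimeCore 2 G))) :=
      (q.comp (centralizer (T0 : Set G)).subtype).codRestrict _ fun c =>
        (hmap T0 hT2).symm ▸ mem_map_of_mem q c.2
    have hφ : Function.Surjective φ := by
      rintro ⟨y, hy⟩
      rw [hmap T0 hT2] at hy
      obtain ⟨c, hc, rfl⟩ := hy
      exact ⟨⟨c, hc⟩, rfl⟩
    set M := (Cfsg.pPrimeCore 2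
      ↥(centralizer ((T0.map q : Subgroup _) : Set (G ⧸ Cfsg.pPrimeCore 2 G)))).comap φ
    haveI : M.Normal := Normal.comap (Cfsg.pPrimeCore_normal 2 _) φ
    have hM : (Nat.card M).Coprime 2 := by
      let f : M →* ↥(Cfsg.pPrimeCore 2
          ↥(centralizer ((T0.map q : Subgroup _) : Set (G ⧸ Cfsg.pPrimeCore 2 G)))) :=
        (φ.comp M.subtype).codRestrict _ fun m => m.2
      rw [card_eq_card_quotient_mul_card_subgroup f.ker,
        Nat.card_congr (QuotientGroup.quotientKerEquivRange f).toEquiv]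
      refine ((Cores.coprime_card_pPrimeCore 2).coprime_dvd_left
        (card_subgroup_dvd_card f.range)).mul_left
        ((Cores.coprime_card_pPrimeCore (G := G) 2).coprime_dvd_left ?_)
      rw [← card_map_of_injective (f := (centralizer (T0 : Set G)).subtype.comp M.subtype)
        ((subtype_injective _).comp M.subtype_injective)]
      refine card_dvd_of_le ?_
      rintro _ ⟨m, hm, rfl⟩
      have h1 : q ((m : ↥(centralizer (T0 : Set G))) : G) = 1 :=
        congrArg (fun z => (Subtype.val (Subtype.val z))) (MonoidHom.mem_ker.mp hm)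
      exact (QuotientGroup.eq_one_iff _).mp h1
    rintro _ ⟨y, hy, rfl⟩
    obtain ⟨c, rfl⟩ := hφ y
    exact ⟨(c : G), ⟨c, Cores.le_pPrimeCore (p := 2) hM hy, rfl⟩, rfl⟩
  have hlayer : Cfsg.layer (G ⧸ Cfsg.pPrimeCore 2 G) ≤ (extLayer 2 G).map q := by
    rw [← pLayer_map_eq]
    exact map_mono (le_sup_of_le_left le_sup_left)
  have h6 : (part 2 R).map q ≤ (extLayer 2 G).map q := by
    refine (hdown.trans h).trans (sup_le hlayer (hup.trans (map_mono ?_)))
    rw [extLayer_eq T]
    exact le_sup_right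
  rw [map_le_iff_le_comap, comap_map_eq, QuotientGroup.ker_mk'] at h6
  exact h6.trans (sup_le le_rfl (le_sup_of_le_left le_sup_right))

end CfsgLib.Components.CoreBalance
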