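import Cfsg.Agent.Lib.Components.CoreBalance

/-!
Balance for the extended 2-layer: monotone from a normal subgroup of the centraliser of a
2-subgroup to the whole group.
-/

set_option autoImplicit false
set_option linter.style.haveILetI false
set_option linter.unusedSectionVars false
set_option linter.style.show false
set_option maxHeartbeats 800000

namespace CfsgLib.Components.ExtendedBalance

open Subgroup CfsgLib.Solvable
open CfsgLib.Components.ExtendedLayer (part sylowSub extLayer)

variable {X : Type*} [Group X] [Finite X] [hp : Fact (Nat.Prime 2)]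

/-- The 2-layer of `C(R)` lies in the 2-layer. -/
theorem centralizerLayer_le (R : Subgroup X) (hR : IsPGroup 2 R) :
    (Cfsg.pLayer 2 ↥(centralizer (R : Set X))).map (centralizer (R : Set X)).subtype ≤
      Cfsg.pLayer 2 X :=
  (LBalance.centralizerLayer_le_localLayer R).trans (LBalance.localLayer_le_pLayer hR
    fun _ hL => LBalance.localLayer_le_inner_two pPrimeCore_quotient_eq_bot hL (hR.map _))

theorem map_extLayer_le {H : Type*} [Group H] [Finite H] (ι : H →* X) (hι : Function.Injective ι)
    {R : Subgroup X} (hR : IsPGroup 2 R) (hle : ι.range ≤ centralizer (R : Set X))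
    (hn : centralizer (R : Set X) ≤ normalizer (ι.range : Set X)) :
    (extLayer 2 H).map ι ≤ extLayer 2 X := by
  set C := centralizer (R : Set X) with hC
  have hchar : ∀ (A : Subgroup H) (B : Subgroup X), A.map ι ≤ B →
      (∀ g ∈ C, ∀ a ∈ A, g * ι a * g⁻¹ ∈ A.map ι) → C ≤ normalizer (A.map ι : Set X) := by
    intro A B _ h g hg
    refine mem_normalizer_iff.mpr fun y => ⟨?_, fun hy => ?_⟩
    · rintro ⟨a, ha, rfl⟩; exact h g hg a ha
    · obtain ⟨a, ha, hya⟩ := hy
      have := h g⁻¹ (inv_mem hg) a ha
      rw [hya] at this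
      simpa [mul_assoc] using this
  -- the automorphism of `H` induced by an element normalising the range
  have hconj : ∀ g : X, g ∈ normalizer (ι.range : Set X) →
      ∃ e : H ≃* H, ∀ a : H, ι (e a) = g * ι a * g⁻¹ := by
    intro g hg
    refine ⟨(MonoidHom.ofInjective hι).trans
      (((ι.range).normalizerMonoidHom ⟨g, hg⟩).trans (MonoidHom.ofInjective hι).symm), fun a => ?_⟩
    exact congrArg Subtype.val ((MonoidHom.ofInjective hι).apply_symm_apply
      (((ι.range).normalizerMonoidHom ⟨g, hg⟩) (MonoidHom.ofInjective hι a)))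
  refine map_le_iff_le_comap.mpr (sup_le (sup_le ?_ ?_) (iSup_le fun T => ?_))
  · refine sSup_le fun K hK => map_le_iff_le_comap.mp ?_
    let j : H →* C := ι.codRestrict C fun a => hle ⟨a, rfl⟩
    have hj : j.range.Normal := by
      rw [MonoidHom.range_eq_map]
      refine ⟨fun y hy g => ?_⟩
      obtain ⟨a, -, rfl⟩ := hy
      obtain ⟨e, he⟩ := hconj g (hn g.2)
      exact ⟨e a, mem_top _, Subtype.ext (he a)⟩
    have h1 : (j.comp K.subtype).range ≤ Cfsg.pLayer 2 C := by
      refine LBalance.range_le_pLayer hK _ ?_
      have h2 := (hK.1.map j.rangeRestrict_surjective).trans' (Normal.isSubnormal hj)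
      rw [map_map, MonoidHom.subtype_comp_rangeRestrict] at h2
      rwa [MonoidHom.range_comp, range_subtype]
    rintro _ ⟨k, hk, rfl⟩
    exact mem_sup_left (mem_sup_left (centralizerLayer_le R hR ⟨j k, h1 ⟨⟨k, hk⟩, rfl⟩, rfl⟩))
  · rw [← map_le_iff_le_comap]
    refine (CoreBalance.le_part (T := R) ?_ ((map_mono le_top).trans ?_) (hchar _ _ le_rfl ?_)).trans
      (CoreBalance.part_le_extLayer hR)
    · rw [card_map_of_injective hι]; exact Cores.coprime_card_pPrimeCore 2
    · rwa [← MonoidHom.range_eq_map]
    · intro g hg a ha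
      obtain ⟨e, he⟩ := hconj g (hn hg)
      exact ⟨e a, pPrimeCore_map_le 2 e.toMonoidHom e.surjective ⟨a, ha, rfl⟩, he a⟩
  · rw [← map_le_iff_le_comap]
    set S := sylowSub T with hS
    have hS2 : IsPGroup 2 S := T.2.map _
    have hSC : R ≤ normalizer (S.map ι : Set X) := by
      refine GlaubermanSylow.le_normalizer_of_le_centralizer fun r hr => mem_centralizer_iff.mpr ?_
      rintro _ ⟨s, -, rfl⟩
      exact (mem_centralizer_iff.mp (hle ⟨s, rfl⟩) r hr).symm
    have hR' : IsPGroup 2 ↥(S.map ι ⊔ R) := (hS2.map ι).to_sup_of_normal_left' hR hSC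
    refine (CoreBalance.le_part (T := S.map ι ⊔ R) ?_ ?_ ?_).trans
      (CoreBalance.part_le_extLayer hR')
    · rw [card_map_of_injective hι]; exact CoreBalance.coprime_card_part S
    · rintro _ ⟨a, ha, rfl⟩
      suffices hs : S.map ι ⊔ R ≤ centralizer {ι a} from
        mem_centralizer_iff.mpr fun y hy => mem_centralizer_singleton_iff.mp (hs hy)
      refine sup_le (fun y hy => ?_) (fun y hy => ?_) <;> rw [mem_centralizer_singleton_iff]
      · obtain ⟨s, hs, rfl⟩ := hy
        rw [← map_mul, ← map_mul, mem_centralizer_iff.mp (ExtendedLayer.part_le_centralizer S ha) s hs]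
      · exact mem_centralizer_iff.mp (hle ⟨a, rfl⟩) y hy
    · intro g hg
      refine mem_normalizer_iff.mpr fun y => ?_
      have key : ∀ g ∈ centralizer ((S.map ι ⊔ R : Subgroup X) : Set X), ∀ a ∈ part 2 S,
          g * ι a * g⁻¹ ∈ (part 2 S).map ι := by
        intro g hg a ha
        obtain ⟨e, he⟩ := hconj g (hn (centralizer_le (SetLike.coe_subset_coe.mpr le_sup_right) hg))
        refine ⟨e a, ?_, he a⟩
        have heS : ∀ s ∈ S, e s = s := fun s hs => hι (by
          rw [he, ← mem_centralizer_iff.mp hg (ι s) (mem_sup_left ⟨s, hs, rfl⟩),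
            mul_inv_cancel_right])
        have h1 : (part 2 S).map e.toMonoidHom ≤ part 2 S := by
          refine CoreBalance.le_part ((CoreBalance.coprime_card_part S).coprime_dvd_left
            (card_map_dvd _ _)) ?_ ?_
          · rintro _ ⟨b, hb, rfl⟩
            refine mem_centralizer_iff.mpr fun s hs => ?_
            show s * e b = e b * s
            rw [← heS s hs, ← map_mul, ← map_mul,
              mem_centralizer_iff.mp (ExtendedLayer.part_le_centralizer S hb) s hs]
          · intro c hc
            refine mem_normalizer_iff.mpr fun y => ?_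
            have hc' : e.symm c ∈ centralizer (S : Set H) := mem_centralizer_iff.mpr fun s hs => by
              apply e.injective
              rw [map_mul, map_mul, e.apply_symm_apply, heS s hs,
                mem_centralizer_iff.mp hc s hs]
            have hn' : e.symm c ∈ normalizer (part 2 S : Set H) :=
              ExtendedLayer.normalizer_le_normalizer_part S (centralizer_le_normalizer _ hc')
            constructor
            · rintro ⟨b, hb, rfl⟩
              exact ⟨e.symm c * b * (e.symm c)⁻¹, (mem_normalizer_iff.mp hn' b).mp hb, by simp⟩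
            · rintro ⟨b, hb, hby⟩
              refine ⟨(e.symm c)⁻¹ * b * e.symm c, (mem_normalizer_iff'.mp hn' _).mpr ?_, ?_⟩
              · simpa [mul_assoc] using hb
              · rw [show e.toMonoidHom b = e b from rfl] at hby
                simp [hby, mul_assoc]
        exact h1 ⟨a, ha, rfl⟩
      constructor
      · rintro ⟨a, ha, rfl⟩; exact key g hg a ha
      · rintro ⟨a, ha, hya⟩
        have := key g⁻¹ (inv_mem hg) a ha
        rw [hya] at this
        simpa [mul_assoc] using this

end CfsgLib.Components.ExtendedBalance
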