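import Cfsg.Agent.Lib.Components.PermuteComponents

/-!
The extended `p`-layer: normality, one Sylow subgroup suffices, it normalises every `p`-component.
-/

set_option autoImplicit false
set_option linter.style.haveILetI false
set_option linter.unusedSectionVars false

namespace CfsgLib.Components.ExtendedLayer

open Subgroup CfsgLib.Solvable
open scoped commutatorElement

variable {X : Type*} [Group X] [Finite X] {p : ℕ} [hp : Fact p.Prime]

/-- `L_{p'}(X) O_{p',p}(X)`. -/
abbrev bigU (p : ℕ) (X : Type*) [Group X] : Subgroup X :=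
  Cfsg.pLayer p X ⊔ Cfsg.pPrimePCore p X

/-- `O_{p'}(C_X(T))` for a subgroup `T`, inside `X`. -/
abbrev part (p : ℕ) (T : Subgroup X) : Subgroup X :=
  (Cfsg.pPrimeCore p ↥(centralizer (T : Set X))).map (centralizer (T : Set X)).subtype

/-- A Sylow subgroup of `L_{p'}(X) O_{p',p}(X)`, inside `X`. -/
abbrev sylowSub (T : Sylow p ↥(bigU p X)) : Subgroup X :=
  (T : Subgroup ↥(bigU p X)).map (bigU p X).subtype

theorem core_sup_layer_eq :
    Cfsg.pLayer p X ⊔ Cfsg.pPrimeCore p X =
      (Cfsg.layer (X ⧸ Cfsg.pPrimeCore p X)).comap (QuotientGroup.mk' (Cfsg.pPrimeCore p X)) := by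
  rw [← pLayer_map_eq, comap_map_eq, QuotientGroup.ker_mk']

instance core_sup_layer_normal : (Cfsg.pLayer p X ⊔ Cfsg.pPrimeCore p X).Normal := by
  rw [core_sup_layer_eq]
  exact Normal.comap inferInstance _

theorem core_le_pPrimePCore : Cfsg.pPrimeCore p X ≤ Cfsg.pPrimePCore p X := fun g hg => by
  show QuotientGroup.mk' _ g ∈ Cfsg.pCore p _
  rw [show QuotientGroup.mk' (Cfsg.pPrimeCore p X) g = 1 from (QuotientGroup.eq_one_iff g).mpr hg]
  exact one_mem _

theorem bigU_eq : bigU p X = (Cfsg.pLayer p X ⊔ Cfsg.pPrimeCore p X) ⊔ Cfsg.pPrimePCore p X := by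
  rw [bigU, sup_assoc, sup_eq_right.mpr core_le_pPrimePCore]

instance bigU_normal : (bigU p X).Normal := by
  haveI : (Cfsg.pPrimePCore p X).Normal := Normal.comap inferInstance _
  rw [bigU_eq]
  exact inferInstance

/-- `L_{p'}(X) O_{p',p}(X)` normalises every `p`-component. -/
theorem bigU_le_normalizer {K : Subgroup X} (hK : Cfsg.IsPComponent p K) :
    bigU p X ≤ normalizer (K : Set X) := by
  refine sup_le (pLayer_le_normalizer hK) fun g hg => ?_
  refine IsPComponent.mem_normalizer hK (centralizer_le_normalizer _ ?_)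
  haveI := (Cores.isPGroup_pCore (G := X ⧸ Cfsg.pPrimeCore p X) p).isNilpotent
  have h := IsComponent.commutator_solvable_eq_bot hK.2.1
    (N := Cfsg.pCore p (X ⧸ Cfsg.pPrimeCore p X)) (by rw [normalizer_eq_top]; exact le_top)
  rw [commutator_comm, commutator_eq_bot_iff_le_centralizer] at h
  exact h hg

theorem map_centralizer_conj (g : X) (T : Subgroup X) :
    (centralizer (T : Set X)).map (MulAut.conj g).toMonoidHom =
      centralizer ((T.map (MulAut.conj g).toMonoidHom : Subgroup X) : Set X) := by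
  ext c
  simp only [Subgroup.mem_map, mem_centralizer_iff, SetLike.mem_coe]
  constructor
  · rintro ⟨d, hd, rfl⟩ _ ⟨t, ht, rfl⟩
    rw [← map_mul, hd t ht, map_mul]
  · intro hc
    refine ⟨g⁻¹ * c * g, fun t ht => ?_, by simp [mul_assoc]⟩
    have h : (g * t * g⁻¹) * c = c * (g * t * g⁻¹) := hc (g * t * g⁻¹) ⟨t, ht, rfl⟩
    calc t * (g⁻¹ * c * g) = g⁻¹ * ((g * t * g⁻¹) * c) * g := by group
      _ = g⁻¹ * (c * (g * t * g⁻¹)) * g := by rw [h]
      _ = g⁻¹ * c * g * t := by group

theorem part_map_le (g : X) (T : Subgroup X) :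
    (part p T).map (MulAut.conj g).toMonoidHom ≤ part p (T.map (MulAut.conj g).toMonoidHom) := by
  rintro _ ⟨_, ⟨c, hc, rfl⟩, rfl⟩
  let e : ↥(centralizer (T : Set X)) ≃*
      ↥(centralizer ((T.map (MulAut.conj g).toMonoidHom : Subgroup X) : Set X)) :=
    ((MulAut.conj g).subgroupMap _).trans (MulEquiv.subgroupCongr (map_centralizer_conj g T))
  exact ⟨e c, pPrimeCore_map_le p e.toMonoidHom e.surjective ⟨c, hc, rfl⟩, rfl⟩

/-- The image of a Sylow subgroup of `L_{p'}(X) O_{p',p}(X)` under conjugation. -/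
theorem exists_sylow_conj (g : X) (T : Sylow p ↥(bigU p X)) :
    ∃ T' : Sylow p ↥(bigU p X), (sylowSub T).map (MulAut.conj g).toMonoidHom = sylowSub T' := by
  let e : ↥(bigU p X) ≃* ↥(bigU p X) := MulAut.conjNormal g
  refine ⟨T.mapSurjective (f := e.toMonoidHom) e.surjective, ?_⟩
  rw [sylowSub, sylowSub]
  show _ = ((T : Subgroup ↥(bigU p X)).map e.toMonoidHom).map (bigU p X).subtype
  rw [map_map, map_map]
  rfl

theorem iSup_part_normal (g : X) :
    (⨆ T : Sylow p ↥(bigU p X), part p (sylowSub T)).map (MulAut.conj g).toMonoidHom ≤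
      ⨆ T : Sylow p ↥(bigU p X), part p (sylowSub T) := by
  rw [Subgroup.map_iSup]
  refine iSup_le fun T => (part_map_le g _).trans ?_
  obtain ⟨T', hT'⟩ := exists_sylow_conj g T
  rw [hT']
  exact le_iSup (fun T : Sylow p ↥(bigU p X) => part p (sylowSub T)) T'

/-- The extended `p`-layer. -/
abbrev extLayer (p : ℕ) (X : Type*) [Group X] : Subgroup X :=
  Cfsg.pLayer p X ⊔ Cfsg.pPrimeCore p X ⊔ ⨆ T : Sylow p ↥(bigU p X), part p (sylowSub T)

theorem extLayer_normal : (extLayer p X).Normal := by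
  refine normalizer_eq_top_iff.mp (top_le_iff.mp fun g _ => ?_)
  refine Coprime.mem_normalizer_of_conj_map_le fun x hx => ?_
  have h : (extLayer p X).map (MulAut.conj g).toMonoidHom ≤ extLayer p X := by
    rw [Subgroup.map_sup]
    refine sup_le (le_sup_of_le_left ?_) (le_sup_of_le_right (iSup_part_normal g))
    rintro _ ⟨y, hy, rfl⟩
    exact core_sup_layer_normal.conj_mem y hy g
  exact h ⟨x, hx, rfl⟩

theorem part_le_centralizer (T : Subgroup X) : part p T ≤ centralizer (T : Set X) := map_subtype_le _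

theorem normalizer_le_normalizer_part (T : Subgroup X) :
    normalizer (T : Set X) ≤ normalizer (part p T : Set X) := fun g hg => by
  rw [mem_normalizer_iff_map_conj_eq] at hg
  refine Coprime.mem_normalizer_of_conj_map_le fun x hx => ?_
  have h := part_map_le (p := p) g T ⟨x, hx, rfl⟩
  rwa [hg] at h

/-- One Sylow subgroup gives the whole extended layer. -/
theorem extLayer_eq (T : Sylow p ↥(bigU p X)) :
    extLayer p X = Cfsg.pLayer p X ⊔ Cfsg.pPrimeCore p X ⊔ part p (sylowSub T) := by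
  refine le_antisymm (sup_le le_sup_left (iSup_le fun T' => ?_)) (sup_le le_sup_left
    (le_sup_of_le_right (le_iSup (fun T : Sylow p ↥(bigU p X) => part p (sylowSub T)) T)))
  set N := Cfsg.pLayer p X ⊔ Cfsg.pPrimeCore p X with hN
  set F := N ⊔ part p (sylowSub T) with hF
  have hNF : N ≤ normalizer (F : Set X) := le_sup_left.trans Subgroup.le_normalizer
  have hTF : sylowSub T ≤ normalizer (F : Set X) := by
    intro g hg
    rw [mem_normalizer_iff_map_conj_eq, Subgroup.map_sup,
      mem_normalizer_iff_map_conj_eq.mp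
        (normalizer_le_normalizer_part _ (Subgroup.le_normalizer hg)),
      mem_normalizer_iff_map_conj_eq.mp ((normalizer_eq_top (H := N)).symm ▸ mem_top g)]
  have hU : bigU p X ≤ normalizer (F : Set X) := by
    refine le_trans ?_ (sup_le hNF hTF)
    rw [bigU_eq]
    refine sup_le le_sup_left ?_
    -- `O_{p',p} ≤ O_{p'} T`
    obtain ⟨P, hP⟩ : ∃ P : Sylow p ↥(Cfsg.pPrimePCore p X),
        (P : Subgroup ↥(Cfsg.pPrimePCore p X)).map (Cfsg.pPrimePCore p X).subtype ≤ sylowSub T := by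
      haveI : (Cfsg.pPrimePCore p X).Normal := Normal.comap inferInstance _
      obtain ⟨P⟩ : Nonempty (Sylow p ↥(Cfsg.pPrimePCore p X)) := inferInstance
      have hPU : (P : Subgroup ↥(Cfsg.pPrimePCore p X)).map (Cfsg.pPrimePCore p X).subtype ≤ bigU p X :=
        (map_subtype_le _).trans le_sup_right
      obtain ⟨S, hS⟩ := ((P.isPGroup'.map (Cfsg.pPrimePCore p X).subtype).comap_of_injective
        (bigU p X).subtype (bigU p X).subtype_injective).exists_le_sylow
      obtain ⟨u, hu⟩ := MulAction.exists_smul_eq (↥(bigU p X)) S T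
      let e : ↥(Cfsg.pPrimePCore p X) ≃* ↥(Cfsg.pPrimePCore p X) := MulAut.conjNormal (u : X)
      refine ⟨P.mapSurjective (f := e.toMonoidHom) e.surjective, ?_⟩
      rintro _ ⟨_, ⟨x, hx, rfl⟩, rfl⟩
      have hxS : (⟨(x : X), hPU ⟨x, hx, rfl⟩⟩ : ↥(bigU p X)) ∈ (S : Subgroup ↥(bigU p X)) :=
        hS (mem_comap.mpr ⟨x, hx, rfl⟩)
      refine ⟨u * ⟨(x : X), hPU ⟨x, hx, rfl⟩⟩ * u⁻¹, ?_, by simp [e]⟩
      rw [← hu, Sylow.coe_subgroup_smul]
      exact ⟨_, hxS, rfl⟩
    intro g hg
    have h := (sylow_pPrimePCore_map P).ge hg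
    obtain ⟨t, ht, htg⟩ := h
    have ho : t⁻¹ * g ∈ Cfsg.pPrimeCore p X := QuotientGroup.eq.mp htg
    have := mul_mem (mem_sup_right (S := N) (hP ht)) (mem_sup_left (T := sylowSub T) (mem_sup_right ho))
    rwa [mul_inv_cancel_left] at this
  obtain ⟨u, hu⟩ := MulAction.exists_smul_eq (↥(bigU p X)) T T'
  have e : sylowSub T' = (sylowSub T).map (MulAut.conj (u : X)).toMonoidHom := by
    rw [← hu, sylowSub, sylowSub, Sylow.coe_subgroup_smul]
    ext x
    constructor
    · rintro ⟨_, ⟨y, hy, rfl⟩, rfl⟩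
      exact ⟨y, ⟨y, hy, rfl⟩, rfl⟩
    · rintro ⟨_, ⟨y, hy, rfl⟩, rfl⟩
      exact ⟨u * y * u⁻¹, ⟨y, hy, rfl⟩, rfl⟩
  have h1 : part p (sylowSub T') = (part p (sylowSub T)).map (MulAut.conj (u : X)).toMonoidHom := by
    refine le_antisymm (fun x hx => ?_) (e ▸ part_map_le _ _)
    have h2 := part_map_le (p := p) (u : X)⁻¹ (sylowSub T') ⟨x, hx, rfl⟩
    rw [e, PermuteComponents.conj_map_conj, inv_mul_cancel,
      show (sylowSub T).map (MulAut.conj (1 : X)).toMonoidHom = sylowSub T by ext; simp] at h2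
    exact ⟨(MulAut.conj (u : X)⁻¹) x, h2, by simp [mul_assoc]⟩
  rw [h1]
  rintro _ ⟨y, hy, rfl⟩
  exact (mem_normalizer_iff.mp (hU u.2) y).mp (mem_sup_right hy)

/-- `O_{p'}(C(T))` normalises every `p`-component, `T` a Sylow subgroup of `L_{p'} O_{p',p}`. -/
theorem part_le_normalizer (T : Sylow p ↥(bigU p X)) {K : Subgroup X}
    (hK : Cfsg.IsPComponent p K) : part p (sylowSub T) ≤ normalizer (K : Set X) := by
  intro g hg
  by_contra hgK
  set q := QuotientGroup.mk' (Cfsg.pPrimeCore p X) with hq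
  have hK' : Cfsg.IsComponent (K.map q) := hK.2.1
  obtain ⟨yb, hyb, hybp, hybZ⟩ :=
    PermuteComponents.exists_pElement (p := p) pPrimeCore_quotient_eq_bot hK'
  obtain ⟨y0, hy0, rfl⟩ := hyb
  -- a `p`-element `y` of `K` with the same image
  obtain ⟨k, hk⟩ := hybp ⟨q y0, mem_zpowers _⟩
  have hk' : q y0 ^ p ^ k = 1 := by simpa using congrArg Subtype.val hk
  obtain ⟨j, m, hm, hom⟩ : ∃ j m : ℕ, ¬ p ∣ m ∧ orderOf y0 = p ^ j * m :=
    Nat.exists_eq_pow_mul_and_not_dvd (orderOf_pos y0).ne' p hp.out.ne_one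
  set y := y0 ^ m with hy
  have hyK : y ∈ K := K.pow_mem hy0 m
  have hyp : IsPGroup p (zpowers y) := by
    have : orderOf y ∣ p ^ j := orderOf_dvd_of_pow_eq_one (by
      rw [hy, ← pow_mul, mul_comm, ← hom, pow_orderOf_eq_one])
    obtain ⟨i, -, hi⟩ := (Nat.dvd_prime_pow hp.out).mp this
    exact IsPGroup.of_card (n := i) (by rw [Nat.card_zpowers, hi])
  have hyZ : q y ∉ PermuteComponents.layerCenter _ := by
    intro hmem
    refine hybZ (mem_of_coprime_pows (m := m) (n := p ^ k)
      ((hp.out.coprime_iff_not_dvd.mpr hm).symm.pow_right k) ?_ (by rw [hk']; exact one_mem _))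
    rwa [hy, map_pow] at hmem
  -- conjugate it into `T`
  have hyU : y ∈ bigU p X := mem_sup_left (IsPComponent.le_pLayer hK hyK)
  obtain ⟨S, hS⟩ := (hyp.comap_of_injective (bigU p X).subtype
    (bigU p X).subtype_injective).exists_le_sylow
  obtain ⟨u, hu⟩ := MulAction.exists_smul_eq (↥(bigU p X)) S T
  set z := (u : X) * y * (u : X)⁻¹ with hz
  have hzT : z ∈ sylowSub T := by
    refine ⟨u * ⟨y, hyU⟩ * u⁻¹, ?_, rfl⟩
    rw [← hu, Sylow.coe_subgroup_smul]
    exact ⟨_, hS (mem_comap.mpr (mem_zpowers y)), rfl⟩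
  have hzK : z ∈ K := (mem_normalizer_iff.mp (bigU_le_normalizer hK u.2) y).mp hyK
  have hzg : g * z = z * g := (mem_centralizer_iff.mp (part_le_centralizer _ hg) z hzT).symm
  have hne : (K.map q).map (MulAut.conj (q g)).toMonoidHom ≠ K.map q := fun h =>
    hgK (IsPComponent.mem_normalizer hK (mem_normalizer_iff_map_conj_eq.mpr h))
  have hzc : q z ∈ centralizer ((K.map q : Subgroup _) : Set _) := by
    refine IsComponent.le_centralizer_of_ne (IsComponent.conj hK' (q g)) hK' hne ?_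
    refine ⟨q z, mem_map_of_mem q hzK, ?_⟩
    show q g * q z * (q g)⁻¹ = q z
    rw [← map_mul, hzg, map_mul, mul_inv_cancel_right]
  have hzZ : q z ∈ PermuteComponents.layerCenter _ := by
    refine ⟨IsComponent.le_layer hK' (mem_map_of_mem q hzK), ?_⟩
    suffices hs : Cfsg.layer (X ⧸ Cfsg.pPrimeCore p X) ≤ centralizer {q z} from
      mem_centralizer_iff.mpr fun w hw => mem_centralizer_singleton_iff.mp (hs hw)
    rw [layer_le_iff]
    intro L hL w hw
    rw [mem_centralizer_singleton_iff]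
    by_cases hLK : L = K.map q
    · exact mem_centralizer_iff.mp hzc w (hLK ▸ hw)
    · exact mem_centralizer_iff.mp
        (IsComponent.le_centralizer_of_ne hK' hL (Ne.symm hLK) (mem_map_of_mem q hzK)) w hw
  refine hyZ ?_
  have := PermuteComponents.layerCenter_normal.conj_mem _ hzZ (q u)⁻¹
  rw [hz, map_mul, map_mul, map_inv] at this
  simpa [mul_assoc] using this

theorem extLayer_le_normalizer {K : Subgroup X} (hK : Cfsg.IsPComponent p K) :
    extLayer p X ≤ normalizer (K : Set X) :=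
  sup_le (sup_le (pLayer_le_normalizer hK) (pPrimeCore_le_normalizer_pComponent hK))
    (iSup_le fun T => part_le_normalizer T hK)

end CfsgLib.Components.ExtendedLayer
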