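import Cfsg.Agent.Lib.Components.Factorization
import Cfsg.Agent.Lib.Coprime.Action

/-!
Elementary groups of order `q²` acting on a `p`-group with two fixed-point subgroups.
-/

set_option autoImplicit false
set_option linter.style.haveILetI false
set_option linter.unusedSectionVars false

namespace CfsgLib.Components.FourAction

open Subgroup CfsgLib.Coprime
open scoped commutatorElement

variable {G : Type*} [Group G] [Finite G]

/-- One half of the argument: commutators of `C` with `C'` lie in `(D ∩ C') M`. -/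
theorem commutator_mem_sup {C C' D M : Subgroup G} {a : G}
    (hC' : ∀ y ∈ C', a * y * a⁻¹ ∈ C') (hfix : ∀ c ∈ C, a * c * a⁻¹ = c)
    (hfpf : ∀ y ∈ C', a * y * a⁻¹ = y → y = 1)
    (haD : ∀ d ∈ D, a * d * a⁻¹ ∈ D) (hCD : ∀ c ∈ C, ∀ y ∈ C', ⁅c, y⁆ ∈ D)
    (hM : ∀ d ∈ D, ∀ y ∈ C', ⁅d, y⁆ ∈ M) (hdec : ∀ u ∈ D, ∃ x ∈ D ⊓ C, ∃ y ∈ D ⊓ C', x * y = u) :
    ∀ c ∈ C, ∀ z ∈ C', ⁅c, z⁆ ∈ (D ⊓ C') ⊔ M := by
  intro c hc z hz
  let φ : C' → C' := fun y => ⟨(y : G)⁻¹ * (a * y * a⁻¹), mul_mem (inv_mem y.2) (hC' _ y.2)⟩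
  have hinj : Function.Injective φ := by
    intro x y h
    have h' : (x : G)⁻¹ * (a * x * a⁻¹) = (y : G)⁻¹ * (a * y * a⁻¹) := congrArg Subtype.val h
    have h1 : a * ((y : G) * (x : G)⁻¹) * a⁻¹ = (y : G) * (x : G)⁻¹ := by
      calc a * ((y : G) * (x : G)⁻¹) * a⁻¹
          = y * ((y : G)⁻¹ * (a * y * a⁻¹)) * ((x : G)⁻¹ * (a * x * a⁻¹))⁻¹ * (x : G)⁻¹ := by group
        _ = (y : G) * (x : G)⁻¹ := by rw [h']; group
    exact (Subtype.ext (mul_inv_eq_one.mp (hfpf _ (mul_mem y.2 (inv_mem x.2)) h1))).symm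
  obtain ⟨y, hy⟩ := Finite.injective_iff_surjective.mp hinj ⟨z, hz⟩
  have hy' : (y : G)⁻¹ * (a * y * a⁻¹) = z := congrArg Subtype.val hy
  obtain ⟨d, hd, d', hd', hu⟩ := hdec _ (hCD c hc _ y.2)
  have he : ⁅c, z⁆ = (y : G)⁻¹ * (⁅c, (y : G)⁆⁻¹ * (a * ⁅c, (y : G)⁆ * a⁻¹)) * y := by
    have e2 : a * ⁅c, (y : G)⁆ * a⁻¹ = ⁅c, a * y * a⁻¹⁆ := by
      conv_rhs => rw [← hfix c hc]
      simp only [commutatorElement_def]; group
    rw [e2, ← hy']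
    simp only [commutatorElement_def]; group
  rw [← hu] at he
  set e := d'⁻¹ * (a * d' * a⁻¹) with hedef
  have he' : ⁅c, z⁆ = e * ⁅e⁻¹, (y : G)⁻¹⁆ := by
    rw [he, hedef]
    calc (y : G)⁻¹ * ((d * d')⁻¹ * (a * (d * d') * a⁻¹)) * y
        = (y : G)⁻¹ * (d'⁻¹ * (d⁻¹ * (a * d * a⁻¹)) * (a * d' * a⁻¹)) * y := by group
      _ = _ := by rw [hfix d hd.2]; simp only [commutatorElement_def]; group
  rw [he']
  have heD : e ∈ D ⊓ C' := ⟨D.mul_mem (D.inv_mem hd'.1) (haD _ hd'.1), C'.mul_mem (C'.inv_mem hd'.2) (hC' _ hd'.2)⟩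
  exact mul_mem (mem_sup_left heD) (mem_sup_right (hM _ (inv_mem heD.1) _ (inv_mem y.2)))

/-- Two fixed-point subgroups of a noncyclic abelian group of operators commute, if there are no
others. -/
theorem commute_of_two {p : ℕ} [Fact p.Prime] {A P C₁ C₂ : Subgroup G} [IsMulCommutative A]
    (hnc : ¬ IsCyclic A) (hP : IsPGroup p P) (hcop : (Nat.card A).Coprime (Nat.card P))
    (hAP : A ≤ normalizer (P : Set G)) (h₁ : C₁ ≤ P) (h₂ : C₂ ≤ P)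
    (hA₁ : A ≤ normalizer (C₁ : Set G)) (hA₂ : A ≤ normalizer (C₂ : Set G)) (hdis : C₁ ⊓ C₂ = ⊥)
    (hcent : ∀ a ∈ A, a ≠ 1 → P ⊓ centralizer {a} ≤ C₁ ∨ P ⊓ centralizer {a} ≤ C₂)
    {a₁ a₂ : G} (ha₁ : a₁ ∈ A) (ha₂ : a₂ ∈ A) (hf₁ : ∀ c ∈ C₁, a₁ * c * a₁⁻¹ = c)
    (hf₂ : ∀ c ∈ C₂, a₂ * c * a₂⁻¹ = c) (hg₁ : ∀ c ∈ C₂, a₁ * c * a₁⁻¹ = c → c = 1)
    (hg₂ : ∀ c ∈ C₁, a₂ * c * a₂⁻¹ = c → c = 1) :
    ⁅C₁, C₂⁆ = ⊥ ∧ C₁ ⊔ C₂ = P := by
  have dec : ∀ U : Subgroup G, U ≤ P → A ≤ normalizer (U : Set G) →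
      ∀ u ∈ U, ∃ x ∈ U ⊓ C₁, ∃ y ∈ U ⊓ C₂, x * y = u := by
    intro U hU hAU
    refine Factorization.pGroup_subset_mul hnc (hP.to_le hU) (coprime_of_le hcop le_rfl hU) hAU
      inf_le_left inf_le_left fun a ha ha1 s hs => ?_
    rcases hcent a ha ha1 with h | h
    · exact ⟨s, ⟨hs.1, h ⟨hU hs.1, hs.2⟩⟩, 1, one_mem _, mul_one s⟩
    · exact ⟨1, one_mem _, s, ⟨hs.1, h ⟨hU hs.1, hs.2⟩⟩, one_mul s⟩
  have hgen : C₁ ⊔ C₂ = P := le_antisymm (sup_le h₁ h₂) fun s hs => by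
    obtain ⟨x, hx, y, hy, rfl⟩ := dec P le_rfl hAP s hs
    exact mul_mem (mem_sup_left hx.2) (mem_sup_right hy.2)
  refine ⟨?_, hgen⟩
  set D := ⁅C₁, C₂⁆ with hD
  by_contra hb
  have hPD : P ≤ normalizer (D : Set G) := hgen ▸ sup_le (normalizer_commutator_ge_left _ _)
    (normalizer_commutator_ge_right _ _)
  have hDP : D ≤ P := (commutator_mono h₁ h₂).trans
    (le_normalizer_iff_commutator_le_left.mp Subgroup.le_normalizer)
  have hAD : A ≤ normalizer (D : Set G) := fun a ha => by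
    rw [mem_normalizer_iff_map_conj_eq, hD, map_commutator,
      mem_normalizer_iff_map_conj_eq.mp (hA₁ ha), mem_normalizer_iff_map_conj_eq.mp (hA₂ ha)]
  set M := ⁅D, P⁆ with hM
  have hMD : M < D := commutator_lt_of_isPGroup hP (hP.to_le hDP) hPD hb
  have hAM : A ≤ normalizer (M : Set G) := fun a ha => by
    rw [mem_normalizer_iff_map_conj_eq, hM, map_commutator,
      mem_normalizer_iff_map_conj_eq.mp (hAD ha), mem_normalizer_iff_map_conj_eq.mp (hAP ha)]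
  have cm : ∀ {N : Subgroup G}, A ≤ normalizer (N : Set G) → ∀ a ∈ A, ∀ d ∈ N, a * d * a⁻¹ ∈ N :=
    fun hN a ha d hd => (mem_normalizer_iff.mp (hN ha) d).mp hd
  have s1 := commutator_mem_sup (C := C₁) (C' := C₂) (D := D) (M := M) (cm hA₂ a₁ ha₁) hf₁ hg₁
    (cm hAD a₁ ha₁) (fun c hc y hy => commutator_mem_commutator hc hy)
    (fun d hd y hy => commutator_mem_commutator hd (h₂ hy)) (dec D hDP hAD)
  have s2 := commutator_mem_sup (C := C₂) (C' := C₁) (D := D) (M := M) (cm hA₁ a₂ ha₂) hf₂ hg₂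
    (cm hAD a₂ ha₂) (fun c hc y hy => by
      rw [hD, commutator_comm]; exact commutator_mem_commutator hc hy)
    (fun d hd y hy => commutator_mem_commutator hd (h₁ hy)) (fun u hu => by
      obtain ⟨x, hx, y, hy, e⟩ := dec D hDP hAD u⁻¹ (inv_mem hu)
      exact ⟨y⁻¹, inv_mem hy, x⁻¹, inv_mem hx, by rw [← mul_inv_rev, e, inv_inv]⟩)
  refine hMD.not_ge (commutator_le.mpr fun c hc z hz => ?_)
  have t1 := s1 c hc z hz
  have t2 : ⁅c, z⁆ ∈ (D ⊓ C₁) ⊔ M := by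
    rw [← commutatorElement_inv]; exact inv_mem (s2 z hz c hc)
  have hMn : ∀ H : Subgroup G, H ≤ P → H ≤ normalizer (M : Set G) := fun H hH g hg => by
    rw [mem_normalizer_iff_map_conj_eq, hM, map_commutator,
      mem_normalizer_iff_map_conj_eq.mp (hPD (hH hg)),
      mem_normalizer_iff_map_conj_eq.mp (Subgroup.le_normalizer (hH hg))]
  obtain ⟨x, hx, m, hm, ex⟩ : ∃ x ∈ D ⊓ C₁, ∃ m ∈ M, x * m = ⁅c, z⁆ := by
    rw [← SetLike.mem_coe, coe_mul_of_left_le_normalizer_right _ _ (hMn _ (inf_le_left.trans hDP))] at t2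
    exact t2
  obtain ⟨y, hy, n, hn, ey⟩ : ∃ y ∈ D ⊓ C₂, ∃ n ∈ M, y * n = ⁅c, z⁆ := by
    rw [← SetLike.mem_coe, coe_mul_of_left_le_normalizer_right _ _ (hMn _ (inf_le_left.trans hDP))] at t1
    exact t1
  obtain ⟨u, hu, v, hv, e⟩ := dec M (hMD.le.trans hDP) hAM _ (M.mul_mem hm (M.inv_mem hn))
  -- `x⁻¹ y = u v`
  have e1 : u * v = x⁻¹ * y := by
    rw [e]
    calc m * n⁻¹ = x⁻¹ * (x * m) * n⁻¹ := by group
      _ = x⁻¹ * (y * n) * n⁻¹ := by rw [ex, ey]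
      _ = x⁻¹ * y := by group
  have h3 : x * u = y * v⁻¹ := by
    calc x * u = x * (u * v) * v⁻¹ := by group
      _ = y * v⁻¹ := by rw [e1]; group
  have h4 : x * u ∈ C₁ ⊓ C₂ := ⟨mul_mem hx.2 hu.2, h3 ▸ C₂.mul_mem hy.2 (C₂.inv_mem hv.2)⟩
  rw [hdis, mem_bot] at h4
  rw [← ex, eq_inv_of_mul_eq_one_left h4]
  exact mul_mem (inv_mem hu.1) hm

end CfsgLib.Components.FourAction
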