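import Cfsg.Agent.Lib.Components.GenFitting
import Cfsg.Agent.Lib.Solvable.FrattiniFitting
import Cfsg.Agent.Lib.Coprime.Action
import Cfsg.Agent.Lib.OddOrder.Basic

/-!
`F*` of the quotient by `Z(E) Φ(F)`.
-/

set_option autoImplicit false
set_option linter.style.haveILetI false
set_option linter.unusedSectionVars false

namespace CfsgLib.Components.FrattiniQuotient

open Subgroup CfsgLib.Solvable
open scoped commutatorElement Pointwise

variable {G : Type*} [Group G] [Finite G]

theorem isPGroup_zpowers_of_coprime_eq {p : ℕ} [Fact p.Prime] {x : G} (hx : IsPGroup p (zpowers x)) :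
    ∃ n : ℕ, orderOf x = p ^ n := by
  obtain ⟨n, hn⟩ := IsPGroup.iff_card.mp hx
  exact ⟨n, by rw [← Nat.card_zpowers, hn]⟩

/-- A subgroup lies in another if its elements of prime power order do. -/
theorem le_of_prime_elements {H T : Subgroup G}
    (h : ∀ s : ℕ, s.Prime → ∀ x ∈ H, IsPGroup s (zpowers x) → x ∈ T) : H ≤ T := by
  refine subgroupOf_eq_top.mp (Cores.eq_top_of_sylow_le (T.subgroupOf H) fun s hs => ?_)
  haveI := Fact.mk hs
  obtain ⟨P⟩ : Nonempty (Sylow s H) := inferInstance
  refine ⟨P, fun x hx => h s hs x x.2 ?_⟩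
  have := (P.isPGroup'.to_le (zpowers_le.mpr hx)).map H.subtype
  rwa [MonoidHom.map_zpowers] at this

theorem sylow_fitting_eq {p : ℕ} [hp : Fact p.Prime] (P : Sylow p (Cfsg.fittingSubgroup G)) :
    (P : Subgroup (Cfsg.fittingSubgroup G)) = (Cfsg.pCore p G).subgroupOf (Cfsg.fittingSubgroup G) := by
  let F := Cfsg.fittingSubgroup G
  haveI hPn : (P : Subgroup F).Normal :=
    (((Group.isNilpotent_of_finite_tfae (G := F)).out 0 3 :).mp inferInstance) p hp P
  have h1 : (Cfsg.pCore p G).subgroupOf F ≤ (P : Subgroup F) :=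
    ((Cores.isPGroup_pCore p).comap_of_injective F.subtype F.subtype_injective).le_sylow_of_normal P
  refine le_antisymm (fun y hy => ?_) h1
  haveI : Subsingleton (Sylow p F) := by
    haveI := Sylow.unique_of_normal P hPn; infer_instance
  haveI : (P : Subgroup F).Characteristic := Sylow.characteristic_of_normal P hPn
  haveI : ((P : Subgroup F).map F.subtype).Normal := inferInstance
  exact Cores.le_pCore (P.isPGroup'.map F.subtype) ⟨y, hy, rfl⟩

theorem mem_pCore_of_mem_fitting {p : ℕ} [Fact p.Prime] {x : G} (hx : x ∈ Cfsg.fittingSubgroup G)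
    (hp : IsPGroup p (zpowers x)) : x ∈ Cfsg.pCore p G := by
  set F := Cfsg.fittingSubgroup G
  obtain ⟨P, hP⟩ := (((hp.comap_of_injective F.subtype F.subtype_injective).to_le
    (zpowers_le.mpr (show (⟨x, hx⟩ : F) ∈ (zpowers x).comap F.subtype from mem_zpowers x)) :
      IsPGroup p (zpowers (⟨x, hx⟩ : F)))).exists_le_sylow
  have := hP (mem_zpowers _)
  rw [sylow_fitting_eq P] at this
  exact this

/-- Central factors drop out of commutators. -/
theorem commutatorElement_central {u v a b : G} (c0 : Commute u a) (c1 : Commute u b)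
    (c2 : Commute v a) (c2' : Commute v b) (c3 : Commute u v) : ⁅u * a, v * b⁆ = ⁅a, b⁆ := by
  rw [c0.eq, c2'.eq]
  simp only [commutatorElement_def, mul_inv_rev]
  calc a * u * (b * v) * (u⁻¹ * a⁻¹) * (v⁻¹ * b⁻¹)
      = a * (u * b) * (v * u⁻¹) * a⁻¹ * v⁻¹ * b⁻¹ := by group
    _ = a * b * ((u * v) * u⁻¹) * a⁻¹ * v⁻¹ * b⁻¹ := by rw [c1.eq]; group
    _ = a * b * (v * a⁻¹) * v⁻¹ * b⁻¹ := by rw [c3.eq]; group
    _ = a * b * a⁻¹ * b⁻¹ := by rw [c2.inv_right.eq]; group

/-- `Φ(F) ∩ O_p(G) ≤ Φ(O_p(G))`. -/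
theorem frattini_fitting_inf_le (p : ℕ) [hp : Fact p.Prime] :
    (frattini ↥(Cfsg.fittingSubgroup G)).map (Cfsg.fittingSubgroup G).subtype ⊓ Cfsg.pCore p G ≤
      (frattini ↥(Cfsg.pCore p G)).map (Cfsg.pCore p G).subtype := by
  set F := Cfsg.fittingSubgroup G
  set K := Cfsg.pCore p G
  have hKF : K ≤ F := Cores.pCore_le_fittingSubgroup p
  rintro x ⟨hx, hxK⟩
  refine ⟨⟨x, hxK⟩, ?_, rfl⟩
  obtain ⟨P⟩ : Nonempty (Sylow p F) := inferInstance
  haveI hPn : (P : Subgroup F).Normal :=
    (((Group.isNilpotent_of_finite_tfae (G := F)).out 0 3 :).mp inferInstance) p hp P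
  have hPK : (P : Subgroup F) = K.subgroupOf F := sylow_fitting_eq P
  obtain ⟨H, hH⟩ := Subgroup.exists_right_complement'_of_coprime (N := (P : Subgroup F)) P.card_coprime_index
  have hcard := hH.card_mul
  have hHp : (Nat.card H).Coprime p := by
    rw [hH.symm.index_eq_card.symm]
    exact (hp.out.coprime_iff_not_dvd.mpr P.not_dvd_index).symm
  have hcomm : ∀ a ∈ (P : Subgroup F), ∀ b ∈ H, Commute a b := by
    intro a ha b hb
    refine CfsgLib.OddOrder.Basic.commute_of_coprime_orderOf ?_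
    obtain ⟨k, hk⟩ := isPGroup_zpowers_of_coprime_eq (P.isPGroup'.to_le (zpowers_le.mpr ha))
    rw [hk]
    exact ((hHp.coprime_dvd_left (Subgroup.orderOf_dvd_natCard H hb)).pow_right k).symm
  -- maximal subgroups of `K` extend
  rw [frattini, Order.radical, SetLike.mem_coe, mem_iInf]
  intro M
  rw [mem_iInf]
  intro hM
  set M' := (M.map K.subtype).subgroupOf F with hM'
  have hM'P : M' ≤ P := fun y hy => by
    rw [hPK]; exact map_subtype_le M hy
  set W := M' ⊔ H
  have hnorm : H ≤ normalizer (M' : Set F) := fun b hb => centralizer_le_normalizer _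
    (mem_centralizer_iff.mpr fun a ha => (hcomm a (hM'P ha) b hb).eq)
  have hdisj : (P : Subgroup F) ⊓ H = ⊥ := hH.disjoint.eq_bot
  have hdec : ∀ y : F, ∃ a ∈ (P : Subgroup F), ∃ b ∈ H, a * b = y := fun y => by
    obtain ⟨⟨a, b⟩, e, -⟩ := hH.existsUnique y
    exact ⟨a, a.2, b, b.2, e⟩
  have hWP : ∀ y ∈ W, y ∈ (P : Subgroup F) → y ∈ M' := fun y hy hyP => by
    rw [← SetLike.mem_coe, coe_mul_of_right_le_normalizer_left M' H hnorm] at hy
    obtain ⟨a, ha, b, hb, rfl⟩ := hy
    have : b ∈ (P : Subgroup F) ⊓ H := ⟨((P : Subgroup F).mul_mem_cancel_left (hM'P ha)).mp hyP, hb⟩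
    rw [hdisj, mem_bot] at this
    show a * b ∈ M'
    rw [this, mul_one]; exact ha
  have hW : IsCoatom W := by
    refine ⟨fun e => hM.1 (eq_top_iff.mpr fun k _ => ?_), fun V hV => ?_⟩
    · have := hWP ⟨k, hKF k.2⟩ (e ▸ mem_top _) (by rw [hPK]; exact k.2)
      obtain ⟨m, hm, e'⟩ := this
      rwa [← Subtype.ext e']
    · obtain ⟨v, hv, hvW⟩ := SetLike.exists_of_lt hV
      obtain ⟨a, ha, b, hb, rfl⟩ := hdec v
      have hbW : b ∈ W := mem_sup_right hb
      have haV : a ∈ V := by
        have := mul_mem hv (inv_mem (hV.le hbW))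
        rwa [mul_inv_cancel_right] at this
      have hlt : M < (V.map F.subtype).subgroupOf K := by
        refine lt_of_le_of_ne (fun m hm => ?_) fun e => hvW (mul_mem ?_ hbW)
        · exact ⟨⟨m, hKF m.2⟩, hV.le (mem_sup_left (show (⟨m, hKF m.2⟩ : F) ∈ M' from ⟨m, hm, rfl⟩)), rfl⟩
        · refine mem_sup_left ?_
          have haK : (a : G) ∈ K := by rw [hPK] at ha; exact ha
          exact ⟨⟨a, haK⟩, e.ge (show (⟨a, haK⟩ : K) ∈ (V.map F.subtype).subgroupOf K from ⟨a, haV, rfl⟩), rfl⟩
      have htop := hM.2 _ hlt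
      refine eq_top_iff.mpr fun y _ => ?_
      obtain ⟨a', ha', b', hb', rfl⟩ := hdec y
      refine mul_mem ?_ (hV.le (mem_sup_right hb'))
      have haK : (a' : G) ∈ K := by rw [hPK] at ha'; exact ha'
      obtain ⟨z, hz, e⟩ := (htop.ge (mem_top (⟨a', haK⟩ : K)) : (a' : G) ∈ V.map F.subtype)
      rwa [← F.subtype_injective e]
  obtain ⟨y, hy, rfl⟩ := hx
  have := hWP y (frattini_le_coatom hW hy) (by rw [hPK]; exact hxK)
  obtain ⟨m, hm, e⟩ := this
  exact (Subtype.ext e : m = ⟨F.subtype y, hxK⟩) ▸ hm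

/-- The subgroup `Z(E) Φ(F)`. -/
def ker (G : Type*) [Group G] : Subgroup G :=
  (Subgroup.center ↥(Cfsg.layer G)).map (Cfsg.layer G).subtype ⊔
    (frattini ↥(Cfsg.fittingSubgroup G)).map (Cfsg.fittingSubgroup G).subtype

theorem ker_le_fitting : ker G ≤ Cfsg.fittingSubgroup G :=
  sup_le (by rw [center_layer_map_eq]; exact inf_le_left) (map_subtype_le _)

theorem center_layer_le_frattini :
    (Subgroup.center ↥(Cfsg.layer G)).map (Cfsg.layer G).subtype ≤ frattini G := by
  refine le_iInf₂ fun M hM => ?_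
  by_contra hZM
  set Z := (Subgroup.center ↥(Cfsg.layer G)).map (Cfsg.layer G).subtype
  have htop : M ⊔ Z = ⊤ := hM.2 _ (left_lt_sup.mpr hZM)
  have hdec : ∀ g : G, ∃ m ∈ M, ∃ z ∈ Z, m * z = g := fun g => by
    have : g ∈ ((M : Set G) * (Z : Set G) : Set G) := by
      rw [← coe_mul_of_left_le_normalizer_right M Z (by rw [normalizer_eq_top]; exact le_top), htop]
      trivial
    exact this
  refine hZM ((map_subtype_le _).trans ?_)
  rw [← layer_commutator_self, commutator_le]
  intro a ha b hb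
  obtain ⟨m, hm, z, hz, rfl⟩ := hdec a
  obtain ⟨n, hn, w, hw, rfl⟩ := hdec b
  have hzE : z ∈ Cfsg.layer G := map_subtype_le _ hz
  have hwE : w ∈ Cfsg.layer G := map_subtype_le _ hw
  have hmE : m ∈ Cfsg.layer G := by simpa using mul_mem ha (inv_mem hzE)
  have hnE : n ∈ Cfsg.layer G := by simpa using mul_mem hb (inv_mem hwE)
  have hcent : ∀ u ∈ Z, ∀ e ∈ Cfsg.layer G, Commute u e := by
    rintro _ ⟨u, hu, rfl⟩ e he
    exact (congrArg Subtype.val (mem_center_iff.mp hu ⟨e, he⟩)).symm
  have c1 := hcent z hz n hnE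
  have c2 := hcent w hw m hmE
  have c3 := hcent z hz w hwE
  have : ⁅m * z, n * w⁆ = ⁅m, n⁆ := by
    simp only [commutatorElement_def, mul_inv_rev]
    calc m * z * (n * w) * (z⁻¹ * m⁻¹) * (w⁻¹ * n⁻¹)
        = m * (z * n) * (w * z⁻¹) * m⁻¹ * w⁻¹ * n⁻¹ := by group
      _ = m * n * ((z * w) * z⁻¹) * m⁻¹ * w⁻¹ * n⁻¹ := by rw [c1.eq]; group
      _ = m * n * (w * m⁻¹) * w⁻¹ * n⁻¹ := by rw [c3.eq]; group
      _ = m * n * m⁻¹ * n⁻¹ := by rw [c2.inv_right.eq]; group
  rw [this, commutatorElement_def]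
  exact M.mul_mem (M.mul_mem (M.mul_mem hm hn) (M.inv_mem hm)) (M.inv_mem hn)

theorem ker_le_frattini : ker G ≤ frattini G :=
  sup_le center_layer_le_frattini (FrattiniFitting.frattini_subtype_le _)

/-- What acts trivially on `F*` modulo the kernel lies in `F*`. -/
theorem le_generalizedFitting {Y : Subgroup G} [Y.Normal]
    (hY : ∀ g ∈ Y, ∀ w ∈ Cfsg.generalizedFittingSubgroup G, ⁅g, w⁆ ∈ ker G) :
    Y ≤ Cfsg.fittingSubgroup G := by
  set E := Cfsg.layer G
  set F := Cfsg.fittingSubgroup G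
  have hYE : Y ≤ centralizer (E : Set G) := by
    intro g hg
    have hδ : ∀ a ∈ E, ∀ b ∈ E, Commute ⁅g, a⁆ b := by
      intro a ha b hb
      have h1 : ⁅g, a⁆ ∈ F := ker_le_fitting (hY g hg a (layer_le_generalizedFittingSubgroup ha))
      exact mem_centralizer_iff.mp (layer_le_centralizer_fitting hb) _ h1
    have hle : ⁅E, E⁆ ≤ centralizer {g} := by
      rw [commutator_le]
      intro a ha b hb
      rw [mem_centralizer_singleton_iff]
      have ea : g * a * g⁻¹ = ⁅g, a⁆ * a := by rw [commutatorElement_def]; group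
      have eb : g * b * g⁻¹ = ⁅g, b⁆ * b := by rw [commutatorElement_def]; group
      have hconj : g * ⁅a, b⁆ * g⁻¹ = ⁅a, b⁆ := by
        have c1 := hδ a ha b hb
        have c2 := hδ b hb a ha
        have hbE : ⁅g, b⁆ ∈ E := by
          rw [commutatorElement_def]
          exact mul_mem (Subgroup.Normal.conj_mem inferInstance b hb g) (inv_mem hb)
        have c3 := hδ a ha _ hbE
        calc g * ⁅a, b⁆ * g⁻¹ = ⁅g * a * g⁻¹, g * b * g⁻¹⁆ := by
              simp only [commutatorElement_def]; group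
          _ = ⁅⁅g, a⁆ * a, ⁅g, b⁆ * b⁆ := by rw [ea, eb]
          _ = ⁅a, b⁆ := commutatorElement_central (hδ a ha a ha) c1 c2 (hδ b hb b hb) c3
      calc ⁅a, b⁆ * g = g * ⁅a, b⁆ * g⁻¹ * g := by rw [hconj]
        _ = g * ⁅a, b⁆ := by group
    intro e he
    exact mem_centralizer_singleton_iff.mp (hle (layer_commutator_self.ge he))
  haveI hΦn : ((frattini ↥F).map F.subtype).Normal := inferInstance
  have hprime : ∀ (q s : ℕ), q.Prime → s.Prime → s ≠ q → ∀ g ∈ Y, IsPGroup q (zpowers g) →
      g ∈ centralizer (Cfsg.pCore s G : Set G) := by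
    intro q s hq hs hne g hg hgq
    haveI := Fact.mk hq
    haveI := Fact.mk hs
    set K := Cfsg.pCore s G
    have hKF : K ≤ F := Cores.pCore_le_fittingSubgroup s
    have hcop : (Nat.card (zpowers g)).Coprime (Nat.card K) := by
      obtain ⟨i, hi⟩ := IsPGroup.iff_card.mp hgq
      obtain ⟨j, hj⟩ := IsPGroup.iff_card.mp (Cores.isPGroup_pCore (G := G) s)
      rw [hi, hj]
      exact ((Nat.coprime_primes hq hs).mpr hne.symm).pow _ _
    have hgK : zpowers g ≤ normalizer (K : Set G) := by rw [normalizer_eq_top]; exact le_top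
    have hgY : zpowers g ≤ Y := zpowers_le.mpr hg
    set D := ⁅K, zpowers g⁆ with hD
    have hDK : D ≤ K := le_normalizer_iff_commutator_le_left.mp hgK
    have hDN : D ≤ ker G := by
      rw [hD, commutator_le]
      intro k hk h hh
      rw [← commutatorElement_inv]
      exact inv_mem (hY h (hgY hh) k (fittingSubgroup_le_generalizedFittingSubgroup (hKF hk)))
    have hDself : ⁅D, zpowers g⁆ = D :=
      Coprime.commutator_commutator_self hgK hcop (.inl (Coprime.isSolvable_zpowers g))
    have hDΦ : D ≤ (frattini ↥F).map F.subtype := by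
      rw [← hDself, commutator_le]
      intro d hd h hh
      have hd' := hDN hd
      rw [ker, ← SetLike.mem_coe, coe_mul_of_left_le_normalizer_right _ _
        (by rw [normalizer_eq_top]; exact le_top)] at hd'
      obtain ⟨z, hz, φ, hφ, rfl⟩ := hd'
      have hc : z * h = h * z := mem_centralizer_iff.mp (hYE (hgY hh)) z (map_subtype_le _ hz)
      have e : ⁅z * φ, h⁆ = z * (φ * (h * φ⁻¹ * h⁻¹)) * z⁻¹ := by
        have hc' : z⁻¹ * h⁻¹ = h⁻¹ * z⁻¹ := ((show Commute z h from hc).inv_left.inv_right).eq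
        simp only [commutatorElement_def, mul_inv_rev]
        calc z * φ * h * (φ⁻¹ * z⁻¹) * h⁻¹ = z * φ * h * φ⁻¹ * (z⁻¹ * h⁻¹) := by group
          _ = _ := by rw [hc']; group
      show ⁅z * φ, h⁆ ∈ _
      rw [e]
      exact hΦn.conj_mem _ (mul_mem hφ (hΦn.conj_mem _ (inv_mem hφ) h)) z
    refine Coprime.le_centralizer_of_frattini hgK (hcop.coprime_dvd_right (card_subgroup_dvd_card _))
      (fun h hh k hk => ?_) (mem_zpowers g)
    rw [← commutatorElement_inv]
    exact inv_mem (frattini_fitting_inf_le s ⟨hDΦ (commutator_mem_commutator hk hh),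
      hDK (commutator_mem_commutator hk hh)⟩)
  refine le_of_prime_elements fun q hq g hg hgq => ?_
  haveI := Fact.mk hq
  set C := ⨅ s : {s : ℕ // s.Prime ∧ s ≠ q}, centralizer (Cfsg.pCore (s : ℕ) G : Set G) with hC
  haveI hCn : C.Normal := normal_iInf_normal fun s => inferInstance
  set Yq := Y ⊓ C
  haveI hYqn : Yq.Normal := inferInstance
  -- elements of order prime to `q` are central
  have hcentral : ∀ s : ℕ, s.Prime → s ≠ q → ∀ h ∈ Yq, IsPGroup s (zpowers h) →
      ∀ y ∈ Yq, y * h = h * y := by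
    intro s hs hsq h hh hhs y hy
    haveI := Fact.mk hs
    have hhF : h ∈ F := by
      refine centralizer_generalizedFitting_le_fitting ?_
      suffices hle : Cfsg.generalizedFittingSubgroup G ≤ centralizer {h} from
        mem_centralizer_iff.mpr fun x hx => mem_centralizer_singleton_iff.mp (hle hx)
      refine sup_le (fun x hx => mem_centralizer_singleton_iff.mpr
        (mem_centralizer_iff.mp (hYE hh.1) x hx)) (le_of_prime_elements fun t ht x hx hxt => ?_)
      haveI := Fact.mk ht
      rw [mem_centralizer_singleton_iff]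
      have hxK := mem_pCore_of_mem_fitting hx hxt
      by_cases hts : t = q
      · exact mem_centralizer_iff.mp (hprime s t hs ht (hts.trans_ne hsq.symm) h hh.1 hhs) x hxK
      · exact mem_centralizer_iff.mp
          ((iInf_le (fun s : {s : ℕ // s.Prime ∧ s ≠ q} => centralizer (Cfsg.pCore (s : ℕ) G : Set G))
            ⟨t, ht, hts⟩) hh.2) x hxK
    exact (mem_centralizer_iff.mp
      ((iInf_le (fun s : {s : ℕ // s.Prime ∧ s ≠ q} => centralizer (Cfsg.pCore (s : ℕ) G : Set G))
        ⟨s, hs, hsq⟩) hy.2) h (mem_pCore_of_mem_fitting hhF hhs)).symm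
  have hnil : Group.IsNilpotent Yq := by
    suffices hq' : IsPGroup q (Yq ⧸ Subgroup.center Yq) from
      Group.of_quotient_center_nilpotent hq'.isNilpotent
    intro x
    obtain ⟨x, rfl⟩ := QuotientGroup.mk_surjective x
    obtain ⟨k, m, hm, hxm⟩ := Nat.exists_eq_pow_mul_and_not_dvd (orderOf_pos x).ne' q hq.ne_one
    refine ⟨k, (QuotientGroup.eq_one_iff _).mpr ?_⟩
    have hle : zpowers (x ^ q ^ k) ≤ Subgroup.center Yq := by
      refine le_of_prime_elements (G := Yq) fun s hs y hy hys => ?_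
      haveI := Fact.mk hs
      by_cases hsq : s = q
      · have hd : orderOf y ∣ m := by
          refine (Subgroup.orderOf_dvd_natCard _ hy).trans ?_
          rw [Nat.card_zpowers, orderOf_pow' _ (pow_ne_zero _ hq.ne_zero), hxm,
            Nat.gcd_eq_right (dvd_mul_right _ _), Nat.mul_div_cancel_left _ (pow_pos hq.pos k)]
        obtain ⟨i, hi⟩ := isPGroup_zpowers_of_coprime_eq hys
        rw [hi, hsq] at hd
        have h0 : i = 0 := by
          by_contra hne
          exact hm ((dvd_pow_self q hne).trans hd)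
        rw [h0, pow_zero, orderOf_eq_one_iff] at hi
        rw [hi]; exact one_mem _
      · rw [mem_center_iff]
        intro z
        refine Subtype.ext (hcentral s hs hsq y y.2 ?_ z z.2)
        have := hys.map Yq.subtype
        rwa [MonoidHom.map_zpowers] at this
    exact hle (mem_zpowers _)
  have hle : Yq ≤ F := Cores.le_fittingSubgroup hnil
  refine hle ⟨hg, ?_⟩
  show g ∈ C
  rw [hC, mem_iInf]
  exact fun s => hprime q s hq s.2.1 s.2.2 g hg hgq

/-- `F*(G/Z(E)Φ(F)) = F*(G)/Z(E)Φ(F)`. -/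
theorem generalizedFitting_quotient (N : Subgroup G) [N.Normal] (hN : N = ker G) :
    Cfsg.generalizedFittingSubgroup (G ⧸ N) =
      (Cfsg.generalizedFittingSubgroup G).map (QuotientGroup.mk' N) := by
  set f := QuotientGroup.mk' N
  have hf : Function.Surjective f := QuotientGroup.mk'_surjective N
  set W := (Cfsg.generalizedFittingSubgroup G).map f
  haveI : W.Normal := Subgroup.Normal.map inferInstance f hf
  refine le_antisymm (generalizedFitting_le_of_centralizer_le W ?_ ?_) ?_
  · -- `F(G/N) = F(G)/N`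
    set A := (Cfsg.fittingSubgroup (G ⧸ N)).comap f
    have hNA : N ≤ A := QuotientGroup.le_comap_mk' _ _
    let g : A →* Cfsg.fittingSubgroup (G ⧸ N) := f.subgroupComap _
    have hg : Function.Surjective g := MonoidHom.subgroupComap_surjective_of_surjective _ _ hf
    have hker : g.ker = N.subgroupOf A := by
      ext x
      rw [MonoidHom.mem_ker, Subgroup.mem_subgroupOf, ← QuotientGroup.eq_one_iff,
        ← OneMemClass.coe_eq_one]
      rfl
    haveI : Group.IsNilpotent (A ⧸ N.subgroupOf A) :=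
      Group.nilpotent_of_mulEquiv ((QuotientGroup.quotientKerEquivOfSurjective g hg).symm.trans
        (QuotientGroup.quotientMulEquivOfEq hker))
    have hA : A ≤ Cfsg.fittingSubgroup G := Cores.le_fittingSubgroup
      (FrattiniFitting.isNilpotent_of_quotient_frattini A N hNA (hN ▸ ker_le_frattini))
    intro x hx
    obtain ⟨y, rfl⟩ := hf x
    exact ⟨y, fittingSubgroup_le_generalizedFittingSubgroup (hA hx), rfl⟩
  · intro x hx
    obtain ⟨y, rfl⟩ := hf x
    refine ⟨y, fittingSubgroup_le_generalizedFittingSubgroup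
      (le_generalizedFitting (Y := (centralizer (W : Set (G ⧸ N))).comap f) ?_ hx), rfl⟩
    intro g hg w hw
    have h1 := mem_centralizer_iff.mp hg (f w) ⟨w, hw, rfl⟩
    rw [← hN, ← QuotientGroup.eq_one_iff]
    show f ⁅g, w⁆ = 1
    rw [map_commutatorElement, commutatorElement_eq_one_iff_mul_comm]
    exact h1.symm
  · refine map_le_iff_le_comap.mpr (sup_le (layer_le_iff.mpr fun L hL => ?_) ?_)
    · rw [← map_le_iff_le_comap]
      by_cases hb : L.map f = ⊥
      · rw [hb]; exact bot_le
      · exact (IsComponent.le_layer (IsComponent.map hL hf hb)).trans layer_le_generalizedFittingSubgroup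
    · rw [← map_le_iff_le_comap]
      exact (FrattiniFitting.map_fittingSubgroup_quotient N).trans
        fittingSubgroup_le_generalizedFittingSubgroup

end CfsgLib.Components.FrattiniQuotient
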