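import Cfsg.Agent.Lib.Classical.SLBasic
import Cfsg.Agent.Lib.Components.PComponents
import Cfsg.Prelude.Def_CaseTheorems

/-!
`SL(k, F)` is quasisimple, and sits as a normal subgroup in the centraliser of a diagonal
involution of `GL(k + 1, F)`.
-/

set_option autoImplicit false
set_option linter.style.haveILetI false
set_option linter.unusedSectionVars false
set_option linter.style.show false
set_option linter.unusedSimpArgs false
set_option maxHeartbeats 400000

namespace CfsgLib.Components.GLComponent

open Matrix CfsgLib.Classical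

variable {F : Type*} [Field F] [Fintype F] [DecidableEq F]

theorem exists_unit_sq_ne_one (h : 4 ≤ Fintype.card F) : ∃ a : F, a ≠ 0 ∧ a ^ 2 ≠ 1 := by
  by_contra hc
  push Not at hc
  have hsub : (Finset.univ : Finset F) ⊆ {0, 1, -1} := by
    intro a _
    rcases eq_or_ne a 0 with h0 | h0
    · simp [h0]
    · rcases sq_eq_one_iff.mp (hc a h0) with h1 | h1 <;> simp [h1]
  have h3 : ({0, 1, -1} : Finset F).card ≤ 3 := Finset.card_le_three
  have := Finset.card_le_card hsub
  rw [Finset.card_univ] at this
  omega

theorem sl_isQuasisimple {k : ℕ} (hk : 2 ≤ k) (h : k = 2 → 4 ≤ Fintype.card F) :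
    Cfsg.IsQuasisimple (SpecialLinearGroup (Fin k) F) := by
  refine ⟨⟨?_⟩, psl_fin_isSimpleGroup hk h⟩
  rcases Nat.lt_or_ge k 3 with hk3 | hk3
  · obtain rfl : k = 2 := by omega
    obtain ⟨a, ha, hasq⟩ := exists_unit_sq_ne_one (h rfl)
    exact sl_subgroup_eq_top _ fun i j hij c => by
      rw [commutator_eq_closure]
      exact Subgroup.subset_closure (transvection_mem_commutatorSet_two ha hasq hij c)
  · exact sl_perfect (by simpa using hk3)

variable {k : ℕ}

theorem inc_apply (X : Matrix (Fin k) (Fin k) F) (i j : Fin (k + 1)) :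
    (incMat F (Fin.succ : Fin k → Fin (k + 1)) * X * (incMat F (Fin.succ : Fin k → Fin (k + 1)))ᵀ) i j =
      (Fin.cases (0 : F) (fun a => Fin.cases (0 : F) (fun b => X a b) j) i) := by
  simp only [incMat, Matrix.mul_apply, Matrix.transpose_apply, Matrix.submatrix_apply, id,
    Matrix.one_apply]
  cases i using Fin.cases with
  | zero => simp [Fin.succ_ne_zero, eq_comm (a := (0 : Fin (k + 1)))]
  | succ a =>
    cases j using Fin.cases with
    | zero => simp [Fin.succ_ne_zero, eq_comm (a := (0 : Fin (k + 1)))]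
    | succ b => simp [Fin.succ_inj, eq_comm]

/-- The corner embedding. -/
def corner (k : ℕ) : SpecialLinearGroup (Fin k) F →* GL (Fin (k + 1)) F :=
  SpecialLinearGroup.toGL.comp (slEmbed Fin.succ (Fin.succ_injective k))

theorem corner_coe (A : SpecialLinearGroup (Fin k) F) :
    ((corner k A : GL (Fin (k + 1)) F) : Matrix (Fin (k + 1)) (Fin (k + 1)) F) =
      1 + incMat F (Fin.succ : Fin k → Fin (k + 1)) * ((A : Matrix (Fin k) (Fin k) F) - 1) * (incMat F (Fin.succ : Fin k → Fin (k + 1)))ᵀ := rfl

theorem corner_apply (A : SpecialLinearGroup (Fin k) F) (i j : Fin (k + 1)) :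
    ((corner k A : GL (Fin (k + 1)) F) : Matrix (Fin (k + 1)) (Fin (k + 1)) F) i j =
      Fin.cases (if j = 0 then (1 : F) else 0)
        (fun a => Fin.cases (0 : F) (fun b => (A : Matrix (Fin k) (Fin k) F) a b) j) i := by
  rw [corner_coe, Matrix.add_apply, inc_apply]
  cases i using Fin.cases with
  | zero => simp [Matrix.one_apply, eq_comm]
  | succ a =>
    cases j using Fin.cases with
    | zero => simp [Matrix.one_apply, Fin.succ_ne_zero]
    | succ b => by_cases hab : a = b <;> simp [Matrix.one_apply, Fin.succ_inj, hab]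

theorem corner_injective : Function.Injective (corner (F := F) k) := by
  intro A B h
  apply sl_ext
  ext a b
  have := congrArg (fun g : GL (Fin (k + 1)) F =>
    (g : Matrix (Fin (k + 1)) (Fin (k + 1)) F) a.succ b.succ) h
  simpa [corner_apply] using this

/-- The diagonal involution `(-1, 1, …, 1)`. -/
def invol (k : ℕ) : GL (Fin (k + 1)) F where
  val := diagonal fun i => if i = 0 then (-1 : F) else 1
  inv := diagonal fun i => if i = 0 then (-1 : F) else 1
  val_inv := by
    rw [diagonal_mul_diagonal]; convert diagonal_one with i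
    by_cases hi : i = 0 <;> simp [hi]
  inv_val := by
    rw [diagonal_mul_diagonal]; convert diagonal_one with i
    by_cases hi : i = 0 <;> simp [hi]

variable (h2 : (-1 : F) ≠ 1)

include h2 in
theorem mem_centralizer_invol {g : GL (Fin (k + 1)) F} :
    g ∈ Subgroup.centralizer ({invol k} : Set (GL (Fin (k + 1)) F)) ↔
      ∀ j : Fin (k + 1), j ≠ 0 → (g : Matrix (Fin (k + 1)) (Fin (k + 1)) F) 0 j = 0 ∧
        (g : Matrix (Fin (k + 1)) (Fin (k + 1)) F) j 0 = 0 := by
  rw [Subgroup.mem_centralizer_singleton_iff, Units.ext_iff, Units.val_mul, Units.val_mul,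
    show ((invol k : GL (Fin (k + 1)) F) : Matrix (Fin (k + 1)) (Fin (k + 1)) F) =
      diagonal fun i => if i = 0 then (-1 : F) else 1 from rfl]
  constructor
  · intro h j hj
    have a := congrFun (congrFun h 0) j
    have b := congrFun (congrFun h j) 0
    simp only [mul_diagonal, diagonal_mul, if_neg hj, if_true, mul_one, one_mul] at a b
    constructor
    · by_contra hx
      apply h2
      have h' : (-1 : F) * (g : Matrix (Fin (k + 1)) (Fin (k + 1)) F) 0 j = 1 * (g : Matrix (Fin (k + 1)) (Fin (k + 1)) F) 0 j := by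
        rw [one_mul]; exact a.symm
      exact mul_right_cancel₀ hx h'
    · by_contra hx
      apply h2
      have h' : (g : Matrix (Fin (k + 1)) (Fin (k + 1)) F) j 0 * (-1 : F) = (g : Matrix (Fin (k + 1)) (Fin (k + 1)) F) j 0 * 1 := by
        rw [mul_one]; exact b
      exact mul_left_cancel₀ hx h'
  · intro h
    ext i j
    simp only [mul_diagonal, diagonal_mul]
    by_cases hi : i = 0 <;> by_cases hj : j = 0 <;> simp [hi, hj]
    · simp [(h j hj).1]
    · simp [(h i hi).2]

include h2 in
theorem corner_mem (A : SpecialLinearGroup (Fin k) F) :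
    corner k A ∈ Subgroup.centralizer ({invol k} : Set (GL (Fin (k + 1)) F)) := by
  rw [mem_centralizer_invol h2]
  intro j hj
  obtain ⟨b, rfl⟩ := Fin.exists_succ_eq_of_ne_zero hj
  simp [corner_apply, Fin.succ_ne_zero]

include h2 in
theorem range_normal :
    (((corner (F := F) k).range).subgroupOf
      (Subgroup.centralizer ({invol k} : Set (GL (Fin (k + 1)) F)))).Normal := by
  set C := Subgroup.centralizer ({invol k} : Set (GL (Fin (k + 1)) F))
  -- the two multiplicative invariants
  have hmul : ∀ a ∈ C, ∀ b : GL (Fin (k + 1)) F,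
      ((a * b : GL (Fin (k + 1)) F) : Matrix (Fin (k + 1)) (Fin (k + 1)) F) 0 0 =
        (a : Matrix (Fin (k + 1)) (Fin (k + 1)) F) 0 0 *
          (b : Matrix (Fin (k + 1)) (Fin (k + 1)) F) 0 0 := by
    intro a ha b
    rw [Units.val_mul, Matrix.mul_apply, Finset.sum_eq_single 0]
    · intro j _ hj
      rw [((mem_centralizer_invol h2).mp ha j hj).1, zero_mul]
    · simp
  have hiff : ∀ g ∈ C, g ∈ (corner (F := F) k).range ↔
      (g : Matrix (Fin (k + 1)) (Fin (k + 1)) F) 0 0 = 1 ∧
        (g : Matrix (Fin (k + 1)) (Fin (k + 1)) F).det = 1 := by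
    intro g hg
    constructor
    · rintro ⟨A, rfl⟩
      exact ⟨by simp [corner_apply], (slEmbed Fin.succ (Fin.succ_injective k) A).2⟩
    · rintro ⟨h0, hd⟩
      set X : Matrix (Fin k) (Fin k) F :=
        (g : Matrix (Fin (k + 1)) (Fin (k + 1)) F).submatrix Fin.succ Fin.succ with hX
      have e : (g : Matrix (Fin (k + 1)) (Fin (k + 1)) F) =
          1 + incMat F (Fin.succ : Fin k → Fin (k + 1)) * (X - 1) * (incMat F (Fin.succ : Fin k → Fin (k + 1)))ᵀ := by
        ext i j
        rw [Matrix.add_apply, inc_apply]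
        cases i using Fin.cases with
        | zero =>
          cases j using Fin.cases with
          | zero => simp [h0]
          | succ b =>
            simp [((mem_centralizer_invol h2).mp hg b.succ (Fin.succ_ne_zero b)).1,
              Matrix.one_apply, eq_comm (a := (0 : Fin (k + 1))), Fin.succ_ne_zero]
        | succ a =>
          cases j using Fin.cases with
          | zero =>
            simp [((mem_centralizer_invol h2).mp hg a.succ (Fin.succ_ne_zero a)).2,
              Matrix.one_apply, Fin.succ_ne_zero]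
          | succ b => by_cases hab : a = b <;> simp [hX, Matrix.one_apply, Fin.succ_inj, hab]
      have hdX : X.det = 1 := by
        rw [e, Matrix.mul_assoc, Matrix.det_one_add_mul_comm, Matrix.mul_assoc,
          incMat_transpose_mul _ (Fin.succ_injective k), Matrix.mul_one, add_sub_cancel] at hd
        exact hd
      exact ⟨⟨X, hdX⟩, Units.ext ((corner_coe ⟨X, hdX⟩).trans e.symm)⟩
  refine ⟨fun x hx c => Subgroup.mem_subgroupOf.mpr ?_⟩
  obtain ⟨h0, hd⟩ := (hiff _ x.2).mp (Subgroup.mem_subgroupOf.mp hx)
  refine (hiff _ (c * x * c⁻¹).2).mpr ⟨?_, ?_⟩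
  · show ((((c : GL (Fin (k + 1)) F) * x * (c : GL (Fin (k + 1)) F)⁻¹) : GL (Fin (k + 1)) F) :
      Matrix (Fin (k + 1)) (Fin (k + 1)) F) 0 0 = 1
    have h1 := hmul _ c.2 (c : GL (Fin (k + 1)) F)⁻¹
    rw [mul_inv_cancel, Units.val_one, one_apply_eq] at h1
    rw [hmul _ (mul_mem c.2 x.2), hmul _ c.2, h0, mul_one, ← h1]
  · show ((((c : GL (Fin (k + 1)) F) * x * (c : GL (Fin (k + 1)) F)⁻¹) : GL (Fin (k + 1)) F) :
      Matrix (Fin (k + 1)) (Fin (k + 1)) F).det = 1
    rw [Units.val_mul, Units.val_mul, det_mul, det_mul, hd, mul_one, ← det_mul, Units.mul_inv,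
      det_one]

include h2 in
theorem two_dvd_card (hk : 2 ≤ k) : 2 ∣ Nat.card (SpecialLinearGroup (Fin k) F) := by
  let i : Fin k := ⟨0, by omega⟩
  let j : Fin k := ⟨1, by omega⟩
  have hij : i ≠ j := by simp [i, j]
  let d : SpecialLinearGroup (Fin k) F :=
    ⟨diagonal fun a => if a = i ∨ a = j then (-1 : F) else 1, by
      rw [det_diagonal]
      rw [← Finset.prod_subset (Finset.subset_univ ({i, j} : Finset (Fin k)))]
      · simp [Finset.prod_pair hij]
      · intro a _ ha
        simp only [Finset.mem_insert, Finset.mem_singleton] at ha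
        simp [ha]⟩
  have hd : orderOf d = 2 := by
    refine orderOf_eq_prime ?_ fun he => h2 ?_
    · rw [pow_two]
      apply sl_ext
      show diagonal (fun a => if a = i ∨ a = j then (-1 : F) else 1) *
        diagonal (fun a => if a = i ∨ a = j then (-1 : F) else 1) = 1
      rw [diagonal_mul_diagonal]; convert diagonal_one with a
      by_cases ha : a = i ∨ a = j <;> simp [ha]
    · have := congrArg (fun A : SpecialLinearGroup (Fin k) F => (A : Matrix (Fin k) (Fin k) F) i i) he
      simpa [d] using this
  exact hd ▸ orderOf_dvd_natCard d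

end CfsgLib.Components.GLComponent
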