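import Cfsg.Agent.Lib.Components.GlaubermanSylow
import Cfsg.Agent.Lib.PGroup.FrattiniAct
import Cfsg.Agent.Lib.Recognition.DerangementClasses
import Cfsg.Agent.Lib.Fusion.Abelian
import Cfsg.Prelude.Def_CaseTheorems
import Cfsg.Prelude.Def_KGroupFacts

/-!
Automorphisms fixing a Sylow 2-subgroup, and solvability of outer automorphism groups.
-/

set_option autoImplicit false
set_option linter.style.haveILetI false
set_option linter.unusedSectionVars false

universe u

namespace CfsgLib.Components.GlaubermanAut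

open Subgroup

variable {G : Type u} [Group G] [Finite G]

/-- The automorphisms fixing the Sylow subgroup `S` pointwise. -/
def fixAut (S : Sylow 2 G) : Subgroup (MulAut G) where
  carrier := {φ | ∀ s : G, s ∈ S → φ s = s}
  one_mem' := fun _ _ => rfl
  mul_mem' := fun {a b} ha hb s hs => by rw [MulAut.mul_apply, hb s hs, ha s hs]
  inv_mem' := fun {a} ha s hs => by
    conv_lhs => rw [← ha s hs]
    exact a.symm_apply_apply s

theorem eq_one_of_two (hO : ∀ N : Subgroup G, N.Normal → Odd (Nat.card N) → N = ⊥) (S : Sylow 2 G)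
    {C : Subgroup (MulAut G)} (hC : ∀ φ ∈ C, ∀ s : G, s ∈ S → φ s = s)
    (u d : C) {e : C} (he : e = d⁻¹ * u * d * u⁻¹) (he2 : IsPGroup 2 (zpowers e)) : e = 1 := by
  haveI : Fact (Nat.Prime 2) := ⟨Nat.prime_two⟩
  haveI : Finite (SemidirectProduct G C C.subtype) := Finite.of_equiv _ SemidirectProduct.equivProd.symm
  let ι : G →* SemidirectProduct G C C.subtype := SemidirectProduct.inl
  let ρ : C →* SemidirectProduct G C C.subtype := SemidirectProduct.inr
  have hι : Function.Injective ι := SemidirectProduct.inl_injective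
  haveI hK : ι.range.Normal := by
    rw [show ι.range = (SemidirectProduct.rightHom : SemidirectProduct G C C.subtype →* C).ker from
      SemidirectProduct.range_inl_eq_ker_rightHom]
    infer_instance
  let eK : G ≃* ι.range := MonoidHom.ofInjective hι
  have hP : IsPGroup 2 ((S : Subgroup G).map eK.toMonoidHom) := S.2.map _
  have hidx : ¬ 2 ∣ ((S : Subgroup G).map eK.toMonoidHom).index := by
    rw [Subgroup.index_map_of_bijective (f := eK.toMonoidHom) eK.bijective]; exact S.not_dvd_index
  let P : Sylow 2 ι.range := hP.toSylow hidx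
  have hcen : ∀ c : C, ρ c ∈ centralizer (((P : Subgroup ι.range).map ι.range.subtype :
      Subgroup (SemidirectProduct G C C.subtype)) : Set (SemidirectProduct G C C.subtype)) := by
    intro c
    refine mem_centralizer_iff.2 ?_
    rintro _ ⟨k, hk, rfl⟩
    have hk' : ∃ x ∈ S, eK x = k := by simpa [P] using hk
    obtain ⟨s, hs, rfl⟩ := hk'
    show ι s * ρ c = ρ c * ι s
    have h1 : ι ((C.subtype c) s) = ρ c * ι s * ρ c⁻¹ := SemidirectProduct.inl_aut _ _
    have h2 : (C.subtype c) s = s := hC c.1 c.2 s hs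
    rw [h2, map_inv] at h1
    exact eq_mul_inv_iff_mul_eq.1 h1
  have hcore : (Cfsg.oddCore ι.range).map ι.range.subtype = ⊥ := by
    have hb : (Cfsg.oddCore ι.range).map eK.symm.toMonoidHom = ⊥ := by
      haveI : (Cfsg.oddCore ι.range).Normal := inferInstance
      refine hO _ (Subgroup.Normal.map inferInstance _ eK.symm.surjective) ?_
      rw [card_map_of_injective (f := eK.symm.toMonoidHom) eK.symm.injective]
      exact Nat.coprime_two_right.1 (CfsgLib.Solvable.Cores.coprime_card_pPrimeCore 2)
    rw [(map_eq_bot_iff_of_injective _ eK.symm.injective).1 hb, Subgroup.map_bot]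
  refine Subtype.ext (MulEquiv.ext fun g => ?_)
  have h := GlaubermanSylow.comm_mem_oddCore ι.range P (u := ρ u) (d := ρ d) (e := ρ e)
    (by rw [he, map_mul, map_mul, map_mul, map_inv, map_inv]) (hcen u) (hcen d)
    (by rw [← MonoidHom.map_zpowers]; exact he2.map ρ) (k := ι g) ⟨g, rfl⟩
  rw [hcore, mem_bot, mul_inv_eq_one] at h
  have h1 : ι ((C.subtype e) g) = ρ e * ι g * ρ e⁻¹ := SemidirectProduct.inl_aut _ _
  rw [map_inv, h] at h1
  exact hι h1

theorem comm_of_mem (hO : ∀ N : Subgroup G, N.Normal → Odd (Nat.card N) → N = ⊥) (S : Sylow 2 G)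
    {C : Subgroup (MulAut G)} (hC : ∀ φ ∈ C, ∀ s : G, s ∈ S → φ s = s) (T : Sylow 2 C) :
    (∀ a b : T, a * b = b * a) ∧
      normalizer (T : Set C) ≤ centralizer (T : Set C) := by
  have hpow : ∀ e ∈ (T : Subgroup C), IsPGroup 2 (zpowers e) := fun e he =>
    T.2.to_le (zpowers_le.2 he)
  constructor
  · intro a b
    have h := eq_one_of_two hO S hC (a : C) (b : C) (e := (b : C)⁻¹ * a * b * (a : C)⁻¹) rfl
      (hpow _ (mul_mem (mul_mem (mul_mem (inv_mem b.2) a.2) b.2) (inv_mem a.2)))
    refine Subtype.ext ?_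
    rw [mul_inv_eq_one, mul_assoc, inv_mul_eq_iff_eq_mul] at h
    exact h
  · intro n hn
    refine mem_centralizer_iff.2 fun t ht => ?_
    have h := eq_one_of_two hO S hC t n⁻¹ (e := n⁻¹⁻¹ * t * n⁻¹ * t⁻¹) rfl
      (hpow _ (mul_mem (by rw [inv_inv]; exact (mem_normalizer_iff.1 hn t).1 ht) (inv_mem ht)))
    rw [inv_inv, mul_inv_eq_one, mul_inv_eq_iff_eq_mul] at h
    exact h.symm

/-- Glauberman: the automorphisms fixing a Sylow `2`-subgroup. -/
theorem main (hO : ∀ N : Subgroup G, N.Normal → Odd (Nat.card N) → N = ⊥) (S : Sylow 2 G)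
    {C : Subgroup (MulAut G)} (hC : ∀ φ ∈ C, ∀ s : G, s ∈ S → φ s = s)
    (hFT : ∀ (H : Type u) [Group H] [Finite H], Odd (Nat.card H) → Group.IsSolvable H) :
    (∀ T : Sylow 2 C, (∀ a b : T, a * b = b * a) ∧
      ∃ N : Subgroup C, N.Normal ∧ IsComplement' N (T : Subgroup C)) ∧ Group.IsSolvable C := by
  haveI : Fact (Nat.Prime 2) := ⟨Nat.prime_two⟩
  have key : ∀ T : Sylow 2 C, (∀ a b : T, a * b = b * a) ∧
      ∃ N : Subgroup C, N.Normal ∧ IsComplement' N (T : Subgroup C) := fun T => by
    obtain ⟨h1, h2⟩ := comm_of_mem hO S hC T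
    exact ⟨h1, _, inferInstance, MonoidHom.ker_transferSylow_isComplement' T h2⟩
  refine ⟨key, ?_⟩
  obtain ⟨T⟩ := (inferInstance : Nonempty (Sylow 2 C))
  obtain ⟨-, N, hN, hc⟩ := key T
  have hodd : Odd (Nat.card N) := by
    rw [← hc.index_eq_card]
    exact Nat.not_even_iff_odd.1 fun h => T.not_dvd_index (even_iff_two_dvd.1 h)
  haveI := hFT N hodd
  haveI : Group.IsSolvable (C ⧸ N) := by
    haveI : Group.IsNilpotent (C ⧸ N) := by
      refine IsPGroup.isNilpotent (p := 2) (IsPGroup.of_card (n := (Nat.card (T : Subgroup C)).factorization 2) ?_)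
      rw [← Subgroup.index, hc.symm.index_eq_card]
      obtain ⟨n, hn⟩ := IsPGroup.iff_card.1 T.2
      rw [hn, Nat.prime_two.factorization_pow, Finsupp.single_eq_same]
    infer_instance
  exact solvable_of_ker_le_range N.subtype (QuotientGroup.mk' N)
    (by rw [QuotientGroup.ker_mk', Subgroup.range_subtype])

/-- The automorphisms stabilising `S`. -/
def stabAut (S : Sylow 2 G) : Subgroup (MulAut G) where
  carrier := {φ | ∀ s : G, φ s ∈ (S : Subgroup G) ↔ s ∈ (S : Subgroup G)}
  one_mem' := fun _ => Iff.rfl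
  mul_mem' := fun {a b} ha hb s => by rw [MulAut.mul_apply, ha, hb]
  inv_mem' := fun {a} ha s => by
    rw [← ha]
    show a (a.symm s) ∈ (S : Subgroup G) ↔ _
    rw [a.apply_symm_apply]

/-- Restriction to `S`. -/
def res (S : Sylow 2 G) : stabAut S →* MulAut S where
  toFun φ :=
    { toFun := fun s => ⟨(φ : MulAut G) s, (φ.2 s).2 s.2⟩
      invFun := fun s => ⟨(φ : MulAut G).symm s, by
        rw [← φ.2, MulEquiv.apply_symm_apply]; exact s.2⟩
      left_inv := fun s => Subtype.ext ((φ : MulAut G).symm_apply_apply s)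
      right_inv := fun s => Subtype.ext ((φ : MulAut G).apply_symm_apply s)
      map_mul' := fun s t => Subtype.ext (map_mul (φ : MulAut G) (s : G) t) }
  map_one' := MulEquiv.ext fun _ => rfl
  map_mul' _ _ := MulEquiv.ext fun _ => rfl

/-- The outer automorphism group is solvable if the action on `S` is. -/
theorem out_solvable (hO : ∀ N : Subgroup G, N.Normal → Odd (Nat.card N) → N = ⊥) (S : Sylow 2 G)
    (hFT : ∀ (H : Type u) [Group H] [Finite H], Odd (Nat.card H) → Group.IsSolvable H)
    (hr : Group.IsSolvable (res S).range) : Group.IsSolvable (Cfsg.Out G) := by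
  haveI : Fact (Nat.Prime 2) := ⟨Nat.prime_two⟩
  haveI := (main hO S (C := fixAut S) (fun φ hφ => hφ) hFT).2
  haveI := hr
  have hker : (res S).ker ≤ (fixAut S).subgroupOf (stabAut S) := by
    intro φ hφ s hs
    have h1 := DFunLike.congr_fun (MonoidHom.mem_ker.1 hφ) (⟨s, hs⟩ : (S : Subgroup G))
    exact congrArg Subtype.val h1
  haveI : Group.IsSolvable (res S).ker := solvable_of_solvable_injective
    (f := ((stabAut S).subtype.comp (res S).ker.subtype).codRestrict (fixAut S) fun φ => hker φ.2)
    (fun a b h => Subtype.ext (Subtype.ext (congrArg (fun t : fixAut S => (t : MulAut G)) h)))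
  haveI : Group.IsSolvable (stabAut S) := solvable_of_ker_le_range (res S).ker.subtype (res S).rangeRestrict
    (by rw [MonoidHom.ker_rangeRestrict, Subgroup.range_subtype])
  refine solvable_of_surjective (f := (QuotientGroup.mk' (Cfsg.Inn G)).comp (stabAut S).subtype) ?_
  intro x
  obtain ⟨φ, rfl⟩ := QuotientGroup.mk_surjective x
  let S' : Sylow 2 G := S.mapSurjective (f := φ.toMonoidHom) φ.surjective
  obtain ⟨g, hg⟩ := MulAction.exists_smul_eq G S' S
  refine ⟨⟨MulAut.conj g * φ, fun s => ?_⟩, ?_⟩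
  · have hS : (S : Subgroup G) = ((S : Subgroup G).map φ.toMonoidHom).map (MulAut.conj g).toMonoidHom := by
      conv_lhs => rw [← hg, Sylow.coe_subgroup_smul]
      rfl
    rw [MulAut.mul_apply]
    show _ ∈ (S : Subgroup G) ↔ _
    conv_lhs => rw [hS]
    rw [Subgroup.map_map]
    exact Subgroup.mem_map_iff_mem ((MulAut.conj g).injective.comp φ.injective) (x := s)
  · show (QuotientGroup.mk (MulAut.conj g * φ) : Cfsg.Out G) = QuotientGroup.mk φ
    rw [QuotientGroup.mk_mul, (QuotientGroup.eq_one_iff (MulAut.conj g)).2 (MonoidHom.mem_range.2 ⟨g, rfl⟩), one_mul]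

variable {X : Type u} [Group X] [Finite X]

/-- The Frattini quotient of a 2-group generated by three elements. -/
theorem quot_bound (hX : IsPGroup 2 X) (a b c : X) (hgen : closure ({a, b, c} : Set X) = ⊤) :
    Nat.card (MulAut (X ⧸ frattini X)) ∣ 168 ∧
      (closure ({a, b} : Set X) = ⊤ → Nat.card (MulAut (X ⧸ frattini X)) ∣ 6) := by
  haveI : Fact (Nat.Prime 2) := ⟨Nat.prime_two⟩
  classical
  have hcomm := CfsgLib.PGroup.Frattini.quotient_mul_comm hX
  have hexp := CfsgLib.PGroup.Frattini.quotient_pow_eq_one hX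
  -- the order of the quotient
  have hspan : ∀ (k : ℕ) (v : Fin k → X), closure (Set.range v) = ⊤ → Nat.card (X ⧸ frattini X) ≤ 2 ^ k := by
    intro k v hv
    letI : CommGroup (X ⧸ frattini X) := { (inferInstance : Group (X ⧸ frattini X)) with mul_comm := hcomm }
    let f : (Fin k → Fin 2) → X ⧸ frattini X := fun e => ∏ i, (QuotientGroup.mk (v i)) ^ (e i : ℕ)
    have hpow : ∀ (y : X ⧸ frattini X) (i j : Fin 2), y ^ (i : ℕ) * y ^ (j : ℕ) = y ^ ((i + j : Fin 2) : ℕ) := by
      intro y i j
      have h2 : y * y = 1 := by rw [← sq]; exact hexp y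
      fin_cases i <;> fin_cases j <;> simp [h2]
    have hsurj : Function.Surjective f := by
      have hle : closure (Set.range v) ≤
          { carrier := {x : X | ∃ e, f e = QuotientGroup.mk x}
            one_mem' := ⟨0, by simp [f]⟩
            mul_mem' := fun {x y} ⟨e, he⟩ ⟨e', he'⟩ => ⟨e + e', by
              rw [QuotientGroup.mk_mul, ← he, ← he', ← Finset.prod_mul_distrib]
              exact Finset.prod_congr rfl fun i _ => (hpow _ _ _).symm⟩
            inv_mem' := fun {x} ⟨e, he⟩ => ⟨e, by
              rw [QuotientGroup.mk_inv, ← he, eq_inv_iff_mul_eq_one, ← sq, hexp]⟩ } := by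
        rw [closure_le]
        rintro _ ⟨i, rfl⟩
        exact ⟨Pi.single i 1, by
          simp only [f]
          rw [Finset.prod_eq_single i (fun j _ hj => by simp [hj]) (by simp)]; simp⟩
      intro y
      obtain ⟨x, rfl⟩ := QuotientGroup.mk_surjective y
      exact hle (hv.ge (mem_top x))
    have := Nat.card_le_card_of_surjective f hsurj
    simpa using this
  obtain ⟨r, hr⟩ := IsPGroup.iff_card.1 (hX.to_quotient (frattini X))
  -- automorphisms act freely on generating tuples
  have hdvd : Nat.card (MulAut (X ⧸ frattini X)) ∣ ∏ i ∈ Finset.range r, (2 ^ r - 2 ^ i) := by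
    rw [← CfsgLib.PGroup.Frattini.card_generating_tuples hr hcomm hexp]
    letI : MulAction (MulAut (X ⧸ frattini X))
        {s : Fin r → X ⧸ frattini X // closure (Set.range s) = ⊤} :=
      { smul := fun φ s => ⟨fun i => φ (s.1 i), by
          rw [show Set.range (fun i => φ (s.1 i)) = φ.toMonoidHom '' Set.range s.1 by rw [← Set.range_comp]; rfl,
            ← MonoidHom.map_closure, s.2, map_top_of_surjective (f := φ.toMonoidHom) φ.surjective]⟩
        one_smul := fun _ => rfl
        mul_smul := fun _ _ _ => rfl }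
    refine CfsgLib.PGroup.Frattini.card_dvd_of_free fun φ s hs => MulEquiv.ext fun y => ?_
    have hle : closure (Set.range s.1) ≤ φ.toMonoidHom.eqLocus (MonoidHom.id _) := by
      rw [closure_le]
      rintro _ ⟨i, rfl⟩
      exact congrArg (fun t : {s : Fin r → X ⧸ frattini X // closure (Set.range s) = ⊤} => t.1 i) hs
    exact hle (s.2.ge (mem_top y))
  have hr3 : r ≤ 3 := by
    have := hspan 3 ![a, b, c] (by rw [← hgen]; congr 1; simp [Matrix.range_cons]; aesop)
    rw [hr] at this
    exact (Nat.pow_le_pow_iff_right one_lt_two).1 this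
  refine ⟨hdvd.trans ?_, fun h2 => hdvd.trans ?_⟩
  · interval_cases r <;> decide
  · have : r ≤ 2 := by
      have := hspan 2 ![a, b] (by rw [← h2]; congr 1; simp [Matrix.range_cons]; aesop)
      rw [hr] at this
      exact (Nat.pow_le_pow_iff_right one_lt_two).1 this
    interval_cases r <;> decide

/-- A subgroup of `Aut S` is solvable as soon as its image on `S/Φ(S)` is. -/
theorem solvable_of_quot (hX : IsPGroup 2 X) (H : Subgroup (MulAut X))
    (h : Group.IsSolvable (H.map CfsgLib.PGroup.FrattiniAct.quot)) : Group.IsSolvable H := by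
  haveI : Fact (Nat.Prime 2) := ⟨Nat.prime_two⟩
  haveI := h
  have hk : IsPGroup 2 (CfsgLib.PGroup.FrattiniAct.quot (X := X)).ker := by
    rw [IsPGroup.iff_orderOf]
    rintro ⟨α, hα⟩
    rw [Subgroup.orderOf_mk]
    have hn := (orderOf_pos α).ne'
    refine ⟨(orderOf α).factorization 2, ?_⟩
    have h1 : α ^ (2 ^ (orderOf α).factorization 2) = 1 := by
      refine CfsgLib.PGroup.FrattiniAct.eq_one_of_quot hX ?_ (by rw [map_pow, MonoidHom.mem_ker.1 hα, one_pow])
      rw [orderOf_pow_of_dvd (pow_ne_zero _ two_ne_zero) (Nat.ordProj_dvd _ _)]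
      exact (Nat.coprime_ordCompl Nat.prime_two hn).symm
    exact Nat.dvd_antisymm (orderOf_dvd_of_pow_eq_one h1) (Nat.ordProj_dvd _ _)
  haveI := hk.isNilpotent
  let f := (CfsgLib.PGroup.FrattiniAct.quot (X := X)).subgroupMap H
  haveI : Group.IsSolvable f.ker := by
    refine solvable_of_solvable_injective
      (f := (H.subtype.comp f.ker.subtype).codRestrict
        (CfsgLib.PGroup.FrattiniAct.quot (X := X)).ker fun φ => ?_) ?_
    · exact MonoidHom.mem_ker.2 (congrArg Subtype.val (MonoidHom.mem_ker.1 φ.2))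
    · exact fun a b h => Subtype.ext (Subtype.ext (congrArg
        (fun t : (CfsgLib.PGroup.FrattiniAct.quot (X := X)).ker => (t : MulAut X)) h))
  exact solvable_of_ker_le_range f.ker.subtype f (by rw [Subgroup.range_subtype])

/-- Two generators: `Aut S` is solvable. -/
theorem aut_solvable_of_two (hX : IsPGroup 2 X) (a b : X) (h : closure ({a, b} : Set X) = ⊤) :
    Group.IsSolvable (MulAut X) := by
  have hb := (quot_bound hX a b b (by rw [← h]; congr 1; simp)).2 h
  haveI : Group.IsSolvable ((⊤ : Subgroup (MulAut X)).map CfsgLib.PGroup.FrattiniAct.quot) := by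
    refine CfsgLib.Recognition.DerangementClasses.solvable_of_few ?_
    refine (Finset.card_le_card (Nat.primeFactors_mono ((Subgroup.card_subgroup_dvd_card _).trans hb) (by norm_num))).trans ?_
    rw [show (6 : ℕ) = 2 * 3 from rfl, Nat.primeFactors_mul (by norm_num) (by norm_num),
      Nat.prime_two.primeFactors, Nat.prime_three.primeFactors]
    rfl
  haveI := solvable_of_quot hX ⊤ inferInstance
  exact solvable_of_surjective (f := (⊤ : Subgroup (MulAut X)).subtype) fun x => ⟨⟨x, mem_top x⟩, rfl⟩

/-- Three generators and a nontrivial odd automorphism induced inside `G`. -/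
theorem range_solvable_of_three (S : Sylow 2 G) (a b c : S) (hgen : closure ({a, b, c} : Set S) = ⊤)
    {g : G} (hg : g ∈ normalizer ((S : Subgroup G) : Set G)) (hodd : Odd (orderOf g))
    (hgc : g ∉ centralizer ((S : Subgroup G) : Set G)) : Group.IsSolvable (res S).range := by
  haveI : Fact (Nat.Prime 2) := ⟨Nat.prime_two⟩
  refine solvable_of_quot S.2 _ ?_
  have hb := (quot_bound S.2 a b c hgen).1
  set q := CfsgLib.PGroup.FrattiniAct.quot (X := ↥(S : Subgroup G))
  set H := (res S).range.map q
  -- the part induced by `N_G(S)`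
  let ν : normalizer ((S : Subgroup G) : Set G) →* stabAut S :=
    (MulAut.conj.comp (normalizer ((S : Subgroup G) : Set G)).subtype).codRestrict (stabAut S)
      fun n s => (mem_normalizer_iff.1 n.2 s).symm
  let μ := q.comp ((res S).comp ν)
  set A := μ.range
  have hAH : A ≤ H := by rintro _ ⟨n, rfl⟩; exact ⟨_, ⟨ν n, rfl⟩, rfl⟩
  have hAn : (A.subgroupOf H).Normal := by
    refine ⟨fun x hx y => ?_⟩
    obtain ⟨y, ⟨_, ⟨φ, rfl⟩, rfl⟩⟩ := y
    obtain ⟨n, hn⟩ := hx
    have hN : (φ : MulAut G) n ∈ normalizer ((S : Subgroup G) : Set G) := by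
      refine mem_normalizer_iff.2 fun s => ?_
      have h1 := mem_normalizer_iff.1 n.2 ((φ : MulAut G).symm s)
      rw [← φ.2, ← φ.2 (_ * _ * _)] at h1
      simpa using h1
    refine ⟨⟨_, hN⟩, ?_⟩
    change μ n = (x : MulAut _) at hn
    show μ ⟨_, hN⟩ = q (res S φ) * (x : MulAut _) * (q (res S φ))⁻¹
    rw [← hn]
    show q (res S (ν ⟨_, hN⟩)) = q (res S φ) * q (res S (ν n)) * (q (res S φ))⁻¹
    rw [← map_inv, ← map_mul, ← map_mul, ← map_inv, ← map_mul, ← map_mul]
    congr 2
    refine Subtype.ext (MulEquiv.ext fun s => ?_)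
    show (φ : MulAut G) n * s * ((φ : MulAut G) n)⁻¹ = (φ : MulAut G) ((n : G) * (φ : MulAut G).symm s * (n : G)⁻¹)
    rw [map_mul, map_mul, map_inv, MulEquiv.apply_symm_apply]
  have hAodd : Odd (Nat.card A) := by
    rw [← Subgroup.index_ker, Nat.odd_iff, ← Nat.not_even_iff, even_iff_two_dvd]
    intro h2
    have hle : (S : Subgroup G).subgroupOf _ ≤ μ.ker := by
      intro n hn
      refine MulEquiv.ext fun v => ?_
      obtain ⟨s, rfl⟩ := QuotientGroup.mk_surjective v
      show q (res S (ν n)) (s : ↥(S : Subgroup G) ⧸ frattini ↥(S : Subgroup G)) = _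
      rw [CfsgLib.PGroup.FrattiniAct.quot_mk]
      rw [show res S (ν n) s = (⟨(n : G), hn⟩ : (S : Subgroup G)) * s * (⟨(n : G), hn⟩ : (S : Subgroup G))⁻¹ from
        Subtype.ext rfl, QuotientGroup.mk_mul, QuotientGroup.mk_mul,
        CfsgLib.PGroup.Frattini.quotient_mul_comm S.2 (QuotientGroup.mk _), QuotientGroup.mk_inv, mul_inv_cancel_right]
      rfl
    exact (S.subtype Subgroup.le_normalizer).not_dvd_index (h2.trans (index_dvd_of_le hle))
  have hA1 : A ≠ ⊥ := by
    intro hA
    refine hgc (mem_centralizer_iff.2 fun s hs => ?_)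
    have h1 : res S (ν ⟨g, hg⟩) = 1 := by
      refine CfsgLib.PGroup.FrattiniAct.eq_one_of_quot S.2 ?_ ?_
      · refine Nat.Coprime.coprime_dvd_left ?_ (Nat.coprime_two_right.2 hodd)
        refine (orderOf_map_dvd ((res S).comp ν) _).trans ?_
        rw [Subgroup.orderOf_mk]
      · have : μ ⟨g, hg⟩ ∈ A := ⟨_, rfl⟩
        rw [hA, mem_bot] at this
        exact this
    have := congrArg Subtype.val (DFunLike.congr_fun h1 ⟨s, hs⟩)
    exact (mul_inv_eq_iff_eq_mul.1 this).symm
  -- orders
  have hH : Nat.card H ∣ 168 := (card_subgroup_dvd_card H).trans hb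
  haveI := hAn
  have hcardA : Nat.card (A.subgroupOf H) = Nat.card A := Nat.card_congr (subgroupOfEquivOfLe hAH).toEquiv
  have hmul := card_eq_card_quotient_mul_card_subgroup (A.subgroupOf H)
  rw [hcardA] at hmul
  have hfac : (168 : ℕ).primeFactors = {2, 3, 7} := by
    rw [show (168 : ℕ) = 2 ^ 3 * 3 * 7 from rfl, Nat.primeFactors_mul (by norm_num) (by norm_num),
      Nat.primeFactors_mul (by norm_num) (by norm_num), Nat.primeFactors_prime_pow (by norm_num) Nat.prime_two,
      Nat.prime_three.primeFactors, (show Nat.Prime 7 by norm_num).primeFactors]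
    rfl
  have hAd : Nat.card A ∣ 168 := (Dvd.intro_left _ hmul.symm).trans hH
  haveI : Group.IsSolvable (A.subgroupOf H) := by
    refine CfsgLib.Recognition.DerangementClasses.solvable_of_few ?_
    rw [hcardA]
    refine (Finset.card_le_card (show (Nat.card A).primeFactors ⊆ {3, 7} from fun r hr => ?_)).trans (by decide)
    have hr1 := Nat.primeFactors_mono hAd (by norm_num) hr
    rw [hfac] at hr1
    simp only [Finset.mem_insert, Finset.mem_singleton] at hr1 ⊢
    rcases hr1 with rfl | h | h
    · exact absurd (even_iff_two_dvd.2 (Nat.dvd_of_mem_primeFactors hr)) (Nat.not_even_iff_odd.2 hAodd)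
    · exact Or.inl h
    · exact Or.inr h
  haveI : Group.IsSolvable (H ⧸ A.subgroupOf H) := by
    refine CfsgLib.Recognition.DerangementClasses.solvable_of_few ?_
    by_contra hc
    push Not at hc
    have hQd : Nat.card (H ⧸ A.subgroupOf H) ∣ 168 := (Dvd.intro _ hmul.symm).trans hH
    have hsub := Nat.primeFactors_mono hQd (by norm_num)
    rw [hfac] at hsub
    have heq := Finset.eq_of_subset_of_card_le hsub (le_trans (by decide) hc)
    obtain ⟨r, hr, hrA⟩ := Nat.exists_prime_and_dvd (n := Nat.card A) fun e => hA1 (card_eq_one.1 e)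
    have hr' := Nat.primeFactors_mono hAd (by norm_num) (Nat.mem_primeFactors.2 ⟨hr, hrA, Nat.card_pos.ne'⟩)
    rw [hfac, ← heq] at hr'
    have hrr : r * r ∣ 168 := (hmul ▸ Nat.mul_dvd_mul (Nat.dvd_of_mem_primeFactors hr') hrA).trans hH
    rw [heq] at hr'
    simp only [Finset.mem_insert, Finset.mem_singleton] at hr'
    rcases hr' with rfl | rfl | rfl
    · exact Nat.not_even_iff_odd.2 hAodd (even_iff_two_dvd.2 hrA)
    · norm_num at hrr
    · norm_num at hrr
  exact solvable_of_ker_le_range (A.subgroupOf H).subtype (QuotientGroup.mk' (A.subgroupOf H))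
    (by rw [QuotientGroup.ker_mk', Subgroup.range_subtype])

end CfsgLib.Components.GlaubermanAut
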