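import Cfsg.Agent.Lib.Components.PermuteComponents

/-!
Cores of centralisers of `p`-subgroups in a group with trivial `p'`-core: action on the components.
-/

set_option autoImplicit false
set_option linter.style.haveILetI false
set_option linter.unusedSectionVars false

namespace CfsgLib.Components.LocalCore

open Subgroup CfsgLib.Solvable CfsgLib.Components.PermuteComponents
open scoped commutatorElement

variable {G : Type*} [Group G] [Finite G] {p : ℕ} [hp : Fact p.Prime]

/-- A `p'`-subgroup of `C(R)` normalised by `C(R)` centralises every normal `p`-subgroup. -/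
theorem le_centralizer_pGroup {R Q : Subgroup G} (hR : IsPGroup p R)
    (hQ : (Nat.card Q).Coprime p) (hQR : Q ≤ centralizer (R : Set G))
    (hn : centralizer (R : Set G) ≤ normalizer (Q : Set G)) (V : Subgroup G) [V.Normal]
    (hV : IsPGroup p V) : Q ≤ centralizer (V : Set G) := by
  intro g hg
  refine mem_centralizer_of_prod hR hV (by rw [normalizer_eq_top]; exact le_top)
    (hQ.coprime_dvd_left (Q.orderOf_dvd_natCard hg)) (by rw [normalizer_eq_top]; exact mem_top _)
    (hQR hg) (mem_centralizer_iff.mpr fun w hw => ?_)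
  have hwn := hn hw.2
  have hc : ⁅w, g⁆ ∈ V ⊓ Q := by
    refine ⟨?_, ?_⟩
    · rw [commutatorElement_def]
      have hwV : w ∈ V := hw.1
      have := (show V.Normal from inferInstance).conj_mem _ (inv_mem hwV) g
      simpa [mul_assoc] using mul_mem hwV this
    · rw [commutatorElement_def]
      exact Q.mul_mem ((mem_normalizer_iff.mp hwn g).mp hg) (Q.inv_mem hg)
  rw [inf_eq_bot_of_pGroup_coprime hV hQ, mem_bot, commutatorElement_eq_one_iff_mul_comm] at hc
  exact hc

/-- Such a subgroup lies in the core of `C(R Z(E))`. -/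
theorem le_core_bigCentralizer (hO : Cfsg.pPrimeCore p G = ⊥) {R Q : Subgroup G}
    (hR : IsPGroup p R) (hQ : (Nat.card Q).Coprime p) (hQR : Q ≤ centralizer (R : Set G))
    (hn : centralizer (R : Set G) ≤ normalizer (Q : Set G)) :
    Q ≤ (Cfsg.pPrimeCore p ↥(bigCentralizer R)).map (bigCentralizer R).subtype := by
  have hle : Q ≤ bigCentralizer R :=
    le_inf hQR (le_centralizer_pGroup hR hQ hQR hn (layerCenter G) (isPGroup_layerCenter hO))
  haveI : (Q.subgroupOf (bigCentralizer R)).Normal :=
    (normal_subgroupOf_iff_le_normalizer hle).mpr (inf_le_left.trans hn)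
  have h : Q.subgroupOf (bigCentralizer R) ≤ Cfsg.pPrimeCore p ↥(bigCentralizer R) :=
    Cores.le_pPrimeCore (by rwa [Nat.card_congr (subgroupOfEquivOfLe hle).toEquiv])
  intro g hg
  exact ⟨⟨g, hle hg⟩, h hg, rfl⟩

theorem core_le_coreLayer (D : Subgroup G) :
    (Cfsg.pPrimeCore p ↥D).map D.subtype ≤ coreLayer p D := by
  rw [coreLayer_eq]
  exact Subgroup.map_mono le_sup_right

/-- Such a subgroup normalises every component. -/
theorem le_normalizer_component (hO : Cfsg.pPrimeCore p G = ⊥) {R Q : Subgroup G}
    (hR : IsPGroup p R) (hQ : (Nat.card Q).Coprime p) (hQR : Q ≤ centralizer (R : Set G))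
    (hn : centralizer (R : Set G) ≤ normalizer (Q : Set G)) {L : Subgroup G}
    (hL : Cfsg.IsComponent L) : Q ≤ normalizer (L : Set G) :=
  (le_core_bigCentralizer hO hR hQ hQR hn).trans ((core_le_coreLayer _).trans
    (coreLayer_le_normalizer_component hO hR hL))

/-- A component with trivial intersection with `O_{p'}` is not inside a `p'`-group. -/
theorem not_le_of_coprime (hO : Cfsg.pPrimeCore p G = ⊥) {L Q : Subgroup G}
    (hL : Cfsg.IsComponent L) (hQ : (Nat.card Q).Coprime p) : ¬ L ≤ Q := fun h =>
  hp.out.coprime_iff_not_dvd.mp hQ.symm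
    ((component_dvd_card_of_pPrimeCore_eq_bot hO hL).trans (card_dvd_of_le h))

/-- The iterated product `l · xlx⁻¹ ⋯ x^(n-1) l x^(1-n)`. -/
def conjProd (x l : G) : ℕ → G
  | 0 => 1
  | n + 1 => l * (x * conjProd x l n * x⁻¹)

theorem conjProd_mem_centralizer {x : G} {L : Subgroup G} (n : ℕ)
    (hcomm : ∀ i, 1 ≤ i → i < n → L.map (MulAut.conj (x ^ i)).toMonoidHom ≤ centralizer (L : Set G)) :
    ∀ m i, 1 ≤ i → i + m ≤ n → ∀ l ∈ L, x ^ i * conjProd x l m * (x ^ i)⁻¹ ∈ centralizer (L : Set G) := by
  intro m
  induction m with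
  | zero => intro i _ _ l _; simp [conjProd]
  | succ m ih =>
    intro i hi him l hl
    have e : x ^ i * conjProd x l (m + 1) * (x ^ i)⁻¹ =
        (x ^ i * l * (x ^ i)⁻¹) * (x ^ (i + 1) * conjProd x l m * (x ^ (i + 1))⁻¹) := by
      simp only [conjProd, pow_succ]; group
    rw [e]
    exact mul_mem (hcomm i hi (by omega) ⟨l, hl, rfl⟩) (ih (i + 1) (by omega) (by omega) l hl)

theorem core_centralizes_component (hO : Cfsg.pPrimeCore p G = ⊥) {x : G} (hx : orderOf x = p)
    {L : Subgroup G} (hL : Cfsg.IsComponent L) (hne : ⁅L, zpowers x⁆ ≠ L) :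
    ⁅L, Cfsg.centralizerPPrimeCore p x⁆ = ⊥ := by
  set C := centralizer ({x} : Set G) with hC
  set Q := Cfsg.centralizerPPrimeCore p x with hQdef
  have hxR : IsPGroup p (zpowers x) := IsPGroup.of_card (n := 1) (by rw [Nat.card_zpowers, hx, pow_one])
  have hCR : centralizer ((zpowers x : Subgroup G) : Set G) = C := by
    rw [zpowers_eq_closure, centralizer_closure]
  have hQC : Q ≤ C := map_subtype_le _
  have hQcop : (Nat.card Q).Coprime p := by
    rw [hQdef, Cfsg.centralizerPPrimeCore, card_map_of_injective (subtype_injective _)]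
    exact Cores.coprime_card_pPrimeCore p
  have hCQ : C ≤ normalizer (Q : Set G) := fun g hg =>
    map_subtype_normal_of_characteristic (Subgroup.le_normalizer hg)
  have hQL : Q ≤ normalizer (L : Set G) :=
    le_normalizer_component hO hxR hQcop (hCR.symm ▸ hQC) (hCR.symm ▸ hCQ) hL
  by_cases hxL : x ∈ normalizer (L : Set G)
  · -- `x` centralises `L`
    set M := ⁅L, zpowers x⁆ with hM
    have hML : M ≤ L := commutator_le_left_of_le_normalizer (zpowers_le.mpr hxL)
    haveI hMn : (M.subgroupOf L).Normal :=
      (normal_subgroupOf_iff_le_normalizer hML).mpr (normalizer_commutator_ge_left _ _)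
    have hMc : M ≤ centralizer (L : Set G) := by
      rcases IsQuasisimple.normal_le_center_or_top hL.2 (M.subgroupOf L) with h | h
      · exact fun m hm => mem_centralizer_iff.mpr fun l hl =>
          congrArg Subtype.val (mem_center_iff.mp
            (h (show (⟨m, hML hm⟩ : L) ∈ M.subgroupOf L from hm)) ⟨l, hl⟩)
      · exact absurd (le_antisymm hML (subgroupOf_eq_top.mp h)) hne
    have hLx : L ≤ C := by
      have h := commutator_eq_bot_of_perfect (X := zpowers x) hL.2.1 (by
        rw [commutator_eq_bot_iff_le_centralizer, commutator_comm]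
        exact hMc)
      rw [commutator_comm, commutator_eq_bot_iff_le_centralizer, hCR] at h
      exact h
    have hn : L ≤ normalizer (Q : Set G) := hLx.trans hCQ
    exact (IsComponent.le_or_commutator_eq_bot_of_le_normalizer hL hn).resolve_left
      (not_le_of_coprime hO hL hQcop)
  · -- the conjugates of `L` under `x` are distinct
    have hpow : ∀ i, 1 ≤ i → i < p →
        L.map (MulAut.conj (x ^ i)).toMonoidHom ≤ centralizer (L : Set G) := by
      intro i hi hip
      refine IsComponent.le_centralizer_of_ne (IsComponent.conj hL _) hL fun h => hxL ?_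
      refine mem_of_coprime_pows (m := i) (n := p)
        (Nat.Coprime.symm (hp.out.coprime_iff_not_dvd.mpr fun hd =>
          absurd (Nat.le_of_dvd (by omega) hd) (by omega)))
        (mem_normalizer_iff_map_conj_eq.mpr h) ?_
      rw [← hx, pow_orderOf_eq_one]; exact one_mem _
    set n := p
    have hcen := conjProd_mem_centralizer n hpow
    -- the diagonal map
    have hfirst : ∀ l ∈ L, ∀ m, m + 1 ≤ n → x * conjProd x l m * x⁻¹ ∈ centralizer (L : Set G) := by
      intro l hl m hm
      have := hcen m 1 le_rfl (by omega) l hl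
      simpa using this
    have hhom : ∀ m ≤ n, ∀ a ∈ L, ∀ b ∈ L,
        conjProd x (a * b) m = conjProd x a m * conjProd x b m := by
      intro m
      induction m with
      | zero => intros; simp [conjProd]
      | succ m ih =>
        intro hm a ha b hb
        have hc := mem_centralizer_iff.mp (hfirst a ha m hm) b hb
        simp only [conjProd]
        rw [ih (by omega) a ha b hb]
        calc a * b * (x * (conjProd x a m * conjProd x b m) * x⁻¹)
            = a * (b * (x * conjProd x a m * x⁻¹)) * (x * conjProd x b m * x⁻¹) := by group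
          _ = a * ((x * conjProd x a m * x⁻¹) * b) * (x * conjProd x b m * x⁻¹) := by rw [hc]
          _ = _ := by group
    have hshift : ∀ (l : G) (m : ℕ),
        conjProd x l (m + 1) = conjProd x l m * (x ^ m * l * (x ^ m)⁻¹) := by
      intro l m
      induction m with
      | zero => simp [conjProd]
      | succ m ih =>
        show l * (x * conjProd x l (m + 1) * x⁻¹) = _
        conv_lhs => rw [ih]
        rw [conjProd, pow_succ']
        group
    have hxn : x ^ n = 1 := by rw [← hx]; exact pow_orderOf_eq_one x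
    obtain ⟨k, hk⟩ : ∃ k, n = k + 1 := ⟨p - 1, (Nat.succ_pred_eq_of_pos hp.out.pos).symm⟩
    let d : L →* G := MonoidHom.mk' (fun l => conjProd x (l : G) n)
      fun a b => hhom n le_rfl a a.2 b b.2
    have hdC : ∀ l : L, d l ∈ C := by
      intro l
      have h1 : conjProd x (l : G) n * (l : G) = (l : G) * conjProd x (l : G) n := by
        rw [hk, conjProd]
        have hc := mem_centralizer_iff.mp (hfirst l l.2 k (by omega)) (l : G) l.2
        rw [mul_assoc, ← hc]
      have h2 := hshift (l : G) n
      rw [hxn, one_mul, inv_one, mul_one, conjProd, h1] at h2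
      have h3 := mul_left_cancel h2
      rw [hC, mem_centralizer_singleton_iff]
      show conjProd x (l : G) n * x = x * conjProd x (l : G) n
      conv_lhs => rw [← h3]
      group
    have hker : ∀ l : L, d l = 1 → (l : G) ∈ centralizer (L : Set G) := by
      intro l hl
      change conjProd x (l : G) n = 1 at hl
      rw [hk, conjProd, mul_eq_one_iff_eq_inv] at hl
      rw [hl]
      exact inv_mem (hfirst l l.2 k (by omega))
    let M : Subgroup L := Q.comap d
    haveI hMn : M.Normal := ⟨fun m hm l => by
      show d (l * m * l⁻¹) ∈ Q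
      rw [map_mul, map_mul, map_inv]
      exact (mem_normalizer_iff.mp (hCQ (hdC l)) (d m)).mp hm⟩
    have hgL : ∀ g ∈ Q, ∀ l (hl : l ∈ L), ∃ h : ⁅g, l⁆ ∈ L, (⟨⁅g, l⁆, h⟩ : L) ∈ M := by
      intro g hg l hl
      have hgl : g * l * g⁻¹ ∈ L := (mem_normalizer_iff.mp (hQL hg) l).mp hl
      refine ⟨by rw [commutatorElement_def]; exact mul_mem hgl (inv_mem hl), ?_⟩
      have hconj : ∀ m, conjProd x (g * l * g⁻¹) m = g * conjProd x l m * g⁻¹ := by
        intro m
        induction m with
        | zero => simp [conjProd]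
        | succ m ih =>
          have hgx : Commute g x := mem_centralizer_singleton_iff.mp (hQC hg)
          simp only [conjProd]
          rw [ih]
          calc g * l * g⁻¹ * (x * (g * conjProd x l m * g⁻¹) * x⁻¹)
              = g * l * g⁻¹ * ((x * g) * conjProd x l m * (x * g)⁻¹) := by group
            _ = g * l * g⁻¹ * ((g * x) * conjProd x l m * (g * x)⁻¹) := by rw [hgx.eq]
            _ = _ := by group
      show d ⟨⁅g, l⁆, _⟩ ∈ Q
      have e : (⟨⁅g, l⁆, by rw [commutatorElement_def]; exact mul_mem hgl (inv_mem hl)⟩ : L) =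
          ⟨g * l * g⁻¹, hgl⟩ * ⟨l, hl⟩⁻¹ := Subtype.ext (by simp [commutatorElement_def])
      rw [e, map_mul, map_inv]
      show conjProd x (g * l * g⁻¹) n * (d ⟨l, hl⟩)⁻¹ ∈ Q
      rw [hconj, mul_assoc, mul_assoc]
      refine mul_mem hg ?_
      have := (mem_normalizer_iff.mp (hCQ (hdC ⟨l, hl⟩)) g⁻¹).mp (inv_mem hg)
      simpa [d, mul_assoc] using this
    rcases IsQuasisimple.normal_le_center_or_top hL.2 M with h | h
    · refine commutator_eq_bot_of_perfect hL.2.1 ?_ |> fun e => by rwa [commutator_comm]
      rw [commutator_eq_bot_iff_le_centralizer, commutator_le]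
      intro g hg l hl
      obtain ⟨hgl, hM⟩ := hgL g hg l hl
      exact mem_centralizer_iff.mpr fun z hz =>
        congrArg Subtype.val (mem_center_iff.mp (h hM) ⟨z, hz⟩)
    · exfalso
      obtain ⟨y, hyL, hyp, hyZ⟩ := exists_pElement hO hL
      have hyQ : d ⟨y, hyL⟩ ∈ Q := by
        have : (⟨y, hyL⟩ : L) ∈ M := h ▸ mem_top _
        exact this
      obtain ⟨j, hj⟩ := hyp ⟨y, mem_zpowers y⟩
      have hj' : y ^ p ^ j = 1 := by simpa using congrArg Subtype.val hj
      have hd1 : orderOf (d ⟨y, hyL⟩) ∣ p ^ j := orderOf_dvd_of_pow_eq_one (by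
        rw [← map_pow, show (⟨y, hyL⟩ : L) ^ p ^ j = 1 from Subtype.ext (by simpa using hj'),
          map_one])
      have h1 := orderOf_eq_one_iff.mp (Nat.Coprime.eq_one_of_dvd
        ((hQcop.pow_right j).symm.coprime_dvd_left hd1) (Q.orderOf_dvd_natCard hyQ))
      have hyc := hker ⟨y, hyL⟩ h1
      refine hyZ ⟨IsComponent.le_layer hL hyL, ?_⟩
      suffices hs : Cfsg.layer G ≤ centralizer {y} from
        mem_centralizer_iff.mpr fun z hz => mem_centralizer_singleton_iff.mp (hs hz)
      rw [layer_le_iff]
      intro K hK z hz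
      rw [mem_centralizer_singleton_iff]
      by_cases hKL : K = L
      · subst hKL
        exact mem_centralizer_iff.mp hyc z hz
      · exact mem_centralizer_iff.mp (IsComponent.le_centralizer_of_ne hL hK (Ne.symm hKL) hyL) z hz

end CfsgLib.Components.LocalCore
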