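import Cfsg.Agent.Lib.Components.BenderOvergroup
import Cfsg.Agent.Lib.KGroups.CharP

/-!
Two maximal subgroups each containing the generalized Fitting subgroup of the other.
-/

set_option autoImplicit false

namespace CfsgLib.Components.MutualOvergroup

open scoped commutatorElement
open Subgroup CfsgLib.KGroups CfsgLib.Solvable CfsgLib.Components.Bender CfsgLib.Components.BenderOvergroup

universe u

variable {G : Type u} [Group G] [Finite G] {M N : Subgroup G}

theorem fitIn_le_genIn (A : Subgroup G) : fitIn A ≤ genIn A :=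
  Subgroup.map_mono fittingSubgroup_le_generalizedFittingSubgroup

theorem coreIn_le_genIn (q : ℕ) [Fact q.Prime] (A : Subgroup G) : coreIn q A ≤ genIn A :=
  (coreIn_le_fitIn q A).trans (fitIn_le_genIn A)

theorem layerIn_le_genIn (A : Subgroup G) : layerIn A ≤ genIn A :=
  Subgroup.map_mono layer_le_generalizedFittingSubgroup

structure Mutual (M N : Subgroup G) : Prop where
  uM : IsUniq M
  uN : IsUniq N
  hMN : genIn M ≤ N
  hNM : genIn N ≤ M
  ne : ¬ (M ≤ N ∧ N ≤ M)

theorem Mutual.symm (h : Mutual M N) : Mutual N M :=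
  ⟨h.uN, h.uM, h.hNM, h.hMN, fun e => h.ne ⟨e.2, e.1⟩⟩

theorem Mutual.data (h : Mutual M N) : Data M (genIn M) :=
  ⟨h.uM, le_rfl, by rw [Subgroup.subgroupOf_self]; exact Subgroup.IsSubnormal.top, inf_le_left⟩

theorem Mutual.core_eq_bot (h : Mutual M N) {p : ℕ} [Fact p.Prime] (hp : coreIn p M = ⊥) : coreIn p N = ⊥ := by
  have h1 := part_a h.data h.hMN (q := p) (fun hd => dvd_card_fitting_iff.mp hd hp)
  rwa [inf_eq_left.mpr ((coreIn_le_genIn p N).trans h.hNM)] at h1

theorem Mutual.mem_centralizer (h : Mutual M N) {p : ℕ} [Fact p.Prime] {g : G} (hg : g ∈ genIn M)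
    (ho : (orderOf g).Coprime p) : g ∈ centralizer (coreIn p N : Set G) := by
  refine mem_centralizer_iff.mpr fun x hx => ?_
  by_cases hp : coreIn p M = ⊥
  · have hx' : x ∈ coreIn p N := hx
    rw [h.core_eq_bot hp, mem_bot] at hx'
    simp [hx']
  · obtain ⟨a, ha, rfl⟩ := hg
    refine part_b h.data h.hMN (dvd_card_fitting_iff.mpr hp) hx (y := ⟨a, ha⟩)
      (Subgroup.subset_closure ?_)
    show (orderOf (⟨a, ha⟩ : Cfsg.generalizedFittingSubgroup ↥M)).Coprime p
    rwa [Subgroup.orderOf_mk, ← Subgroup.orderOf_coe]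

theorem Mutual.layer_le (h : Mutual M N) (p : ℕ) [Fact p.Prime] :
    layerIn M ≤ centralizer (coreIn p N : Set G) :=
  haveI : Group.IsPerfect ↥(Cfsg.layer ↥M) := layer_isPerfect
  le_of_perfect (p := p) (Group.IsPerfect.map (H := Cfsg.layer ↥M) M.subtype)
    fun _ hg ho => h.mem_centralizer (layerIn_le_genIn M hg) ho

theorem Mutual.layer_le_layer (h : Mutual M N) : layerIn N ≤ layerIn M := by
  rw [layerIn, map_le_iff_le_comap, layer_le_iff]
  intro L hL
  have hn : L ≤ normalizer (((layerIn M).subgroupOf N : Subgroup N) : Set N) := by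
    intro l hl
    have hlM : ((l : N) : G) ∈ M := h.hNM (layerIn_le_genIn N ⟨l, IsComponent.le_layer hL hl, rfl⟩)
    refine mem_normalizer_iff.mpr fun x => ?_
    exact mem_normalizer_iff.mp (le_normalizer_layerIn M hlM) (x : G)
  rcases IsComponent.le_or_commutator_eq_bot_of_le_normalizer hL hn with h1 | h1
  · exact h1
  · exfalso
    have hc : ∀ l ∈ L, ((l : N) : G) ∈ fitIn M := by
      intro l hl
      have hlN : ((l : N) : G) ∈ layerIn N := ⟨l, IsComponent.le_layer hL hl, rfl⟩
      refine mem_fitIn_of_centralizes (h.hNM (layerIn_le_genIn N hlN))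
        (fun s hs => ?_) (mem_centralizer_iff.mpr fun e he => ?_)
      · haveI := Fact.mk hs
        exact h.symm.layer_le s hlN
      · exact congrArg Subtype.val (mem_centralizer_iff.mp (commutator_eq_bot_iff_le_centralizer.mp h1 hl)
          ⟨e, h.hMN (layerIn_le_genIn M he)⟩ he)
    refine IsComponent.not_isSolvable hL ?_
    haveI : Group.IsNilpotent ↥(fitIn M) :=
      Group.nilpotent_of_surjective ((Cfsg.fittingSubgroup ↥M).equivMapOfInjective M.subtype M.subtype_injective).toMonoidHom
        (MulEquiv.surjective _)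
    let f : ↥L →* ↥(fitIn M) := (N.subtype.comp L.subtype).codRestrict (fitIn M) fun l => hc l l.2
    exact solvable_of_solvable_injective (f := f) fun a b e =>
      Subtype.ext (Subtype.ext (congrArg (fun z : ↥(fitIn M) => (z : G)) e))

theorem Mutual.no_common (h : Mutual M N) {U : Subgroup G} (hU : U ≠ ⊥) (hM : U ≤ M) (hN : U ≤ N)
    (nM : M ≤ normalizer (U : Set G)) (nN : N ≤ normalizer (U : Set G)) : False :=
  h.ne ⟨nM.trans (h.uN U hU hN nN), nN.trans (h.uM U hU hM nM)⟩

theorem Mutual.layer_eq_bot (h : Mutual M N) : layerIn M = ⊥ := by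
  by_contra hne
  have he := le_antisymm h.symm.layer_le_layer h.layer_le_layer
  exact h.no_common hne (map_subtype_le _) (he ▸ map_subtype_le _) (le_normalizer_layerIn M)
    (he ▸ le_normalizer_layerIn N)

/-- The generators of `O^{r'}`-part of the centraliser of `O^r(F(A))`. -/
def gens (r : ℕ) (A : Subgroup G) : Set G :=
  {g | g ∈ A ∧ (∃ k : ℕ, g ^ r ^ k = 1) ∧ ∀ s : ℕ, s.Prime → s ≠ r → g ∈ centralizer (coreIn s A : Set G)}

theorem le_normalizer_gens (r : ℕ) (A : Subgroup G) : A ≤ normalizer (closure (gens r A) : Set G) := by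
  refine Subgroup.le_normalizer_iff.mpr fun a ha x hx => ?_
  induction hx using Subgroup.closure_induction with
  | mem x hx =>
    obtain ⟨hxA, ⟨k, hk⟩, hc⟩ := hx
    refine Subgroup.subset_closure ⟨mul_mem (mul_mem ha hxA) (inv_mem ha), ⟨k, by rw [conj_pow, hk, mul_one, mul_inv_cancel]⟩,
      fun s hs hsr => mem_centralizer_iff.mpr fun y hy => ?_⟩
    have h1 := mem_centralizer_iff.mp (hc s hs hsr) _
      ((mem_normalizer_iff.mp (le_normalizer_coreIn s A (inv_mem ha)) y).mp hy)
    calc y * (a * x * a⁻¹) = a * ((a⁻¹ * y * a⁻¹⁻¹) * x) * a⁻¹ := by group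
      _ = a * (x * (a⁻¹ * y * a⁻¹⁻¹)) * a⁻¹ := by rw [h1]
      _ = a * x * a⁻¹ * y := by group
  | one => simp
  | mul x y _ _ hx hy =>
    rw [show a * (x * y) * a⁻¹ = (a * x * a⁻¹) * (a * y * a⁻¹) by group]
    exact mul_mem hx hy
  | inv x _ hx =>
    rw [show a * x⁻¹ * a⁻¹ = (a * x * a⁻¹)⁻¹ by group]
    exact inv_mem hx

theorem Mutual.gens_subset (h : Mutual M N) {p r : ℕ} [Fact p.Prime] [Fact r.Prime] (hpr : p ≠ r)
    (hp : coreIn p M ≠ ⊥) : gens r N ⊆ gens r M := by
  rintro g ⟨hgN, ⟨k, hk⟩, hc⟩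
  have hgc : ∀ (s : ℕ) [Fact s.Prime], s ≠ r → g ∈ centralizer (coreIn s M : Set G) := by
    intro s _ hsr
    refine mem_centralizer_iff.mpr fun x hx => ?_
    have hs : s.Prime := Fact.out
    have hxN : x ∈ N := h.hMN (coreIn_le_genIn s M hx)
    -- `⁅g, x⁆` is central in `F(N)`
    have hxc : ∀ t : ℕ, t.Prime → t ≠ s → x ∈ centralizer (coreIn t N : Set G) := fun t ht hts => by
      haveI := Fact.mk ht
      exact h.mem_centralizer (coreIn_le_genIn s M hx) (coprime_of_mem hts.symm (isPGroup_coreIn s M) hx)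
    set c := ⁅g, x⁆ with hc'
    have hcc : ∀ t : ℕ, t.Prime → c ∈ centralizer (coreIn t N : Set G) := by
      intro t ht
      refine mem_centralizer_iff.mpr fun y hy => ?_
      by_cases hts : t = s
      · subst hts
        have hgy : ∀ z ∈ coreIn t N, g * z * g⁻¹ = z := fun z hz => by
          rw [← mem_centralizer_iff.mp (hc t ht hsr) z hz]; group
        have hxy : x⁻¹ * y * x ∈ coreIn t N := by
          have := (mem_normalizer_iff.mp (le_normalizer_coreIn t N (inv_mem hxN)) y).mp hy
          rwa [inv_inv] at this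
        have h1 : g⁻¹ * (x * y * x⁻¹) * g = x * y * x⁻¹ := by
          have hz := (mem_normalizer_iff.mp (le_normalizer_coreIn t N hxN) y).mp hy
          conv_lhs => rw [← hgy _ hz]
          group
        have h2 : c * y * c⁻¹ = y := by
          rw [hc', commutatorElement_def]
          calc g * x * g⁻¹ * x⁻¹ * y * (g * x * g⁻¹ * x⁻¹)⁻¹
              = g * (x * (g⁻¹ * (x⁻¹ * y * x) * g) * x⁻¹) * g⁻¹ := by group
            _ = g * (x * (x⁻¹ * y * x) * x⁻¹) * g⁻¹ := by
                conv_lhs => rw [← hgy _ hxy]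
                group
            _ = g * y * g⁻¹ := by group
            _ = y := hgy y hy
        exact (mul_inv_eq_iff_eq_mul.mp h2).symm
      · have hxy : ∀ z ∈ coreIn t N, x * z * x⁻¹ = z := fun z hz => by
          rw [← mem_centralizer_iff.mp (hxc t ht hts) z hz]; group
        have hgy : g⁻¹ * y * g ∈ coreIn t N := by
          have := (mem_normalizer_iff.mp (le_normalizer_coreIn t N (inv_mem hgN)) y).mp hy
          rwa [inv_inv] at this
        have h2 : c * y * c⁻¹ = y := by
          rw [hc', commutatorElement_def]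
          calc g * x * g⁻¹ * x⁻¹ * y * (g * x * g⁻¹ * x⁻¹)⁻¹
              = g * (x * (g⁻¹ * (x⁻¹ * y * x) * g) * x⁻¹) * g⁻¹ := by group
            _ = g * (x * (g⁻¹ * y * g) * x⁻¹) * g⁻¹ := by
                conv_lhs => rw [← hxy y hy]
                group
            _ = g * (g⁻¹ * y * g) * g⁻¹ := by rw [hxy _ hgy]
            _ = y := by group
        exact (mul_inv_eq_iff_eq_mul.mp h2).symm
    have hcN : c ∈ N := by
      rw [hc', commutatorElement_def]
      exact mul_mem (mul_mem (mul_mem hgN hxN) (inv_mem hgN)) (inv_mem hxN)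
    have hcF : c ∈ fitIn N := mem_fitIn_of_centralizes hcN hcc
      (mem_centralizer_iff.mpr fun e he => by
        have he' : e ∈ layerIn N := he
        rw [h.symm.layer_eq_bot, mem_bot] at he'; simp [he'])
    -- `c` lies in `O_s(N)`
    obtain ⟨c', hc'F, hc'e⟩ := hcF
    obtain ⟨u, v, huv, hcom, ⟨i, hui⟩, hvq⟩ :=
      PGroup.CountPElements.exists_decomp (p := s) (⟨c', hc'F⟩ : Cfsg.fittingSubgroup ↥N)
    set a := ((u : N) : G) with ha
    set b := ((v : N) : G) with hb
    have hab : a * b = c := by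
      rw [ha, hb, ← Subgroup.coe_mul, ← Subgroup.coe_mul, huv]; exact hc'e
    have hcab : Commute a b := congrArg (fun z : Cfsg.fittingSubgroup ↥N => ((z : N) : G)) hcom.eq
    have hao : orderOf a = s ^ i := by rw [ha, Subgroup.orderOf_coe, Subgroup.orderOf_coe, hui]
    have haS : a ∈ coreIn s N :=
      mem_coreIn ⟨u, u.2, rfl⟩ (IsPGroup.of_card (n := i) (by rw [Nat.card_zpowers, hao]))
    have hbx : Commute b x := by
      have hle : zpowers b ≤ centralizer {x} := le_of_parts (M := N) (zpowers_le.mpr ⟨v, v.2, rfl⟩)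
        fun t ht hd y hy => by
          haveI := Fact.mk ht
          have hts : t ≠ s := fun e => hvq (by
            rw [Nat.card_zpowers, hb, Subgroup.orderOf_coe, Subgroup.orderOf_coe, e] at hd
            exact hd)
          rw [mem_centralizer_singleton_iff]
          exact mem_centralizer_iff.mp (hxc t ht hts) y hy.1
      exact mem_centralizer_singleton_iff.mp (hle (mem_zpowers b))
    have hxp : IsPGroup s ↥(zpowers x) := (isPGroup_coreIn s M).to_le (zpowers_le.mpr hx)
    obtain ⟨j, hj⟩ := IsPGroup.to_sup_of_normal_right' hxp (isPGroup_coreIn s N)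
      (zpowers_le.mpr (le_normalizer_coreIn s N hxN))
      ⟨a * x, mul_mem (Subgroup.mem_sup_right haS) (Subgroup.mem_sup_left (mem_zpowers x))⟩
    have hj' : (a * x) ^ s ^ j = 1 := congrArg Subtype.val hj
    obtain ⟨l, hl⟩ := hxp ⟨x, mem_zpowers x⟩
    have hl' : x ^ s ^ l = 1 := congrArg Subtype.val hl
    have hgx : g * x * g⁻¹ = b * (a * x) := by
      rw [← mul_assoc, ← hcab.eq, hab, hc', commutatorElement_def]; group
    have hb1 : b = 1 := by
      refine CharP.eq_one_of_pow_coprime (p := s) (n := orderOf b) ?_ (pow_orderOf_eq_one b) (k := j + l) ?_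
      · rw [hb, Subgroup.orderOf_coe, Subgroup.orderOf_coe]
        exact ((hs.coprime_iff_not_dvd).mpr hvq).symm
      · have h1 : (g * x * g⁻¹) ^ s ^ (j + l) = 1 := by
          rw [conj_pow, pow_add, mul_comm (s ^ j), pow_mul, hl', one_pow]; group
        rwa [hgx, (hcab.symm.mul_right hbx).mul_pow, pow_add s j l, pow_mul (a * x), hj', one_pow, mul_one,
          ← pow_add] at h1
    rw [hb1, mul_one] at hab
    have hgc' : g * c * g⁻¹ = c := by
      rw [← mem_centralizer_iff.mp (hc s hs hsr) c (hab ▸ haS)]; group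
    have hn : ∀ n : ℕ, g ^ n * x * (g ^ n)⁻¹ = c ^ n * x := by
      intro n
      induction n with
      | zero => simp
      | succ n ih =>
        calc g ^ (n + 1) * x * (g ^ (n + 1))⁻¹ = g * (g ^ n * x * (g ^ n)⁻¹) * g⁻¹ := by rw [pow_succ']; group
          _ = (g * c * g⁻¹) ^ n * (g * x * g⁻¹) := by rw [ih, conj_pow]; group
          _ = c ^ n * (c * x) := by rw [hgc', hc', commutatorElement_def]; group
          _ = c ^ (n + 1) * x := by rw [pow_succ, mul_assoc]
    have h1 := hn (r ^ k)
    rw [hk, one_mul, inv_one, mul_one, right_eq_mul] at h1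
    have hcs : c ^ s ^ i = 1 := by
      rw [← hab, ← hao]; exact pow_orderOf_eq_one a
    have hc1 : c = 1 := CharP.eq_one_of_pow_coprime (p := s) (n := r ^ k)
      (Nat.Coprime.pow_left _ ((Nat.coprime_primes (Fact.out : r.Prime) hs).mpr (Ne.symm hsr))) h1 hcs
    rw [hc', commutatorElement_eq_one_iff_mul_comm] at hc1
    exact hc1.symm
  refine ⟨h.uM _ hp (coreIn_le p M) (le_normalizer_coreIn p M)
    (centralizer_le_normalizer _ (hgc p hpr)), ⟨k, hk⟩, fun s hs hsr => ?_⟩
  haveI := Fact.mk hs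
  exact hgc s hsr

theorem Mutual.exists_prime (h : Mutual M N) (hM : M ≠ ⊥) :
    ∃ p : ℕ, p.Prime ∧ IsPGroup p ↥(Cfsg.generalizedFittingSubgroup ↥M) ∧
      IsPGroup p ↥(Cfsg.generalizedFittingSubgroup ↥N) := by
  have hex : ∃ p : ℕ, p.Prime ∧ coreIn p M ≠ ⊥ := by
    by_contra hall
    push Not at hall
    refine hM (le_bot_iff.mp fun x hx => ?_)
    have hF : x ∈ fitIn M := mem_fitIn_of_centralizes hx (fun s hs => mem_centralizer_iff.mpr fun y hy => by
        have hy' : y ∈ coreIn s M := hy
        rw [hall s hs, mem_bot] at hy'; simp [hy'])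
      (mem_centralizer_iff.mpr fun y hy => by
        have hy' : y ∈ layerIn M := hy
        rw [h.layer_eq_bot, mem_bot] at hy'; simp [hy'])
    exact le_of_parts (M := M) (H := fitIn M) (T := ⊥) le_rfl
      (fun s hs _ => inf_le_left.trans (hall s hs).le) hF
  obtain ⟨p, hp, hpM⟩ := hex
  haveI := Fact.mk hp
  have hgen : ∀ {M N : Subgroup G}, Mutual M N → (∀ r : ℕ, r.Prime → r ≠ p → coreIn r M = ⊥) →
      IsPGroup p ↥(Cfsg.generalizedFittingSubgroup ↥M) := by
    intro M N h h0
    have hle : genIn M ≤ coreIn p M := by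
      rw [genIn_eq, h.layer_eq_bot, bot_sup_eq]
      refine le_of_parts le_rfl fun s hs _ => ?_
      rcases eq_or_ne s p with rfl | hsp
      · exact inf_le_left
      · exact inf_le_left.trans ((h0 s hs hsp).le.trans bot_le)
    exact ((isPGroup_coreIn p M).to_le hle).of_equiv
      ((Cfsg.generalizedFittingSubgroup ↥M).equivMapOfInjective M.subtype M.subtype_injective).symm
  by_cases hr : ∃ r : ℕ, r.Prime ∧ r ≠ p ∧ coreIn r M ≠ ⊥
  swap
  · push Not at hr
    exact ⟨p, hp, hgen h hr, hgen h.symm fun r hr' hrp => by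
      haveI := Fact.mk hr'
      exact h.core_eq_bot (hr r hr' hrp)⟩
  exfalso
  obtain ⟨r, hr, hrp, hrM⟩ := hr
  haveI := Fact.mk hr
  have hpN : coreIn p N ≠ ⊥ := fun e => hpM (h.symm.core_eq_bot e)
  have he : gens r N = gens r M :=
    Set.Subset.antisymm (h.gens_subset hrp.symm hpM) (h.symm.gens_subset hrp.symm hpN)
  have hle : coreIn r M ≤ closure (gens r M) := fun g hg => by
    obtain ⟨k, hk⟩ := isPGroup_coreIn r M ⟨g, hg⟩
    refine Subgroup.subset_closure ⟨coreIn_le r M hg, ⟨k, congrArg Subtype.val hk⟩, fun s hs hsr => ?_⟩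
    haveI := Fact.mk hs
    exact coreIn_le_centralizer hsr.symm M hg
  exact h.no_common (fun e => hrM (le_bot_iff.mp (e ▸ hle))) ((closure_le _).mpr fun g hg => hg.1)
    ((closure_le _).mpr fun g hg => (he.symm.subset hg).1) (le_normalizer_gens r M)
    (he ▸ le_normalizer_gens r N)

end CfsgLib.Components.MutualOvergroup
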