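import Cfsg.Prelude.Def_Balance
import Cfsg.Agent.Lib.Components.Constrained
import Cfsg.Agent.Lib.Coprime.Action
import Cfsg.Agent.Lib.Coprime.Pairing

/-!
The core and the `p`-layer of a `p`-local subgroup fix every component of a group with trivial
`p'`-core.
-/

set_option autoImplicit false
set_option linter.style.haveILetI false
set_option linter.unusedSectionVars false

namespace CfsgLib.Components.PermuteComponents

open Subgroup CfsgLib.Solvable
open scoped commutatorElement

variable {G : Type*} [Group G] [Finite G] {p : ℕ} [hp : Fact p.Prime]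

/-- The centre of the layer, inside the group. -/
def layerCenter (G : Type*) [Group G] : Subgroup G :=
  Cfsg.layer G ⊓ centralizer (Cfsg.layer G : Set G)

instance layerCenter_normal : (layerCenter G).Normal :=
  inferInstanceAs (Cfsg.layer G ⊓ centralizer (Cfsg.layer G : Set G)).Normal

theorem isPGroup_layerCenter (hO : Cfsg.pPrimeCore p G = ⊥) : IsPGroup p (layerCenter G) := by
  haveI hc : IsMulCommutative (layerCenter G) :=
    ⟨⟨fun a b => Subtype.ext (mem_centralizer_iff.mp b.2.2 a a.2.1)⟩⟩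
  intro x
  obtain ⟨k, m, hm, hxm⟩ : ∃ k m : ℕ, ¬ p ∣ m ∧ orderOf x = p ^ k * m :=
    Nat.exists_eq_pow_mul_and_not_dvd (orderOf_pos x).ne' p hp.out.ne_one
  refine ⟨k, ?_⟩
  set y := x ^ p ^ k
  have hy : orderOf y ∣ m :=
    orderOf_dvd_of_pow_eq_one (by rw [← pow_mul, ← hxm, pow_orderOf_eq_one])
  haveI : (zpowers y).Normal := ⟨fun z hz g => by
    rw [mul_comm' g z, mul_inv_cancel_right]; exact hz⟩
  have hsn : ((zpowers y).map (layerCenter G).subtype).IsSubnormal :=
    IsSubnormal.map_subtype_normal (Normal.isSubnormal inferInstance) inferInstance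
  have h := le_pPrimeCore_of_subnormal (p := p) hsn (by
    rw [Subgroup.card_map_of_injective (layerCenter G).subtype_injective, Nat.card_zpowers]
    exact Nat.Coprime.coprime_dvd_left hy (hp.out.coprime_iff_not_dvd.mpr hm).symm)
  rw [hO] at h
  exact Subtype.ext (by simpa using mem_bot.mp (h ⟨y, mem_zpowers y, rfl⟩))
where
  mul_comm' {Z : Type _} [Group Z] [IsMulCommutative Z] (a b : Z) : a * b = b * a :=
    IsMulCommutative.is_comm.comm a b

/-- A component has a `p`-element outside the centre of the layer. -/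
theorem exists_pElement (hO : Cfsg.pPrimeCore p G = ⊥) {L : Subgroup G}
    (hL : Cfsg.IsComponent L) :
    ∃ x ∈ L, IsPGroup p (zpowers x) ∧ x ∉ layerCenter G := by
  by_contra hcon
  push Not at hcon
  obtain ⟨P⟩ : Nonempty (Sylow p L) := inferInstance
  have hdvd : p ∣ Nat.card L := component_dvd_card_of_pPrimeCore_eq_bot hO hL
  have hPc : (P : Subgroup L) ≤ center L := fun x hx => mem_center_iff.mpr fun l => by
    have hxZ : (x : G) ∈ layerCenter G := hcon x x.2 (by
      obtain ⟨k, hk⟩ := P.2 ⟨x, hx⟩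
      intro z
      obtain ⟨n, hn⟩ := mem_zpowers_iff.mp z.2
      refine ⟨k, Subtype.ext ?_⟩
      have hk' : (x : G) ^ p ^ k = 1 := by
        simpa using congrArg (fun a : (P : Subgroup L) => ((a : L) : G)) hk
      rw [Subgroup.coe_pow, ← hn, ← zpow_natCast, ← zpow_mul, mul_comm, zpow_mul, zpow_natCast,
        hk', _root_.one_zpow, Subgroup.coe_one])
    exact Subtype.ext (mem_centralizer_iff.mp hxZ.2 l (IsComponent.le_layer hL l.2))
  haveI hPn : (P : Subgroup L).Normal := ⟨fun x hx g => by
    rw [mem_center_iff.mp (hPc hx) g, mul_inv_cancel_right]; exact hx⟩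
  obtain ⟨C, hC⟩ := exists_right_complement'_of_coprime (N := (P : Subgroup L)) P.card_coprime_index
  haveI := hL.2.1
  have hsup : C ⊔ center L = ⊤ := by
    rw [eq_top_iff, ← hC.sup_eq_top]
    exact sup_le (hPc.trans le_sup_right) le_sup_left
  have hCt := eq_top_of_sup_center_of_perfect hsup
  subst hCt
  have hd := hC.disjoint
  rw [disjoint_top] at hd
  exact P.ne_bot_of_dvd_card hdvd hd

/-- The product of the `R`-conjugates of `L`. -/
def orbitJoin (R L : Subgroup G) : Subgroup G :=
  ⨆ r : R, L.map (MulAut.conj (r : G)).toMonoidHom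

theorem le_orbitJoin (R L : Subgroup G) : L ≤ orbitJoin R L := by
  refine le_trans (fun x hx => ?_) (le_iSup _ (1 : R))
  exact ⟨x, hx, by simp⟩

theorem conj_map_conj (a b : G) (L : Subgroup G) :
    (L.map (MulAut.conj b).toMonoidHom).map (MulAut.conj a).toMonoidHom =
      L.map (MulAut.conj (a * b)).toMonoidHom := by
  rw [Subgroup.map_map]; congr 1; ext x; simp [mul_assoc]

theorem orbitJoin_le_layer {R L : Subgroup G} (hL : Cfsg.IsComponent L) :
    orbitJoin R L ≤ Cfsg.layer G :=
  iSup_le fun r => IsComponent.le_layer (IsComponent.conj hL r)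

theorem le_normalizer_orbitJoin (R L : Subgroup G) :
    R ≤ normalizer (orbitJoin R L : Set G) := by
  intro r hr
  refine Coprime.mem_normalizer_of_conj_map_le fun x hx => ?_
  have h : (orbitJoin R L).map (MulAut.conj r).toMonoidHom ≤ orbitJoin R L := by
    rw [orbitJoin, Subgroup.map_iSup]
    refine iSup_le fun s => le_of_eq_of_le (conj_map_conj r s L) ?_
    exact le_iSup (fun r : R => L.map (MulAut.conj (r : G)).toMonoidHom) (⟨r, hr⟩ * s)
  exact h ⟨x, hx, rfl⟩

/-- A `p`-element of the product of an `R`-orbit, central modulo `Z(E)` for `R`. -/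
theorem exists_fixed_pElement (hO : Cfsg.pPrimeCore p G = ⊥) {R : Subgroup G} (hR : IsPGroup p R)
    {L : Subgroup G} (hL : Cfsg.IsComponent L) :
    ∃ y ∈ orbitJoin R L, IsPGroup p (zpowers y) ∧ y ∉ layerCenter G ∧
      ∀ r ∈ R, ⁅y, r⁆ ∈ layerCenter G := by
  set E := orbitJoin R L with hE
  set Y := R ⊔ E with hY
  obtain ⟨S0, hS0⟩ := (hR.comap_of_injective Y.subtype Y.subtype_injective).exists_le_sylow
  haveI hEn : (E.subgroupOf Y).Normal :=
    (normal_subgroupOf_iff_le_normalizer le_sup_right).mpr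
      (sup_le (le_normalizer_orbitJoin R L) Subgroup.le_normalizer)
  set T := ((S0 : Subgroup Y) ⊓ E.subgroupOf Y).map Y.subtype with hT
  have hTE : T ≤ E := by
    rintro _ ⟨t, ht, rfl⟩
    exact ht.2
  have hTp : IsPGroup p T := (S0.isPGroup'.to_le inf_le_left).map _
  have hRT : R ≤ normalizer (T : Set G) := fun r hr => by
    refine Coprime.mem_normalizer_of_conj_map_le fun x hx => ?_
    obtain ⟨t, ht, rfl⟩ := hx
    have hrS : (⟨r, mem_sup_left hr⟩ : Y) ∈ (S0 : Subgroup Y) := hS0 (mem_subgroupOf.mpr hr)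
    exact ⟨⟨r, mem_sup_left hr⟩ * t * ⟨r, mem_sup_left hr⟩⁻¹,
      ⟨(S0 : Subgroup Y).mul_mem ((S0 : Subgroup Y).mul_mem hrS ht.1) ((S0 : Subgroup Y).inv_mem hrS), hEn.conj_mem t ht.2 _⟩, rfl⟩
  have hTZ : ¬ T ≤ layerCenter G := by
    intro hle
    obtain ⟨x, hxL, hxp, hxZ⟩ := exists_pElement hO hL
    refine hxZ ?_
    have hxE : x ∈ E := le_orbitJoin R L hxL
    obtain ⟨S1, hS1⟩ := (hxp.comap_of_injective Y.subtype Y.subtype_injective).exists_le_sylow
    obtain ⟨g, hg⟩ := MulAction.exists_smul_eq Y S1 S0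
    have hx1 : (⟨x, mem_sup_right hxE⟩ : Y) ∈ (S1 : Subgroup Y) := hS1 (mem_comap.mpr (mem_zpowers x))
    have hx2 : g * ⟨x, mem_sup_right hxE⟩ * g⁻¹ ∈ (S0 : Subgroup Y) := by
      rw [← hg, Sylow.coe_subgroup_smul]
      exact ⟨_, hx1, rfl⟩
    have hx3 : (g : G) * x * (g : G)⁻¹ ∈ layerCenter G :=
      hle ⟨_, ⟨hx2, hEn.conj_mem _ hxE g⟩, rfl⟩
    have := layerCenter_normal.conj_mem _ hx3 (g : G)⁻¹
    simpa [mul_assoc] using this
  obtain ⟨T1, hT1T, hT1⟩ := exists_minimal_le_of_wellFoundedLT
    (fun T1 : Subgroup G => T1 ≤ T ∧ R ≤ normalizer (T1 : Set G) ∧ ¬ T1 ≤ layerCenter G) T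
    ⟨le_rfl, hRT, hTZ⟩
  obtain ⟨-, hRT1, hT1Z⟩ := hT1.prop
  have hT1b : T1 ≠ ⊥ := fun h => hT1Z (h ▸ bot_le)
  have hlt := Coprime.commutator_lt_of_isPGroup hR (hTp.to_le hT1T) hRT1 hT1b
  have hcZ : ⁅T1, R⁆ ≤ layerCenter G := by
    by_contra h
    refine hlt.not_ge (hT1.le_of_le ⟨hlt.le.trans hT1T, fun r hr => ?_, h⟩ hlt.le)
    rw [mem_normalizer_iff_map_conj_eq, map_commutator,
      mem_normalizer_iff_map_conj_eq.mp (hRT1 hr),
      mem_normalizer_iff_map_conj_eq.mp (Subgroup.le_normalizer hr)]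
  obtain ⟨y, hy, hyZ⟩ := Set.not_subset.mp hT1Z
  exact ⟨y, hTE (hT1T hy), hTp.to_le (zpowers_le.mpr (hT1T hy)), hyZ,
    fun r hr => hcZ (commutator_mem_commutator hy hr)⟩

/-- The centralizer of `R` and of the centre of the layer. -/
def bigCentralizer (R : Subgroup G) : Subgroup G :=
  centralizer (R : Set G) ⊓ centralizer (layerCenter G : Set G)

theorem normalizer_le_normalizer_bigCentralizer (R : Subgroup G) :
    normalizer (R : Set G) ≤ normalizer (bigCentralizer R : Set G) := by
  intro g hg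
  refine Coprime.mem_normalizer_of_conj_map_le fun d hd => ⟨?_, ?_⟩
  · refine mem_centralizer_iff.mpr fun r hr => ?_
    have hr' : g⁻¹ * r * g ∈ R := by
      have := (mem_normalizer_iff.mp (inv_mem hg) r).mp hr
      simpa using this
    have h := mem_centralizer_iff.mp hd.1 _ hr'
    calc r * (g * d * g⁻¹) = g * ((g⁻¹ * r * g) * d) * g⁻¹ := by group
      _ = g * (d * (g⁻¹ * r * g)) * g⁻¹ := by rw [h]
      _ = g * d * g⁻¹ * r := by group
  · refine mem_centralizer_iff.mpr fun z hz => ?_
    have hz' : g⁻¹ * z * g ∈ layerCenter G := by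
      have := layerCenter_normal.conj_mem z hz g⁻¹
      simpa using this
    have h := mem_centralizer_iff.mp hd.2 _ hz'
    calc z * (g * d * g⁻¹) = g * ((g⁻¹ * z * g) * d) * g⁻¹ := by group
      _ = g * (d * (g⁻¹ * z * g)) * g⁻¹ := by rw [h]
      _ = g * d * g⁻¹ * z := by group

theorem mem_normalizer_bigCentralizer {R : Subgroup G} {y : G}
    (hy : ∀ r ∈ R, ⁅y, r⁆ ∈ layerCenter G) : y ∈ normalizer (bigCentralizer R : Set G) := by
  refine inv_mem_iff.mp (Coprime.mem_normalizer_of_conj_map_le fun d hd => ?_)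
  rw [inv_inv]
  have hz : y⁻¹ * d * y ∈ centralizer (layerCenter G : Set G) :=
    mem_centralizer_iff.mpr fun z hz => by
      have hz' : y * z * y⁻¹ ∈ layerCenter G := layerCenter_normal.conj_mem z hz y
      have h := mem_centralizer_iff.mp hd.2 _ hz'
      calc z * (y⁻¹ * d * y) = y⁻¹ * ((y * z * y⁻¹) * d) * y := by group
        _ = y⁻¹ * (d * (y * z * y⁻¹)) * y := by rw [h]
        _ = y⁻¹ * d * y * z := by group
  refine ⟨mem_centralizer_iff.mpr fun r hr => ?_, hz⟩
  have h1 : d * (y * r * y⁻¹) = y * r * y⁻¹ * d := by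
    have e : y * r * y⁻¹ = ⁅y, r⁆ * r := by rw [commutatorElement_def]; group
    have c1 : Commute d ⁅y, r⁆ := (mem_centralizer_iff.mp hd.2 _ (hy r hr)).symm
    have c2 : Commute d r := (mem_centralizer_iff.mp hd.1 _ hr).symm
    rw [e]
    exact (c1.mul_right c2).eq
  calc r * (y⁻¹ * d * y) = y⁻¹ * ((y * r * y⁻¹) * d) * y := by group
    _ = y⁻¹ * (d * (y * r * y⁻¹)) * y := by rw [h1]
    _ = y⁻¹ * d * y * r := by group

/-- Conjugation by an element of the normaliser, as an automorphism. -/
def conjEquiv {D : Subgroup G} {y : G} (hy : y ∈ normalizer (D : Set G)) : D ≃* D where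
  toFun d := ⟨y * d * y⁻¹, (mem_normalizer_iff.mp hy d).mp d.2⟩
  invFun d := ⟨y⁻¹ * d * y, by
    have := (mem_normalizer_iff.mp (inv_mem hy) d).mp d.2
    simpa using this⟩
  left_inv d := Subtype.ext (by simp [mul_assoc])
  right_inv d := Subtype.ext (by simp [mul_assoc])
  map_mul' a b := Subtype.ext (by simp [mul_assoc])

/-- The preimage of the layer of `D / O_{p'}(D)`, inside the group. -/
def coreLayer (p : ℕ) (D : Subgroup G) : Subgroup G :=
  ((Cfsg.layer (↥D ⧸ Cfsg.pPrimeCore p ↥D)).comap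
    (QuotientGroup.mk' (Cfsg.pPrimeCore p ↥D))).map D.subtype

theorem coreLayer_eq (D : Subgroup G) :
    coreLayer p D = (Cfsg.pLayer p ↥D ⊔ Cfsg.pPrimeCore p ↥D).map D.subtype := by
  rw [coreLayer, ← pLayer_map_eq, comap_map_eq, QuotientGroup.ker_mk']

theorem eq_one_of_commuting_pElements {H : Subgroup G} (hH : (Nat.card H).Coprime p) {a b : G}
    (ha : IsPGroup p (zpowers a)) (hb : IsPGroup p (zpowers b)) (hab : Commute a b)
    (h : a * b ∈ H) : a * b = 1 := by
  obtain ⟨i, hi⟩ := ha ⟨a, mem_zpowers a⟩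
  obtain ⟨j, hj⟩ := hb ⟨b, mem_zpowers b⟩
  have hi' : a ^ p ^ i = 1 := by simpa using congrArg Subtype.val hi
  have hj' : b ^ p ^ j = 1 := by simpa using congrArg Subtype.val hj
  have h1 : orderOf (a * b) ∣ p ^ (i + j) := orderOf_dvd_of_pow_eq_one (by
    rw [hab.mul_pow, pow_add, pow_mul, hi', one_pow, mul_comm, pow_mul, hj', one_pow, one_mul])
  have h2 : orderOf (a * b) ∣ Nat.card H := H.orderOf_dvd_natCard h
  exact orderOf_eq_one_iff.mp
    (Nat.Coprime.eq_one_of_dvd ((hH.pow_right (i + j)).symm.coprime_dvd_left h1) h2)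

/-- The core and the `p`-layer of `C_G(R Z(E))` fix every component of `G`. -/
theorem coreLayer_le_normalizer_component (hO : Cfsg.pPrimeCore p G = ⊥) {R : Subgroup G}
    (hR : IsPGroup p R) {L : Subgroup G} (hL : Cfsg.IsComponent L) :
    coreLayer p (bigCentralizer R) ≤ normalizer (L : Set G) := by
  set D := bigCentralizer R with hD
  set O := (Cfsg.pPrimeCore p ↥D).map D.subtype with hOdef
  have hOc : (Nat.card O).Coprime p := by
    rw [hOdef, Subgroup.card_map_of_injective D.subtype_injective]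
    exact Cores.coprime_card_pPrimeCore p
  obtain ⟨y, hyE, hyp, hyZ, hyR⟩ := exists_fixed_pElement hO hR hL
  have hyD : y ∈ normalizer (D : Set G) := mem_normalizer_bigCentralizer hyR
  let e := conjEquiv hyD
  have heO : (Cfsg.pPrimeCore p ↥D).map e.toMonoidHom = Cfsg.pPrimeCore p ↥D :=
    characteristic_iff_map_eq.mp inferInstance e
  let eb : (↥D ⧸ Cfsg.pPrimeCore p ↥D) ≃* (↥D ⧸ Cfsg.pPrimeCore p ↥D) :=
    QuotientGroup.congr _ _ e heO
  have heb : ∀ d : D, eb (QuotientGroup.mk d) = QuotientGroup.mk (e d) := fun d => rfl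
  -- elements moving the orbit of `L` do not satisfy `[y, g] ∈ O`
  have hmove : ∀ g : D, ⁅y, (g : G)⁆ ∈ O →
      ∃ r ∈ R, L.map (MulAut.conj (g : G)).toMonoidHom = L.map (MulAut.conj r).toMonoidHom := by
    intro g hg
    by_contra hne
    push Not at hne
    set E := orbitJoin R L
    have hgr : ∀ r ∈ R, (g : G) * r = r * g := fun r hr => (mem_centralizer_iff.mp g.2.1 r hr).symm
    have hEg : E.map (MulAut.conj (g : G)).toMonoidHom ≤ centralizer (E : Set G) := by
      rw [le_centralizer_iff]
      refine iSup_le fun s => ?_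
      rw [le_centralizer_iff]
      show E.map (MulAut.conj (g : G)).toMonoidHom ≤ _
      rw [show E = orbitJoin R L from rfl, orbitJoin, Subgroup.map_iSup]
      refine iSup_le fun r => ?_
      rw [conj_map_conj]
      refine IsComponent.le_centralizer_of_ne (IsComponent.conj hL _) (IsComponent.conj hL _) ?_
      intro heq
      refine hne ((r : G)⁻¹ * s) (mul_mem (inv_mem r.2) s.2) ?_
      have h := congrArg (Subgroup.map (MulAut.conj (r : G)⁻¹).toMonoidHom) heq
      rw [conj_map_conj, conj_map_conj, hgr _ r.2, inv_mul_cancel_left] at h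
      exact h
    have hy1 : (g : G) * y * (g : G)⁻¹ ∈ centralizer (E : Set G) := hEg ⟨y, hyE, rfl⟩
    have hp2 : IsPGroup p (zpowers ((g : G) * y⁻¹ * (g : G)⁻¹)) := by
      have h := hyp.map (MulAut.conj (g : G)).toMonoidHom
      rw [MonoidHom.map_zpowers, ← zpowers_inv] at h
      rw [show (g : G) * y⁻¹ * (g : G)⁻¹ = ((g : G) * y * (g : G)⁻¹)⁻¹ by group]
      exact h
    have hcomm : Commute y ((g : G) * y⁻¹ * (g : G)⁻¹) := by
      have h : Commute y ((g : G) * y * (g : G)⁻¹) := mem_centralizer_iff.mp hy1 y hyE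
      rw [show (g : G) * y⁻¹ * (g : G)⁻¹ = ((g : G) * y * (g : G)⁻¹)⁻¹ by group]
      exact h.inv_right
    have h1 : y * ((g : G) * y⁻¹ * (g : G)⁻¹) = 1 :=
      eq_one_of_commuting_pElements hOc hyp hp2 hcomm (by
        simpa [commutatorElement_def, mul_assoc] using hg)
    have h2 : (g : G) * y * (g : G)⁻¹ = y := by
      rw [eq_comm, ← mul_inv_eq_one, ← h1]; group
    rw [h2] at hy1
    refine hyZ ⟨orbitJoin_le_layer hL hyE, mem_centralizer_iff.mpr ?_⟩
    suffices h : Cfsg.layer G ≤ centralizer {y} from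
      fun x hx => mem_centralizer_singleton_iff.mp (h hx)
    rw [layer_le_iff]
    intro K hK x hx
    rw [mem_centralizer_singleton_iff]
    by_cases hKE : ∃ r : R, K = L.map (MulAut.conj (r : G)).toMonoidHom
    · obtain ⟨r, rfl⟩ := hKE
      exact mem_centralizer_iff.mp hy1 x (le_iSup (fun r : R => L.map (MulAut.conj (r : G)).toMonoidHom) r hx)
    · push Not at hKE
      have hle : E ≤ centralizer (K : Set G) := iSup_le fun r =>
        IsComponent.le_centralizer_of_ne (IsComponent.conj hL _) hK (Ne.symm (hKE r))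
      exact mem_centralizer_iff.mp (hle hyE) x hx
  -- elements of the `p`-components
  have hK : ∀ K : Subgroup D, Cfsg.IsPComponent p K → ∀ g ∈ K,
      ∃ r ∈ R, L.map (MulAut.conj (g : G)).toMonoidHom = L.map (MulAut.conj r).toMonoidHom := by
    intro K hK g hgK
    set q := QuotientGroup.mk' (Cfsg.pPrimeCore p ↥D) with hq
    set X := (Cfsg.layer G).subgroupOf D ⊓ (Cfsg.layer (↥D ⧸ Cfsg.pPrimeCore p ↥D)).comap q with hX
    haveI hXn : (X.map q).Normal :=
      Subgroup.Normal.map inferInstance _ (QuotientGroup.mk'_surjective _)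
    rcases IsComponent.le_or_commutator_eq_bot_of_normal hK.2.1 (X.map q) with hle | hc
    · -- inside the layer of `G`
      obtain ⟨x, hx, hxg⟩ := hle (mem_map_of_mem _ hgK)
      have ho : ((x⁻¹ * g : D) : G) ∈ O :=
        mem_map_of_mem _ (QuotientGroup.eq.mp hxg)
      obtain ⟨r, hr, hre⟩ := hmove (x⁻¹ * g) (by
        rw [commutatorElement_def]
        refine mul_mem ?_ (inv_mem ho)
        obtain ⟨o, ho', hoe⟩ := ho
        refine ⟨e o, heO.le (mem_map_of_mem _ ho'), ?_⟩
        show y * (o : G) * y⁻¹ = _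
        rw [show (o : G) = ((x⁻¹ * g : D) : G) from hoe])
      refine ⟨r, hr, ?_⟩
      have hge : (g : G) = (x : G) * ((x⁻¹ * g : D) : G) := by
        rw [← Subgroup.coe_mul, mul_inv_cancel_left]
      rw [hge, ← conj_map_conj, hre]
      exact mem_normalizer_iff_map_conj_eq.mp (layer_le_normalizer (IsComponent.conj hL r) hx.1)
    · -- `[y, K] ≤ O`
      have hcomm : ∀ a ∈ X, ∀ b ∈ K, q a * q b = q b * q a := fun a ha b hb =>
        mem_centralizer_iff.mp (commutator_eq_bot_iff_le_centralizer.mp hc (mem_map_of_mem _ hb))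
          (q a) (mem_map_of_mem _ ha)
      let c : D → D := fun d => e d * d⁻¹
      have hcX : ∀ d ∈ K, c d ∈ X := by
        intro d hd
        refine ⟨?_, ?_⟩
        · show ((c d : D) : G) ∈ Cfsg.layer G
          have hy' : y ∈ Cfsg.layer G := orbitJoin_le_layer hL hyE
          have h : (d : G) * y⁻¹ * (d : G)⁻¹ ∈ Cfsg.layer G :=
            Subgroup.Normal.conj_mem inferInstance _ (inv_mem hy') _
          simpa [c, e, conjEquiv, mul_assoc] using mul_mem hy' h
        · have hdl : q d ∈ Cfsg.layer _ := IsComponent.le_layer hK.2.1 (mem_map_of_mem _ hd)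
          have hel : q (e d) ∈ Cfsg.layer _ := by
            have h := (layer_map_le eb) (mem_map_of_mem eb.toMonoidHom hdl)
            exact h
          show q (c d) ∈ Cfsg.layer _
          rw [map_mul, map_inv]
          exact mul_mem hel (inv_mem hdl)
      -- `d ↦ c d` is a homomorphism modulo the core, with abelian image
      have hKbar : Cfsg.IsComponent (K.map q) := hK.2.1
      have hKbar' : Cfsg.IsComponent ((K.map q).map eb.toMonoidHom) :=
        IsComponent.mapEquiv hKbar eb
      have hsame : (K.map q).map eb.toMonoidHom = K.map q := by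
        by_contra hne
        have hcom' := IsComponent.le_centralizer_of_ne hKbar' hKbar hne
        refine IsComponent.not_le_centralizer hKbar ?_
        rintro _ ⟨a, ha, rfl⟩
        refine mem_centralizer_iff.mpr ?_
        rintro _ ⟨b, hb, rfl⟩
        have h1 : Commute (q (e a)) (q b) :=
          (mem_centralizer_iff.mp (hcom' ⟨q a, mem_map_of_mem _ ha, rfl⟩) (q b)
            (mem_map_of_mem _ hb)).symm
        have h2 : Commute (q (c a)) (q b) := hcomm _ (hcX a ha) b hb
        have h3 := h2.inv_left.mul_left h1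
        have h4 : (q (c a))⁻¹ * q (e a) = q a := by
          rw [← map_inv, ← map_mul]; simp [c]
        rw [h4] at h3
        exact h3.eq.symm
      have hcentral : ∀ d ∈ K, q (c d) ∈ K.map q ∧ ∀ b ∈ K, q (c d) * q b = q b * q (c d) := by
        intro d hd
        refine ⟨?_, hcomm _ (hcX d hd)⟩
        rw [map_mul, map_inv]
        exact mul_mem (hsame.le ⟨q d, mem_map_of_mem _ hd, rfl⟩) (inv_mem (mem_map_of_mem _ hd))
      have hhom : ∀ a ∈ K, ∀ b ∈ K, q (c (a * b)) = q (c a) * q (c b) := by
        intro a ha b hb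
        have h2 : Commute (q a) (q (c b)) := (hcomm _ (hcX b hb) a ha).symm
        have : c (a * b) = c a * (a * c b * a⁻¹) := by simp [c, mul_assoc]
        rw [this, map_mul q (c a) (a * c b * a⁻¹), map_mul q (a * c b) a⁻¹, map_mul q a (c b), map_inv,
          h2.eq, mul_inv_cancel_right]
      let ψ : K →* ↥D ⧸ Cfsg.pPrimeCore p ↥D :=
        MonoidHom.mk' (fun a => q (c a)) fun a b => hhom a a.2 b b.2
      have hψ : ∀ a b : K, Commute (ψ a) (ψ b) := fun a b => by
        obtain ⟨b', hb', hbe⟩ := (hcentral b b.2).1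
        show q (c a) * q (c b) = q (c b) * q (c a)
        rw [← hbe]
        exact (hcentral a a.2).2 b' hb'
      have hker : ⁅(⊤ : Subgroup K), ⊤⁆ ≤ ψ.ker := commutator_le.mpr fun a _ b _ => by
        rw [MonoidHom.mem_ker, map_commutatorElement, commutatorElement_eq_one_iff_mul_comm]
        exact (hψ a b).eq
      have hperf : Group.IsPerfect K := IsPComponent.isPerfect hK
      rw [show ⁅(⊤ : Subgroup K), ⊤⁆ = ⊤ from Group.IsPerfect.commutator_eq_top] at hker
      have hz : q (c g) = 1 := hker (mem_top (⟨g, hgK⟩ : K))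
      refine hmove g ?_
      have h := mem_map_of_mem D.subtype ((QuotientGroup.eq_one_iff _).mp hz)
      convert h using 1
      simp [c, e, conjEquiv, commutatorElement_def, mul_assoc]
  -- a `p'`-element commuting with `R` that permutes like an element of `R` fixes `L`
  have hfix : ∀ g : D, (orderOf (g : G)).Coprime p →
      (∃ r ∈ R, L.map (MulAut.conj (g : G)).toMonoidHom = L.map (MulAut.conj r).toMonoidHom) →
      (g : G) ∈ normalizer (L : Set G) := by
    rintro g hg ⟨r, hr, he⟩
    have hgr : Commute (g : G) r := (mem_centralizer_iff.mp g.2.1 r hr).symm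
    have hpow : ∀ n : ℕ, L.map (MulAut.conj ((g : G) ^ n)).toMonoidHom =
        L.map (MulAut.conj (r ^ n)).toMonoidHom := by
      intro n
      induction n with
      | zero => simp
      | succ n ih =>
        rw [pow_succ', ← conj_map_conj, ih, conj_map_conj, (hgr.pow_right n).eq,
          ← conj_map_conj, he, conj_map_conj, ← pow_succ]
    have hn := hpow (orderOf (g : G))
    rw [pow_orderOf_eq_one] at hn
    have hrn : r ^ orderOf (g : G) ∈ normalizer (L : Set G) := by
      rw [mem_normalizer_iff_map_conj_eq, ← hn]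
      ext x; simp
    obtain ⟨k, hk⟩ := hR ⟨r, hr⟩
    have hk' : r ^ p ^ k = 1 := by simpa using congrArg Subtype.val hk
    have hrL : r ∈ normalizer (L : Set G) := by
      refine mem_of_coprime_pows (hg.pow_right k) hrn ?_
      rw [hk']; exact one_mem _
    rw [mem_normalizer_iff_map_conj_eq, he]
    exact mem_normalizer_iff_map_conj_eq.mp hrL
  rw [coreLayer_eq, Subgroup.map_sup]
  refine sup_le ?_ ?_
  · rw [map_le_iff_le_comap]
    refine sSup_le fun K hKc => ?_
    refine perfect_le_of_pPrime_elements (p := p) (IsPComponent.isPerfect hKc) fun g hg hcop => ?_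
    exact hfix g (by rwa [Subgroup.orderOf_coe]) (hK K hKc g hg)
  · rintro _ ⟨g, hg, rfl⟩
    have hgo : (orderOf (g : G)).Coprime p := by
      rw [Subgroup.orderOf_coe]
      exact Nat.Coprime.coprime_dvd_left ((Cfsg.pPrimeCore p ↥D).orderOf_dvd_natCard hg)
        (Cores.coprime_card_pPrimeCore p)
    refine hfix g hgo (hmove g ?_)
    rw [commutatorElement_def]
    refine mul_mem ⟨e g, heO.le (mem_map_of_mem _ hg), rfl⟩ (inv_mem (mem_map_of_mem _ hg))

/-- Elements of the core and of the `p`-layer of `N` lie in that of `C(R Z(E))`. -/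
theorem coreLayer_le (hO : Cfsg.pPrimeCore p G = ⊥) {R N : Subgroup G} (hR : IsPGroup p R)
    (hRN : R ≤ N) (hN : N ≤ normalizer (R : Set G)) (hCN : centralizer (R : Set G) ≤ N) :
    coreLayer p N ≤ coreLayer p (bigCentralizer R) := by
  set D := bigCentralizer R with hD
  have hDN : D ≤ N := inf_le_left.trans hCN
  haveI hDn : (D.subgroupOf N).Normal :=
    (normal_subgroupOf_iff_le_normalizer hDN).mpr (hN.trans (normalizer_le_normalizer_bigCentralizer R))
  haveI hRn : (R.subgroupOf N).Normal := (normal_subgroupOf_iff_le_normalizer hRN).mpr hN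
  have hRp : IsPGroup p (R.subgroupOf N) := hR.comap_of_injective N.subtype N.subtype_injective
  set W := layerCenter G ⊓ centralizer (R : Set G) with hW
  have hWN : W ≤ N := inf_le_right.trans hCN
  haveI hWn : (W.subgroupOf N).Normal := by
    refine (normal_subgroupOf_iff_le_normalizer hWN).mpr fun g hg => ?_
    rw [mem_normalizer_iff_map_conj_eq, hW, Subgroup.map_inf _ _ _ (MulAut.conj g).injective,
      mem_normalizer_iff_map_conj_eq.mp
        ((normalizer_eq_top (H := layerCenter G)).symm ▸ mem_top g),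
      map_conj_le_of_le_normalizer
        ((hN hg) |> fun h => (normalizer_le_normalizer_centralizer' R h))]
  have hWp : IsPGroup p (W.subgroupOf N) :=
    ((isPGroup_layerCenter hO).to_le inf_le_left).comap_of_injective N.subtype N.subtype_injective
  -- `p'`-elements centralising `R` and `W` lie in `D`
  have hmem : ∀ g : N, (orderOf g).Coprime p → g ∈ centralizer (R.subgroupOf N : Set N) →
      g ∈ centralizer (W.subgroupOf N : Set N) → (g : G) ∈ D := by
    intro g hg h1 h2
    have hgR : (g : G) ∈ centralizer (R : Set G) := mem_centralizer_iff.mpr fun r hr =>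
      congrArg Subtype.val (mem_centralizer_iff.mp h1 ⟨r, hRN hr⟩ (show (⟨r, hRN hr⟩ : N) ∈ R.subgroupOf N from hr))
    refine ⟨hgR, mem_centralizer_of_prod hR (isPGroup_layerCenter hO)
      (by rw [normalizer_eq_top]; exact le_top) (by rwa [Subgroup.orderOf_coe])
      (by rw [normalizer_eq_top]; exact mem_top _) hgR (mem_centralizer_iff.mpr fun w hw => ?_)⟩
    exact congrArg Subtype.val (mem_centralizer_iff.mp h2 ⟨w, hWN hw⟩
      (show (⟨w, hWN hw⟩ : N) ∈ W.subgroupOf N from hw))
  have hcore : ∀ g : N, g ∈ Cfsg.pPrimeCore p ↥N → g ∈ D.subgroupOf N := fun g hg =>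
    hmem g (Nat.Coprime.coprime_dvd_left ((Cfsg.pPrimeCore p ↥N).orderOf_dvd_natCard hg)
      (Cores.coprime_card_pPrimeCore p)) (pPrimeCore_le_centralizer_pGroup hRp hg)
      (pPrimeCore_le_centralizer_pGroup hWp hg)
  let ι : D.subgroupOf N ≃* D := subgroupOfEquivOfLe hDN
  rw [coreLayer_eq N, Subgroup.map_sup]
  refine sup_le ?_ ?_
  · rw [map_le_iff_le_comap]
    refine sSup_le fun K hK => ?_
    have hKD : K ≤ D.subgroupOf N := perfect_le_of_pPrime_elements (p := p)
      (IsPComponent.isPerfect hK) fun g hg hcop =>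
        hmem g hcop (le_centralizer_pGroup_of_pLayer hRp (IsPComponent.le_pLayer hK hg))
          (le_centralizer_pGroup_of_pLayer hWp (IsPComponent.le_pLayer hK hg))
    -- the image of `K` in `D / O_{p'}(D)`
    let j : K →* D :=
      ι.toMonoidHom.comp (inclusion hKD)
    let φ : K →* ↥D ⧸ Cfsg.pPrimeCore p ↥D :=
      (QuotientGroup.mk' (Cfsg.pPrimeCore p ↥D)).comp j
    have hjsn : j.range.IsSubnormal := by
      have : j.range = (K.subgroupOf (D.subgroupOf N)).map ι.toMonoidHom := by
        rw [MonoidHom.range_comp]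
        congr 1
        exact Subgroup.inclusion_range hKD
      rw [this]
      exact hK.1.subgroupOf.map ι.surjective
    have hker : Cfsg.pPrimeCore p ↥K ≤ φ.ker := by
      intro k hk
      rw [MonoidHom.mem_ker]
      refine (QuotientGroup.eq_one_iff _).mpr ?_
      have h1 : (k : N) ∈ Cfsg.pPrimeCore p ↥N := (mem_pPrimeCore_subgroup_iff hK.1 k).mp hk
      exact pPrimeCore_map_le p ι.toMonoidHom ι.surjective
        ⟨⟨k, hKD k.2⟩, (mem_pPrimeCore_subgroup_iff (Normal.isSubnormal hDn) ⟨(k : N), hKD k.2⟩).mpr h1,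
          rfl⟩
    have hrange : φ.range ≤ Cfsg.layer _ := by
      by_cases hb : φ.range = ⊥
      · rw [hb]; exact bot_le
      refine IsComponent.le_layer ⟨?_, ?_⟩
      · rw [MonoidHom.range_comp]
        exact hjsn.map (QuotientGroup.mk'_surjective _)
      · let ψ := QuotientGroup.lift (Cfsg.pPrimeCore p ↥K) φ hker
        have hψ : ψ.range = φ.range := by
          ext x
          constructor
          · rintro ⟨a, rfl⟩
            obtain ⟨b, rfl⟩ := QuotientGroup.mk_surjective a
            exact ⟨b, rfl⟩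
          · rintro ⟨b, rfl⟩
            exact ⟨QuotientGroup.mk b, rfl⟩
        rw [← hψ, MonoidHom.range_eq_map] at hb ⊢
        exact IsQuasisimple.map (IsQuasisimple.of_mulEquiv (IsPComponent.quasisimple_quotient hK)
          Subgroup.topEquiv.symm) ψ hb
    intro g hg
    exact ⟨j ⟨g, hg⟩, hrange ⟨⟨g, hg⟩, rfl⟩, rfl⟩
  · rintro _ ⟨g, hg, rfl⟩
    rw [coreLayer_eq]
    refine ⟨ι ⟨g, hcore g hg⟩, mem_sup_right ?_, rfl⟩
    exact pPrimeCore_map_le p ι.toMonoidHom ι.surjective
      ⟨⟨g, hcore g hg⟩, (mem_pPrimeCore_subgroup_iff (Normal.isSubnormal hDn) ⟨g, hcore g hg⟩).mpr hg,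
        rfl⟩
where
  normalizer_le_normalizer_centralizer' (R : Subgroup G) {g : G}
      (hg : g ∈ normalizer (R : Set G)) : g ∈ normalizer (centralizer (R : Set G) : Set G) := by
    refine Coprime.mem_normalizer_of_conj_map_le fun d hd => mem_centralizer_iff.mpr fun r hr => ?_
    have hr' : g⁻¹ * r * g ∈ R := by
      have := (mem_normalizer_iff.mp (inv_mem hg) r).mp hr
      simpa using this
    have h := mem_centralizer_iff.mp hd _ hr'
    calc r * (g * d * g⁻¹) = g * ((g⁻¹ * r * g) * d) * g⁻¹ := by group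
      _ = g * (d * (g⁻¹ * r * g)) * g⁻¹ := by rw [h]
      _ = g * d * g⁻¹ * r := by group

/-- The preimage of `E(N/O_{p'}(N))` normalises every component. -/
theorem coreLayer_le_normalizer (hO : Cfsg.pPrimeCore p G = ⊥) {R N : Subgroup G}
    (hR : IsPGroup p R) (hRN : R ≤ N) (hN : N ≤ normalizer (R : Set G))
    (hCN : centralizer (R : Set G) ≤ N) {L : Subgroup G} (hL : Cfsg.IsComponent L) :
    coreLayer p N ≤ normalizer (L : Set G) :=
  (coreLayer_le hO hR hRN hN hCN).trans (coreLayer_le_normalizer_component hO hR hL)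

end CfsgLib.Components.PermuteComponents
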