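import Cfsg.Agent.Lib.Components.LBalance
import Cfsg.Prelude.Def_Balance
import Cfsg.Prelude.Def_Transfer

/-!
Components of the centraliser of an involution in a group whose `2`-components are components.
-/

set_option autoImplicit false
set_option linter.style.haveILetI false
set_option linter.unusedSectionVars false
set_option linter.style.show false

namespace CfsgLib.Components.PumpUp

open Subgroup CfsgLib.Solvable
open scoped commutatorElement

variable {G : Type*} [Group G] [Finite G]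

/-- Elements of `A ⊔ B` for commuting `A`, `B`. -/
theorem exists_mul_of_mem_sup_commuting {A B : Subgroup G} (h : B ≤ centralizer (A : Set G)) {g : G}
    (hg : g ∈ A ⊔ B) : ∃ a ∈ A, ∃ b ∈ B, a * b = g :=
  GlaubermanSylow.mem_of_mem_sup_of_normalizes (h.trans (centralizer_le_normalizer _)) hg

theorem conj_map_eq (a : G) (D : Subgroup G) {x : G} :
    x ∈ D.map (MulAut.conj a).toMonoidHom ↔ a⁻¹ * x * a ∈ D := by
  constructor
  · rintro ⟨d, hd, rfl⟩; simpa [mul_assoc] using hd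
  · intro h; exact ⟨_, h, by simp [mul_assoc]⟩

/-- The component of `G` below which a component of `C(a)` sits, `a` an involution. -/
theorem exists_component_of_centralizer {a : G} (ha : a * a = 1) {K : Subgroup G}
    (hKa : K ≤ centralizer ({a} : Set G))
    (hK : Cfsg.IsComponent (K.subgroupOf (centralizer ({a} : Set G)))) (heven : 2 ∣ Nat.card K)
    (hE : Cfsg.pLayer 2 G ≤ Cfsg.layer G) :
    ∃ D : Subgroup G, Cfsg.IsComponent D ∧ ¬ K ≤ centralizer (D : Set G) ∧ (K ≤ D ∨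
      (D.map (MulAut.conj a).toMonoidHom ≠ D ∧
        ∃ φ : D →* G, (∀ d : D, φ d = (d : G) * (a * (d : G) * a⁻¹)) ∧ φ.range = K)) := by
  haveI : Fact (Nat.Prime 2) := ⟨Nat.prime_two⟩
  set C := centralizer ({a} : Set G) with hC
  have hainv : a⁻¹ = a := inv_eq_of_mul_eq_one_right ha
  have hKperf : ⁅K, K⁆ = K := by
    have h := IsComponent.commutator_self hK
    have h2 := congrArg (Subgroup.map C.subtype) h
    rwa [map_commutator, map_subgroupOf_eq_of_le hKa] at h2
  have hKne : ¬ K ≤ centralizer (K : Set G) := by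
    intro h
    refine IsComponent.not_le_centralizer hK fun x hx => mem_centralizer_iff.mpr fun y hy => ?_
    exact Subtype.ext (mem_centralizer_iff.mp (h (mem_subgroupOf.mp hx)) _ (mem_subgroupOf.mp hy))
  -- `K` lies in the layer, by L-balance
  have hKE : K ≤ Cfsg.layer G := by
    have ha2 : IsPGroup 2 (zpowers a) := fun ⟨y, hy⟩ => ⟨1, Subtype.ext (by
      obtain ⟨i, rfl⟩ := mem_zpowers_iff.mp hy
      show (a ^ i) ^ (2 ^ 1) = 1
      rw [pow_one, ← zpow_natCast, ← zpow_mul, mul_comm, zpow_mul, zpow_natCast, pow_two, ha,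
        _root_.one_zpow])⟩
    have h := (LBalance.centralizerLayer_le_localLayer (p := 2) (zpowers a)).trans
      (LBalance.localLayer_le_pLayer ha2 fun L hL =>
        LBalance.localLayer_le_inner_two pPrimeCore_quotient_eq_bot hL (ha2.map _))
    rw [zpowers_eq_closure, centralizer_closure, ← hC] at h
    have hp : Cfsg.IsPComponent 2 (K.subgroupOf C) := IsComponent.isPComponent hK fun hle => by
      have h1 := (card_dvd_of_le hle)
      rw [Nat.card_congr (subgroupOfEquivOfLe hKa).toEquiv] at h1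
      exact Nat.prime_two.coprime_iff_not_dvd.mp
        (Cores.coprime_card_pPrimeCore (G := ↥C) 2).symm (heven.trans h1)
    intro k hk
    exact hE (h ⟨⟨k, hKa hk⟩, IsPComponent.le_pLayer hp (mem_subgroupOf.mpr hk), rfl⟩)
  -- a component not centralised by `K`
  obtain ⟨D, hD, hKD⟩ : ∃ D : Subgroup G, Cfsg.IsComponent D ∧ ¬ K ≤ centralizer (D : Set G) := by
    by_contra hcon
    push Not at hcon
    refine hKne (hKE.trans ?_)
    rw [layer_le_iff]
    intro L hL
    rw [le_centralizer_iff]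
    exact hcon L hL
  refine ⟨D, hD, hKD, ?_⟩
  set D' := D.map (MulAut.conj a).toMonoidHom with hD'
  have hD'c : Cfsg.IsComponent D' := IsComponent.conj hD a
  have hKN : K ≤ normalizer (D : Set G) := hKE.trans (layer_le_normalizer hD)
  have hKN' : K ≤ normalizer (D' : Set G) := hKE.trans (layer_le_normalizer hD'c)
  have hca : ∀ x, x ∈ C ↔ a * x * a⁻¹ = x := fun x => by
    rw [hC, mem_centralizer_singleton_iff, mul_inv_eq_iff_eq_mul, eq_comm]
  have hdich : ∀ N : Subgroup G, N ≤ C → K ≤ normalizer (N : Set G) →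
      K ≤ N ∨ K ≤ centralizer (N : Set G) := by
    intro N hNC hKNn
    have hn : K.subgroupOf C ≤ normalizer (N.subgroupOf C : Set C) := fun x hx =>
      le_normalizer_comap C.subtype (mem_comap.mpr (hKNn (mem_subgroupOf.mp hx)))
    rcases IsComponent.le_or_commutator_eq_bot_of_le_normalizer hK hn with h | h
    · exact Or.inl fun x hx => mem_subgroupOf.mp (h (show (⟨x, hKa hx⟩ : C) ∈ K.subgroupOf C from hx))
    · right
      rw [commutator_eq_bot_iff_le_centralizer] at h
      intro x hx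
      refine mem_centralizer_iff.mpr fun y hy => ?_
      exact congrArg Subtype.val (mem_centralizer_iff.mp
        (h (show (⟨x, hKa hx⟩ : C) ∈ K.subgroupOf C from hx)) ⟨y, hNC hy⟩ hy)
  by_cases heq : D' = D
  · left
    rcases hdich (D ⊓ C) inf_le_right ((le_inf hKN (hKa.trans Subgroup.le_normalizer)).trans
      inf_normalizer_le_normalizer_inf) with h | h
    · exact h.trans inf_le_left
    exfalso
    refine hKD ?_
    have hdec : ∀ k ∈ K, ∃ d ∈ D, ∃ c ∈ centralizer (D : Set G), d * c = k := fun k hk =>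
      exists_mul_of_mem_sup_commuting le_rfl (LBalance.layer_le_inner hD (hKE hk))
    have hfix : ∀ d ∈ D, ∀ c ∈ centralizer (D : Set G), d * c ∈ K →
        d⁻¹ * (a * d * a⁻¹) ∈ centralizer (D : Set G) := by
      intro d hd c hc hdc
      have h1 := (hca _).mp (hKa hdc)
      have haN : a ∈ normalizer (D : Set G) := mem_normalizer_iff_map_conj_eq.mpr heq
      have h2 : a * c * a⁻¹ ∈ centralizer (D : Set G) :=
        (mem_normalizer_iff.mp (normalizer_le_normalizer_centralizer haN) c).mp hc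
      have h3 : a * d * a⁻¹ = d * c * (a * c * a⁻¹)⁻¹ := by rw [eq_mul_inv_iff_mul_eq, ← h1]; group
      rw [h3, mul_assoc d, inv_mul_cancel_left]
      exact mul_mem hc (inv_mem h2)
    have hM : K ≤ (D ⊓ C) ⊔ centralizer (D : Set G) := by
      rw [← hKperf, commutator_le]
      intro k1 hk1 k2 hk2
      obtain ⟨d1, hd1, c1, hc1, rfl⟩ := hdec k1 hk1
      obtain ⟨d2, hd2, c2, hc2, rfl⟩ := hdec k2 hk2
      have hcc : ∀ d ∈ D, ∀ c ∈ centralizer (D : Set G), c * d = d * c := fun d hd c hc =>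
        (mem_centralizer_iff.mp hc d hd).symm
      have e : ⁅d1 * c1, d2 * c2⁆ = ⁅d1, d2⁆ * ⁅c1, c2⁆ := by
        simp only [commutatorElement_def, mul_inv_rev]
        calc d1 * c1 * (d2 * c2) * (c1⁻¹ * d1⁻¹) * (c2⁻¹ * d2⁻¹)
            = d1 * (c1 * d2) * c2 * (c1⁻¹ * d1⁻¹) * c2⁻¹ * d2⁻¹ := by group
          _ = d1 * d2 * (c1 * c2 * c1⁻¹ * d1⁻¹) * c2⁻¹ * d2⁻¹ := by rw [hcc d2 hd2 c1 hc1]; group
          _ = d1 * d2 * d1⁻¹ * ((c1 * c2 * c1⁻¹ * c2⁻¹) * d2⁻¹) := by
            rw [hcc d1⁻¹ (inv_mem hd1) (c1 * c2 * c1⁻¹) (mul_mem (mul_mem hc1 hc2) (inv_mem hc1))]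
            group
          _ = _ := by
            rw [hcc d2⁻¹ (inv_mem hd2) _
              (mul_mem (mul_mem (mul_mem hc1 hc2) (inv_mem hc1)) (inv_mem hc2))]
            group
      rw [e]
      have hd12 : ⁅d1, d2⁆ ∈ D := by
        rw [commutatorElement_def]
        exact mul_mem (mul_mem (mul_mem hd1 hd2) (inv_mem hd1)) (inv_mem hd2)
      refine mul_mem (mem_sup_left ⟨hd12, (hca _).mpr ?_⟩) (mem_sup_right ?_)
      · have hz1 := hfix d1 hd1 c1 hc1 hk1
        have hz2 := hfix d2 hd2 c2 hc2 hk2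
        have haD : ∀ d ∈ D, a * d * a⁻¹ ∈ D := fun d hd =>
          heq ▸ ⟨d, hd, rfl⟩
        have hz1D : d1⁻¹ * (a * d1 * a⁻¹) ∈ D := mul_mem (inv_mem hd1) (haD d1 hd1)
        have hz2D : d2⁻¹ * (a * d2 * a⁻¹) ∈ D := mul_mem (inv_mem hd2) (haD d2 hd2)
        have e2 : a * ⁅d1, d2⁆ * a⁻¹ = ⁅d1 * (d1⁻¹ * (a * d1 * a⁻¹)), d2 * (d2⁻¹ * (a * d2 * a⁻¹))⁆ := by
          rw [mul_inv_cancel_left, mul_inv_cancel_left]
          simp only [commutatorElement_def]; group
        rw [e2]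
        have := congrArg Subtype.val (commutatorElement_mul_center (a := (⟨d1, hd1⟩ : D))
          (b := ⟨d2, hd2⟩) (z := ⟨_, hz1D⟩) (w := ⟨_, hz2D⟩)
          (mem_center_iff.mpr fun y => Subtype.ext (mem_centralizer_iff.mp hz1 y y.2))
          (mem_center_iff.mpr fun y => Subtype.ext (mem_centralizer_iff.mp hz2 y y.2)))
        simpa [commutatorElement_def] using this
      · rw [commutatorElement_def]
        exact mul_mem (mul_mem (mul_mem hc1 hc2) (inv_mem hc1)) (inv_mem hc2)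
    rw [← hKperf, commutator_le]
    intro k1 hk1 k2 hk2
    obtain ⟨d1, hd1, c1, hc1, rfl⟩ := exists_mul_of_mem_sup_commuting
      (le_centralizer_iff.mp (inf_le_left.trans (le_centralizer_iff.mp le_rfl))) (hM hk1)
    obtain ⟨d2, hd2, c2, hc2, rfl⟩ := exists_mul_of_mem_sup_commuting
      (le_centralizer_iff.mp (inf_le_left.trans (le_centralizer_iff.mp le_rfl))) (hM hk2)
    have hd : Commute d1 d2 := by
      have h1 : Commute (d1 * c1) d2 := (mem_centralizer_iff.mp (h hk1) d2 hd2).symm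
      have h2 : Commute c1 d2 := (mem_centralizer_iff.mp hc1 d2 hd2.1).symm
      have h3 := h1.mul_left h2.inv_left
      rwa [mul_inv_cancel_right] at h3
    have hcc : ∀ d ∈ D, ∀ c ∈ centralizer (D : Set G), Commute c d := fun d hd c hc =>
      (mem_centralizer_iff.mp hc d hd).symm
    have e : ⁅d1 * c1, d2 * c2⁆ = ⁅c1, c2⁆ := by
      simp only [commutatorElement_def, mul_inv_rev]
      calc d1 * c1 * (d2 * c2) * (c1⁻¹ * d1⁻¹) * (c2⁻¹ * d2⁻¹)
          = d1 * (c1 * d2) * c2 * c1⁻¹ * d1⁻¹ * c2⁻¹ * d2⁻¹ := by group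
        _ = d1 * d2 * ((c1 * c2 * c1⁻¹) * d1⁻¹) * c2⁻¹ * d2⁻¹ := by
          rw [(hcc d2 hd2.1 c1 hc1).eq]; group
        _ = (d1 * d2) * d1⁻¹ * ((c1 * c2 * c1⁻¹ * c2⁻¹) * d2⁻¹) := by
          rw [(hcc d1⁻¹ (inv_mem hd1.1) _ (mul_mem (mul_mem hc1 hc2) (inv_mem hc1))).eq]; group
        _ = (d2 * d1) * d1⁻¹ * (d2⁻¹ * (c1 * c2 * c1⁻¹ * c2⁻¹)) := by
          rw [hd.eq, (hcc d2⁻¹ (inv_mem hd2.1) _
            (mul_mem (mul_mem (mul_mem hc1 hc2) (inv_mem hc1)) (inv_mem hc2))).eq]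
        _ = _ := by group
    rw [e, commutatorElement_def]
    exact mul_mem (mul_mem (mul_mem hc1 hc2) (inv_mem hc1)) (inv_mem hc2)
  · right
    refine ⟨heq, ?_⟩
    have hcomm : D' ≤ centralizer (D : Set G) := IsComponent.le_centralizer_of_ne hD'c hD heq
    have hc' : ∀ d ∈ D, ∀ e ∈ D, Commute (a * e * a⁻¹) d := fun d hd e he =>
      (mem_centralizer_iff.mp (hcomm ⟨e, he, rfl⟩) d hd).symm
    let φ : D →* G := MonoidHom.mk' (fun d => (d : G) * (a * (d : G) * a⁻¹)) fun x y => by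
      show (x : G) * y * (a * ((x : G) * y) * a⁻¹) = _
      calc (x : G) * y * (a * ((x : G) * y) * a⁻¹)
          = (x : G) * ((y : G) * (a * (x : G) * a⁻¹)) * (a * (y : G) * a⁻¹) := by group
        _ = _ := by rw [← (hc' y y.2 x x.2).eq]; group
    have hsq : ∀ x : G, a * (a * x * a⁻¹) * a⁻¹ = x := fun x => by
      rw [show a * (a * x * a⁻¹) * a⁻¹ = (a * a) * x * (a * a)⁻¹ by group, ha]; group
    have hφC : φ.range ≤ C := by
      rintro _ ⟨d, rfl⟩
      refine (hca _).mpr ?_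
      show a * ((d : G) * (a * (d : G) * a⁻¹)) * a⁻¹ = _
      rw [show a * ((d : G) * (a * (d : G) * a⁻¹)) * a⁻¹ =
        (a * d * a⁻¹) * (a * (a * (d : G) * a⁻¹) * a⁻¹) by group, hsq]
      exact (hc' d d.2 d d.2).eq
    set N := (D ⊔ D') ⊓ C with hN
    have hφN : φ.range ≤ N := le_inf (by
      rintro _ ⟨d, rfl⟩
      exact mul_mem (mem_sup_left d.2) (mem_sup_right ⟨d, d.2, rfl⟩)) hφC
    have hKnN : K ≤ normalizer (N : Set G) :=
      (le_inf ((le_inf hKN hKN').trans (GlaubermanSylow.normalizer_inf_le_normalizer_sup _ _))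
        (hKa.trans Subgroup.le_normalizer)).trans inf_normalizer_le_normalizer_inf
    rcases hdich N inf_le_right hKnN with h | h
    · refine ⟨φ, fun d => rfl, ?_⟩
      have hdec : ∀ x ∈ N, ∃ d : D, ∃ z ∈ centralizer (D : Set G) ⊓ centralizer (D' : Set G),
          x = φ d * z := by
        intro x hx
        obtain ⟨d, hd, f', hf', rfl⟩ := exists_mul_of_mem_sup_commuting hcomm hx.1
        obtain ⟨f, hf, rfl⟩ := hf'
        have h1 := (hca _).mp hx.2
        change a * (d * (a * f * a⁻¹)) * a⁻¹ = d * (a * f * a⁻¹) at h1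
        rw [show a * (d * (a * f * a⁻¹)) * a⁻¹ = (a * d * a⁻¹) * (a * (a * f * a⁻¹) * a⁻¹) by group,
          hsq, (hc' f hf d hd).eq] at h1
        have hz : d⁻¹ * f = (a * f * a⁻¹) * (a * d * a⁻¹)⁻¹ := by
          rw [inv_mul_eq_iff_eq_mul, ← mul_assoc, eq_mul_inv_iff_mul_eq]
          exact h1
        have hzD : d⁻¹ * f ∈ D := mul_mem (inv_mem hd) hf
        have hzD' : d⁻¹ * f ∈ D' := hz ▸ mul_mem ⟨f, hf, rfl⟩ (inv_mem ⟨d, hd, rfl⟩)
        have hzc : d⁻¹ * f ∈ centralizer (D : Set G) := hcomm hzD'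
        have hzc' : d⁻¹ * f ∈ centralizer (D' : Set G) := le_centralizer_iff.mp hcomm hzD
        refine ⟨⟨d, hd⟩, a * (d⁻¹ * f) * a⁻¹, ⟨?_, ?_⟩, ?_⟩
        · refine mem_centralizer_iff.mpr fun y hy => ?_
          have hy' : a * y * a⁻¹ ∈ D' := ⟨y, hy, rfl⟩
          have h2 := congrArg (fun w => a * w * a⁻¹) (mem_centralizer_iff.mp hzc' _ hy')
          rw [show a * ((a * y * a⁻¹) * (d⁻¹ * f)) * a⁻¹ =
              (a * (a * y * a⁻¹) * a⁻¹) * (a * (d⁻¹ * f) * a⁻¹) by group,
            show a * ((d⁻¹ * f) * (a * y * a⁻¹)) * a⁻¹ =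
              (a * (d⁻¹ * f) * a⁻¹) * (a * (a * y * a⁻¹) * a⁻¹) by group, hsq] at h2
          exact h2
        · refine mem_centralizer_iff.mpr ?_
          rintro _ ⟨y, hy, rfl⟩
          have h2 := congrArg (fun w => a * w * a⁻¹) (mem_centralizer_iff.mp hzc y hy)
          show a * y * a⁻¹ * (a * (d⁻¹ * f) * a⁻¹) = a * (d⁻¹ * f) * a⁻¹ * (a * y * a⁻¹)
          rw [show a * y * a⁻¹ * (a * (d⁻¹ * f) * a⁻¹) = a * (y * (d⁻¹ * f)) * a⁻¹ by group, h2]
          group
        · show d * (a * f * a⁻¹) = d * (a * d * a⁻¹) * (a * (d⁻¹ * f) * a⁻¹)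
          group
      have hle : K ≤ φ.range := by
        rw [← hKperf, commutator_le]
        intro k1 hk1 k2 hk2
        obtain ⟨d1, z1, hz1, rfl⟩ := hdec k1 (h hk1)
        obtain ⟨d2, z2, hz2, rfl⟩ := hdec k2 (h hk2)
        have hzc : ∀ z ∈ centralizer (D : Set G) ⊓ centralizer (D' : Set G), ∀ x ∈ D ⊔ D',
            Commute z x := by
          intro z hz x hx
          have hs : D ⊔ D' ≤ centralizer ({z} : Set G) := sup_le
            (fun y hy => mem_centralizer_singleton_iff.mpr (mem_centralizer_iff.mp hz.1 y hy))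
            (fun y hy => mem_centralizer_singleton_iff.mpr (mem_centralizer_iff.mp hz.2 y hy))
          exact (mem_centralizer_singleton_iff.mp (hs hx)).symm
        have hφD : ∀ d : D, φ d ∈ D ⊔ D' := fun d => (hφN ⟨d, rfl⟩).1
        have hzD : ∀ z, ∀ d : D, φ d * z ∈ K → z ∈ D ⊔ D' := fun z d hk => by
          have := mul_mem (inv_mem (hφD d)) (h hk).1
          rwa [inv_mul_cancel_left] at this
        refine ⟨⁅d1, d2⁆, ?_⟩
        rw [map_commutatorElement]
        simp only [commutatorElement_def, mul_inv_rev]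
        have c1 := hzc z1 hz1
        have c2 := hzc z2 hz2
        calc φ d1 * φ d2 * (φ d1)⁻¹ * (φ d2)⁻¹
            = φ d1 * φ d2 * (φ d1)⁻¹ * ((z2 * z2⁻¹) * (φ d2)⁻¹) := by rw [mul_inv_cancel, one_mul]
          _ = φ d1 * (φ d2 * ((φ d1)⁻¹ * z2)) * (z2⁻¹ * (φ d2)⁻¹) := by group
          _ = φ d1 * ((φ d2 * z2) * ((z1 * z1⁻¹) * (φ d1)⁻¹)) * (z2⁻¹ * (φ d2)⁻¹) := by
            rw [← (c2 _ (inv_mem (hφD d1))).eq, mul_inv_cancel, one_mul, mul_assoc (φ d2)]
          _ = φ d1 * (((φ d2 * z2) * z1) * (z1⁻¹ * (φ d1)⁻¹)) * (z2⁻¹ * (φ d2)⁻¹) := by group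
          _ = φ d1 * (z1 * (φ d2 * z2) * (z1⁻¹ * (φ d1)⁻¹)) * (z2⁻¹ * (φ d2)⁻¹) := by
            rw [(c1 _ (mul_mem (hφD d2) (hzD z2 d2 hk2))).eq]
          _ = _ := by group
      refine le_antisymm ?_ hle
      have hq : Cfsg.IsQuasisimple φ.range := by
        rw [MonoidHom.range_eq_map]
        refine IsQuasisimple.map (IsQuasisimple.of_mulEquiv hD.2 Subgroup.topEquiv.symm) φ ?_
        intro hb
        rw [← MonoidHom.range_eq_map] at hb
        refine hKne ((hle.trans hb.le).trans bot_le)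
      have hsn : (K.subgroupOf φ.range).IsSubnormal := hK.1.comap (inclusion hφC)
      rcases IsQuasisimple.subnormal_eq_top_or_le_center hq hsn with h' | h'
      · exact subgroupOf_eq_top.mp h'
      · refine absurd (fun x hx => mem_centralizer_iff.mpr fun y hy => ?_) hKne
        exact congrArg Subtype.val
          (mem_center_iff.mp (h' (show (⟨x, hle hx⟩ : φ.range) ∈ K.subgroupOf φ.range from hx))
            ⟨y, hle hy⟩)
    · exfalso
      refine hKD fun k hk => LBalance.mem_centralizer_of_commutator hD (hKN hk) fun d hd => ?_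
      have h1 := mem_centralizer_iff.mp (h hk) (φ ⟨d, hd⟩) (hφN ⟨⟨d, hd⟩, rfl⟩)
      change d * (a * d * a⁻¹) * k = k * (d * (a * d * a⁻¹)) at h1
      have he : k * d * k⁻¹ ∈ D := (mem_normalizer_iff.mp (hKN hk) d).mp hd
      have he' : k * (a * d * a⁻¹) * k⁻¹ ∈ D' :=
        (mem_normalizer_iff.mp (hKN' hk) _).mp ⟨d, hd, rfl⟩
      have h2 : d⁻¹ * (k * d * k⁻¹) = (a * d * a⁻¹) * (k * (a * d * a⁻¹) * k⁻¹)⁻¹ := by
        rw [inv_mul_eq_iff_eq_mul, ← mul_assoc, eq_mul_inv_iff_mul_eq]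
        calc k * d * k⁻¹ * (k * (a * d * a⁻¹) * k⁻¹) = k * (d * (a * d * a⁻¹)) * k⁻¹ := by group
          _ = _ := by rw [← h1, mul_inv_cancel_right]
      have h3 : d⁻¹ * (k * d * k⁻¹) ∈ centralizer (D : Set G) :=
        hcomm (h2 ▸ mul_mem ⟨d, hd, rfl⟩ (inv_mem he'))
      have h4 := (mem_normalizer_iff.mp
        (normalizer_le_normalizer_centralizer (Subgroup.le_normalizer hd)) _).mp h3
      simpa [commutatorElement_def, mul_assoc] using h4

/-- In the exchanged case the `2`-rank of the centraliser of the component grows. -/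
theorem exists_larger_elementary {a : G} (ha : a * a = 1) {D : Subgroup G}
    (hD : Cfsg.IsComponent D) (hne : D.map (MulAut.conj a).toMonoidHom ≠ D) (φ : D →* G)
    (hφ : ∀ d : D, φ d = (d : G) * (a * (d : G) * a⁻¹)) (hinj : Function.Injective φ)
    (hrk : ¬ Cfsg.PRankLE 2 1 ↥φ.range) {B : Subgroup G}
    (hB : Cfsg.IsElementaryAbelian 2 B) (hBa : B ≤ centralizer ({a} : Set G))
    (hBK : B ≤ centralizer (φ.range : Set G)) :
    ∃ A : Subgroup G, A ≤ centralizer (D : Set G) ∧ IsMulCommutative A ∧ (∀ x ∈ A, x ^ 2 = 1) ∧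
      Nat.card B < Nat.card A := by
  set D' := D.map (MulAut.conj a).toMonoidHom with hD'
  have hD'c : Cfsg.IsComponent D' := IsComponent.conj hD a
  have hsq : ∀ x : G, a * (a * x * a⁻¹) * a⁻¹ = x := fun x => by
    rw [show a * (a * x * a⁻¹) * a⁻¹ = (a * a) * x * (a * a)⁻¹ by group, ha]; group
  have hax : ∀ x ∈ B, a * x * a⁻¹ = x := fun x hx => by
    rw [← mem_centralizer_singleton_iff.mp (hBa hx), mul_inv_cancel_right]
  -- `B` permutes `D` and `D'`
  have hperm : ∀ x ∈ B, D.map (MulAut.conj x).toMonoidHom = D ∨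
      D.map (MulAut.conj x).toMonoidHom = D' := by
    intro x hx
    by_contra hcon
    push Not at hcon
    set D2 := D.map (MulAut.conj x).toMonoidHom with hD2
    have hD2c : Cfsg.IsComponent D2 := IsComponent.conj hD x
    set D3 := D'.map (MulAut.conj x).toMonoidHom with hD3
    have hD3c : Cfsg.IsComponent D3 := IsComponent.conj hD'c x
    have hD3ne : D3 ≠ D := by
      intro h3
      refine hcon.2 ?_
      have h4 := congrArg (Subgroup.map (MulAut.conj a).toMonoidHom) h3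
      rw [hD3, hD', PermuteComponents.conj_map_conj, PermuteComponents.conj_map_conj] at h4
      have e : a * x * a = x := by
        have h1 : a * x = x * a := mul_inv_eq_iff_eq_mul.mp (hax x hx)
        rw [h1, mul_assoc, ha, mul_one]
      rwa [e] at h4
    have h23 : D2 ⊔ D3 ≤ centralizer (D : Set G) := sup_le
      (IsComponent.le_centralizer_of_ne hD2c hD hcon.1)
      (IsComponent.le_centralizer_of_ne hD3c hD hD3ne)
    -- then `φ D` centralises `D`
    refine IsComponent.not_le_centralizer hD fun d hd => ?_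
    have h1 : φ ⟨d, hd⟩ ∈ D2 ⊔ D3 := by
      have h2 := mem_centralizer_iff.mp (hBK hx) (φ ⟨d, hd⟩) ⟨_, rfl⟩
      have h3 : x * φ ⟨d, hd⟩ * x⁻¹ = φ ⟨d, hd⟩ := by rw [← h2, mul_inv_cancel_right]
      rw [← h3, hφ]
      show x * (d * (a * d * a⁻¹)) * x⁻¹ ∈ _
      rw [show x * (d * (a * d * a⁻¹)) * x⁻¹ = (x * d * x⁻¹) * (x * (a * d * a⁻¹) * x⁻¹) by group]
      exact mul_mem (mem_sup_left ⟨d, hd, rfl⟩) (mem_sup_right ⟨_, ⟨d, hd, rfl⟩, rfl⟩)
    have h4 : a * d * a⁻¹ ∈ centralizer (D : Set G) :=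
      IsComponent.le_centralizer_of_ne hD'c hD hne ⟨d, hd, rfl⟩
    have h5 := mul_mem (h23 h1) (inv_mem h4)
    rwa [hφ, mul_inv_cancel_right] at h5
  set B0 := B ⊓ normalizer (D : Set G) with hB0
  have hidx : Nat.card B ≤ 2 * Nat.card B0 := by
    by_cases hall : B ≤ normalizer (D : Set G)
    · rw [hB0, inf_eq_left.mpr hall]; omega
    obtain ⟨s, hs, hsN⟩ := SetLike.not_le_iff_exists.mp hall
    have hsD : D.map (MulAut.conj s).toMonoidHom = D' :=
      (hperm s hs).resolve_left fun h => hsN (mem_normalizer_iff_map_conj_eq.mpr h)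
    have hone : ∀ x : B, x.1 ∈ normalizer (D : Set G) ∨ s⁻¹ * x.1 ∈ normalizer (D : Set G) := by
      intro x
      rcases hperm x x.2 with h | h
      · exact Or.inl (mem_normalizer_iff_map_conj_eq.mpr h)
      · refine Or.inr (mem_normalizer_iff_map_conj_eq.mpr ?_)
        rw [← PermuteComponents.conj_map_conj, h, ← hsD, PermuteComponents.conj_map_conj,
          inv_mul_cancel]
        ext y; simp
    classical
    let f : B → Bool × B0 := fun x => if h : x.1 ∈ normalizer (D : Set G) then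
      (true, ⟨x.1, x.2, h⟩) else
      (false, ⟨s⁻¹ * x.1, B.mul_mem (B.inv_mem hs) x.2, (hone x).resolve_left h⟩)
    have hf : Function.Injective f := by
      intro x y hxy
      by_cases h1 : x.1 ∈ normalizer (D : Set G) <;> by_cases h2 : y.1 ∈ normalizer (D : Set G) <;>
        simp only [f, h1, h2, dif_pos, dif_neg, not_false_eq_true, Prod.mk.injEq,
          Bool.true_eq_false, Bool.false_eq_true, false_and, true_and] at hxy
      · exact Subtype.ext (congrArg Subtype.val hxy :)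
      · exact Subtype.ext (mul_left_cancel (congrArg Subtype.val hxy :))
    have := Nat.card_le_card_of_injective f hf
    rwa [Nat.card_prod, Nat.card_eq_fintype_card (α := Bool), Fintype.card_bool] at this
  have hB0c : B0 ≤ centralizer (D : Set G) := by
    intro x hx
    refine LBalance.mem_centralizer_of_commutator hD hx.2 fun d hd => ?_
    have h2 := mem_centralizer_iff.mp (hBK hx.1) (φ ⟨d, hd⟩) ⟨_, rfl⟩
    rw [hφ] at h2
    change d * (a * d * a⁻¹) * x = x * (d * (a * d * a⁻¹)) at h2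
    have he : x * d * x⁻¹ ∈ D := (mem_normalizer_iff.mp hx.2 d).mp hd
    have he' : x * (a * d * a⁻¹) * x⁻¹ ∈ D' := by
      refine ⟨x * d * x⁻¹, he, ?_⟩
      show a * (x * d * x⁻¹) * a⁻¹ = _
      have h1 : a * x = x * a := mul_inv_eq_iff_eq_mul.mp (hax x hx.1)
      calc a * (x * d * x⁻¹) * a⁻¹ = (a * x) * d * (a * x)⁻¹ := by group
        _ = _ := by rw [h1]; group
    have h3 : d⁻¹ * (x * d * x⁻¹) = (a * d * a⁻¹) * (x * (a * d * a⁻¹) * x⁻¹)⁻¹ := by
      rw [inv_mul_eq_iff_eq_mul, ← mul_assoc, eq_mul_inv_iff_mul_eq]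
      calc x * d * x⁻¹ * (x * (a * d * a⁻¹) * x⁻¹) = x * (d * (a * d * a⁻¹)) * x⁻¹ := by group
        _ = _ := by rw [← h2, mul_inv_cancel_right]
    have h4 : d⁻¹ * (x * d * x⁻¹) ∈ centralizer (D : Set G) :=
      IsComponent.le_centralizer_of_ne hD'c hD hne
        (h3 ▸ mul_mem ⟨d, hd, rfl⟩ (inv_mem he'))
    have h5 := (mem_normalizer_iff.mp
      (normalizer_le_normalizer_centralizer (Subgroup.le_normalizer hd)) _).mp h4
    simpa [commutatorElement_def, mul_assoc] using h5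
  -- a four-group in `D'`
  simp only [Cfsg.PRankLE, not_forall, not_le] at hrk
  obtain ⟨A0, hA0c, hA02, hA0⟩ := hrk
  set E := ((A0.map φ.range.subtype).comap φ).map ((MulAut.conj a).toMonoidHom.comp D.subtype)
    with hE
  have hEcard : Nat.card E = Nat.card A0 := by
    rw [hE, card_map_of_injective ((MulAut.conj a).injective.comp D.subtype_injective)]
    rw [← card_map_of_injective hinj, map_comap_eq_self (map_subtype_le _),
      card_map_of_injective φ.range.subtype_injective]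
  have hED' : E ≤ D' := by
    rintro _ ⟨d, -, rfl⟩; exact ⟨d, d.2, rfl⟩
  have hEcomm : ∀ x ∈ E, ∀ y ∈ E, x * y = y * x := by
    rintro _ ⟨d, ⟨u, hu, hud⟩, rfl⟩ _ ⟨d', ⟨u', hu', hud'⟩, rfl⟩
    rw [← map_mul, ← map_mul]
    congr 1
    refine hinj ?_
    rw [map_mul, map_mul, ← hud, ← hud', ← map_mul, ← map_mul]
    exact congrArg _ (congrArg Subtype.val (hA0c.is_comm.comm ⟨u, hu⟩ ⟨u', hu'⟩))
  have hE2 : ∀ x ∈ E, x ^ 2 = 1 := by
    rintro _ ⟨d, ⟨u, hu, hud⟩, rfl⟩
    rw [← map_pow, show d ^ 2 = 1 from hinj (by rw [map_pow, ← hud, ← map_pow, hA02 u hu, map_one,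
      map_one]), map_one]
  have hEc : E ≤ centralizer (D : Set G) :=
    hED'.trans (IsComponent.le_centralizer_of_ne hD'c hD hne)
  have hEB : E ≤ centralizer (B0 : Set G) := by
    intro e he
    refine mem_centralizer_iff.mpr fun x hx => ?_
    obtain ⟨d, hd, rfl⟩ := hED' he
    show x * (a * d * a⁻¹) = a * d * a⁻¹ * x
    have h1 : a * x = x * a := mul_inv_eq_iff_eq_mul.mp (hax x hx.1)
    have h2 := mem_centralizer_iff.mp (hB0c hx) d hd
    calc x * (a * d * a⁻¹) = (a * x) * d * a⁻¹ := by rw [h1]; group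
      _ = a * (x * d) * a⁻¹ := by group
      _ = a * (d * x) * a⁻¹ := by rw [h2]
      _ = a * d * (x * a⁻¹) := by group
      _ = a * d * (a⁻¹ * x) := by
        rw [show x * a⁻¹ = a⁻¹ * x from (Commute.inv_left (show Commute a x from h1)).eq.symm]
      _ = _ := by group
  have hint : ∀ e ∈ E, e ∈ B0 → e = 1 := by
    rintro _ ⟨d, hd, rfl⟩ he
    have h1 := hax _ he.1
    change a * (a * (d : G) * a⁻¹) * a⁻¹ = a * (d : G) * a⁻¹ at h1
    rw [hsq] at h1
    obtain ⟨u, hu, hud⟩ := hd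
    have hd2 : d ^ 2 = 1 := hinj (by rw [map_pow, ← hud, ← map_pow, hA02 u hu, map_one, map_one])
    have h2 : φ d = 1 := by
      rw [hφ, ← h1, ← pow_two]
      exact congrArg Subtype.val hd2
    rw [show d = 1 from hinj (h2.trans (map_one φ).symm), map_one]
  set A := B0 ⊔ E with hA
  refine ⟨A, sup_le hB0c hEc, ⟨⟨fun x y => Subtype.ext ?_⟩⟩, ?_, ?_⟩
  · obtain ⟨x1, hx1, x2, hx2, hx⟩ := exists_mul_of_mem_sup_commuting hEB x.2
    obtain ⟨y1, hy1, y2, hy2, hy⟩ := exists_mul_of_mem_sup_commuting hEB y.2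
    show (x : G) * y = y * x
    rw [← hx, ← hy]
    have c1 : Commute x1 y1 := congrArg Subtype.val (hB.1.is_comm.comm ⟨x1, hx1.1⟩ ⟨y1, hy1.1⟩)
    have c2 : Commute x1 y2 := mem_centralizer_iff.mp (hEB hy2) x1 hx1
    have c3 : Commute x2 y1 := (mem_centralizer_iff.mp (hEB hx2) y1 hy1).symm
    have c4 : Commute x2 y2 := hEcomm x2 hx2 y2 hy2
    exact ((c1.mul_right c2).mul_left (c3.mul_right c4)).eq
  · intro x hx
    obtain ⟨x1, hx1, x2, hx2, rfl⟩ := exists_mul_of_mem_sup_commuting hEB hx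
    rw [(show Commute x1 x2 from mem_centralizer_iff.mp (hEB hx2) x1 hx1).mul_pow,
      hB.2 x1 hx1.1, hE2 x2 hx2, one_mul]
  · let g : B0 × E → A := fun x => ⟨(x.1 : G) * x.2, mul_mem (mem_sup_left x.1.2) (mem_sup_right x.2.2)⟩
    have hg : Function.Injective g := by
      intro x y hxy
      have h1 : (x.1 : G) * x.2 = y.1 * y.2 := congrArg Subtype.val hxy
      have h2 : (y.1 : G)⁻¹ * x.1 = (y.2 : G) * (x.2 : G)⁻¹ := by
        rw [inv_mul_eq_iff_eq_mul, ← mul_assoc, eq_mul_inv_iff_mul_eq]; exact h1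
      have h3 := hint _ (h2 ▸ mul_mem y.2.2 (inv_mem x.2.2)) (B0.mul_mem (B0.inv_mem y.1.2) x.1.2)
      have e1 : y.1 = x.1 := Subtype.ext (inv_mul_eq_one.mp h3)
      refine Prod.ext e1.symm (Subtype.ext ?_)
      rw [e1] at h1; exact mul_left_cancel h1
    have h1 := Nat.card_le_card_of_injective g hg
    rw [Nat.card_prod, hEcard] at h1
    have h2 : 0 < Nat.card B0 := Nat.card_pos
    have h3 : 3 ≤ Nat.card A0 := by simp only [pow_one] at hA0; omega
    nlinarith

end CfsgLib.Components.PumpUp
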