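import Cfsg.Agent.Lib.Components.PumpUp
import Cfsg.Agent.S1314

/-!
The trichotomy for a component of the centraliser of an involution.
-/

set_option autoImplicit false
set_option linter.style.haveILetI false
set_option linter.style.show false

universe u

namespace CfsgLib.Components.PumpUpTrichotomy

open Subgroup
open scoped commutatorElement

variable {G : Type u} [Group G] [Finite G]

/-- Modulo the odd order theorem. -/
theorem main (hFT : ∀ (H : Type u) [Group H] [Finite H], Odd (Nat.card H) → Group.IsSolvable H)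
    (hL2 : Cfsg.pLayer 2 G = Cfsg.layer G) (t : G) (ht : orderOf t = 2) (L : Subgroup G)
    (hLt : L ≤ centralizer ({t} : Set G))
    (hL : Cfsg.IsComponent (L.subgroupOf (centralizer ({t} : Set G)))) :
    ∃ D : Subgroup G, Cfsg.IsComponent D ∧ (L = D ∨ (L < D ∧ D = ⁅D, zpowers t⁆) ∨
      (D.map (MulAut.conj t).toMonoidHom ≠ D ∧
        L = (Cfsg.layer ↥((D ⊔ D.map (MulAut.conj t).toMonoidHom) ⊓ centralizer ({t} : Set G))).map
          ((D ⊔ D.map (MulAut.conj t).toMonoidHom) ⊓ centralizer ({t} : Set G)).subtype)) := by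
  set C := centralizer ({t} : Set G) with hC
  have htt : t * t = 1 := by rw [← sq, ← ht]; exact pow_orderOf_eq_one t
  have heven : 2 ∣ Nat.card L := by
    by_contra h
    haveI := hFT L (Nat.odd_iff.2 (by omega))
    exact IsComponent.not_isSolvable hL (Group.isSolvable_of_isSolvable_injective
      (f := (subgroupOfEquivOfLe hLt).toMonoidHom) (subgroupOfEquivOfLe hLt).injective)
  obtain ⟨D, hD, hKD, h⟩ := PumpUp.exists_component_of_centralizer htt hLt hL heven hL2.le
  refine ⟨D, hD, ?_⟩
  set D' := D.map (MulAut.conj t).toMonoidHom with hD'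
  have hcaseA : L ≤ D → L = D ∨ (L < D ∧ D = ⁅D, zpowers t⁆) := by
    intro hle
    rcases eq_or_lt_of_le hle with heq | hlt
    · exact Or.inl heq
    refine Or.inr ⟨hlt, ?_⟩
    by_cases hfix : D' = D
    · have htN : zpowers t ≤ normalizer (D : Set G) :=
        zpowers_le.2 (mem_normalizer_iff_map_conj_eq.mpr hfix)
      have hcD : ⁅D, zpowers t⁆ ≤ D := by
        refine commutator_le.2 fun d hd s hs => ?_
        rw [commutatorElement_def, mul_assoc d, mul_assoc]
        exact mul_mem hd ((mem_normalizer_iff.1 (htN hs) d⁻¹).1 (inv_mem hd))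
      have hDn : D ≤ normalizer ((⁅D, zpowers t⁆ : Subgroup G) : Set G) := by
        intro d hd
        have key : ∀ g ∈ D, ⁅D, zpowers t⁆ ≤ (⁅D, zpowers t⁆).comap (MulAut.conj g).toMonoidHom := by
          intro g hg
          refine commutator_le.2 fun e he s hs => ?_
          show g * ⁅e, s⁆ * g⁻¹ ∈ ⁅D, zpowers t⁆
          rw [show g * ⁅e, s⁆ * g⁻¹ = ⁅g * e, s⁆ * ⁅g, s⁆⁻¹ by simp only [commutatorElement_def]; group]
          exact mul_mem (commutator_mem_commutator (mul_mem hg he) hs)
            (inv_mem (commutator_mem_commutator hg hs))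
        refine mem_normalizer_iff.2 fun x => ⟨fun hx => key d hd hx, fun hx => ?_⟩
        have := key d⁻¹ (inv_mem hd) hx
        simpa [mul_assoc] using this
      have hDperf : ⁅D, D⁆ = D := IsComponent.commutator_self hD
      haveI : ((⁅D, zpowers t⁆).subgroupOf D).Normal := (normal_subgroupOf_iff_le_normalizer hcD).2 hDn
      rcases IsQuasisimple.normal_le_center_or_top hD.2 ((⁅D, zpowers t⁆).subgroupOf D) with hc | hc
      swap
      · exact le_antisymm (subgroupOf_eq_top.1 hc) hcD
      exfalso
      have h1 : ⁅⁅D, zpowers t⁆, D⁆ = ⊥ := commutator_eq_bot_iff_le_centralizer.2 fun x hx =>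
        mem_centralizer_iff.2 fun y hy => congrArg Subtype.val
          (mem_center_iff.1 (hc (show (⟨x, hcD hx⟩ : D) ∈ (⁅D, zpowers t⁆).subgroupOf D from hx)) ⟨y, hy⟩)
      have h2 := commutator_commutator_eq_bot_of_rotate (H₁ := D) (H₂ := D) (H₃ := zpowers t)
        h1 (by rw [commutator_comm (zpowers t) D]; exact h1)
      rw [hDperf] at h2
      have hDC : D ≤ C := fun d hd => mem_centralizer_singleton_iff.2
        (commutatorElement_eq_one_iff_mul_comm.1 (by
          rw [← mem_bot, ← h2]; exact commutator_mem_commutator hd (mem_zpowers t)))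
      have hDc : Cfsg.IsComponent (D.subgroupOf C) := ⟨hD.1.comap C.subtype,
        IsQuasisimple.of_mulEquiv hD.2 (subgroupOfEquivOfLe hDC).symm⟩
      have := IsComponent.eq_of_le hL hDc (fun x hx => hle hx)
      exact hlt.ne (le_antisymm hle fun x hx => by
        have h3 : (⟨x, hDC hx⟩ : C) ∈ L.subgroupOf C := by rw [this]; exact hx
        exact h3)
    · exfalso
      -- `L ≤ D` is fixed by `t`, so it is centralised by `D`
      have hLD' : L ≤ D' := fun x hx => ⟨x, hle hx, by
        show t * x * t⁻¹ = x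
        rw [← mem_centralizer_singleton_iff.1 (hLt hx), mul_inv_cancel_right]⟩
      exact hKD (hLD'.trans (IsComponent.le_centralizer_of_ne (IsComponent.conj hD t) hD hfix))
  rcases h with hle | ⟨hne, φ, hφ, hr⟩
  · exact (hcaseA hle).imp id Or.inl
  refine Or.inr (Or.inr ⟨hne, ?_⟩)
  have hperf : ⁅D, D⁆ = D := IsComponent.commutator_self hD
  have hcom : ⁅D, D'⁆ = ⊥ := IsComponent.commutator_eq_bot hD (IsComponent.conj hD t) (Ne.symm hne)
  obtain ⟨π, hπ, -, -, hπr⟩ := Cfsg.Agent.S1314.result t ht D hperf hcom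
  have hφπ : φ = π := MonoidHom.ext fun d => (hφ d).trans (hπ d).symm
  subst hφπ
  rw [hr] at hπr
  set N := (D ⊔ D') ⊓ C with hN
  have hLN : L ≤ N := by
    rw [← hπr]; exact commutator_le_self N
  refine le_antisymm (fun x hx => ?_) ?_
  · have hc : Cfsg.IsComponent (L.subgroupOf N) := ⟨hL.1.comap (inclusion (inf_le_right : N ≤ C)),
      IsQuasisimple.of_mulEquiv hL.2 ((subgroupOfEquivOfLe hLt).trans (subgroupOfEquivOfLe hLN).symm)⟩
    exact ⟨⟨x, hLN hx⟩, IsComponent.le_layer hc hx, rfl⟩
  · rw [← hπr]
    have h := congrArg (Subgroup.map N.subtype) (layer_commutator_self (G := N))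
    rw [map_commutator] at h
    exact h.ge.trans (commutator_mono (map_subtype_le _) (map_subtype_le _))

end CfsgLib.Components.PumpUpTrichotomy
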