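import Cfsg.Prelude.Def_LocalEven
import Cfsg.Agent.Lib.Coprime.Pairing
import Cfsg.Agent.Lib.OddOrder.FixedPointFree

/-!
A group of `p`-rank two (`p ≥ 5`) has no nontrivial normal `p`-subgroup with quotient `Qd(p)`.
-/

set_option autoImplicit false
set_option linter.style.haveILetI false
set_option linter.unusedSectionVars false

namespace CfsgLib.Components.QdRankTwo

open Subgroup

open scoped commutatorElement

section Mat

variable {p : ℕ} [hp : Fact p.Prime]

abbrev SL3 (p : ℕ) := Matrix.SpecialLinearGroup (Fin 3) (ZMod p)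

/-- A translation. -/
def tV (a b : ZMod p) : SL3 p := ⟨!![1, 0, a; 0, 1, b; 0, 0, 1], by simp [Matrix.det_fin_three]⟩

/-- An upper transvection. -/
def tX (c : ZMod p) : SL3 p := ⟨!![1, c, 0; 0, 1, 0; 0, 0, 1], by simp [Matrix.det_fin_three]⟩

/-- A lower transvection. -/
def tY (c : ZMod p) : SL3 p := ⟨!![1, 0, 0; c, 1, 0; 0, 0, 1], by simp [Matrix.det_fin_three]⟩

/-- The central involution of the Levi factor. -/
def tT : SL3 p := ⟨!![-1, 0, 0; 0, -1, 0; 0, 0, 1], by simp [Matrix.det_fin_three]⟩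

/-- A diagonal element of the Levi factor. -/
def tD : SL3 p := tX 2 * tY (-2⁻¹) * tX 2 * (tX (-1) * tY 1 * tX (-1))

@[simp] theorem tV_coe (a b : ZMod p) :
    ((tV a b : SL3 p) : Matrix (Fin 3) (Fin 3) (ZMod p)) = !![1, 0, a; 0, 1, b; 0, 0, 1] := rfl

@[simp] theorem tX_coe (c : ZMod p) :
    ((tX c : SL3 p) : Matrix (Fin 3) (Fin 3) (ZMod p)) = !![1, c, 0; 0, 1, 0; 0, 0, 1] := rfl

@[simp] theorem tY_coe (c : ZMod p) :
    ((tY c : SL3 p) : Matrix (Fin 3) (Fin 3) (ZMod p)) = !![1, 0, 0; c, 1, 0; 0, 0, 1] := rfl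

@[simp] theorem tT_coe :
    ((tT : SL3 p) : Matrix (Fin 3) (Fin 3) (ZMod p)) = !![-1, 0, 0; 0, -1, 0; 0, 0, 1] := rfl

theorem tV_mem (a b : ZMod p) : tV a b ∈ Cfsg.qd p :=
  subset_closure ⟨by simp , by simp , by simp ⟩

theorem tX_mem (c : ZMod p) : tX c ∈ Cfsg.qd p :=
  subset_closure ⟨by simp , by simp , by simp ⟩

theorem tY_mem (c : ZMod p) : tY c ∈ Cfsg.qd p :=
  subset_closure ⟨by simp , by simp , by simp ⟩

theorem tT_mem : (tT : SL3 p) ∈ Cfsg.qd p :=
  subset_closure ⟨by simp , by simp , by simp ⟩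

theorem tX_mul (a b : ZMod p) : tX a * tX b = tX (a + b) := by
  apply Subtype.ext
  ext i j
  fin_cases i <;> fin_cases j <;> simp [Matrix.SpecialLinearGroup.coe_mul, Matrix.mul_apply, Fin.sum_univ_three] <;> ring

theorem tY_mul (a b : ZMod p) : tY a * tY b = tY (a + b) := by
  apply Subtype.ext
  ext i j
  fin_cases i <;> fin_cases j <;> simp [Matrix.SpecialLinearGroup.coe_mul, Matrix.mul_apply, Fin.sum_univ_three] <;> ring

theorem tV_mul (a b a' b' : ZMod p) : tV a b * tV a' b' = tV (a + a') (b + b') := by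
  apply Subtype.ext
  ext i j
  fin_cases i <;> fin_cases j <;> simp [Matrix.SpecialLinearGroup.coe_mul, Matrix.mul_apply, Fin.sum_univ_three] <;> ring

theorem tX_zero : (tX 0 : SL3 p) = 1 := by
  apply Subtype.ext
  ext i j
  fin_cases i <;> fin_cases j <;> simp 

theorem tY_zero : (tY 0 : SL3 p) = 1 := by
  apply Subtype.ext
  ext i j
  fin_cases i <;> fin_cases j <;> simp 

theorem tV_zero : (tV 0 0 : SL3 p) = 1 := by
  apply Subtype.ext
  ext i j
  fin_cases i <;> fin_cases j <;> simp 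

theorem tX_pow (c : ZMod p) (n : ℕ) : tX c ^ n = tX ((n : ZMod p) * c) := by
  induction n with
  | zero => simp [tX_zero]
  | succ n ih => rw [pow_succ, ih, tX_mul]; push_cast; ring_nf

theorem tY_pow (c : ZMod p) (n : ℕ) : tY c ^ n = tY ((n : ZMod p) * c) := by
  induction n with
  | zero => simp [tY_zero]
  | succ n ih => rw [pow_succ, ih, tY_mul]; push_cast; ring_nf

theorem tV_pow (a b : ZMod p) (n : ℕ) : tV a b ^ n = tV ((n : ZMod p) * a) ((n : ZMod p) * b) := by
  induction n with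
  | zero => simp [tV_zero]
  | succ n ih => rw [pow_succ, ih, tV_mul]; push_cast; ring_nf

theorem tX_pow_p (c : ZMod p) : tX c ^ p = 1 := by rw [tX_pow]; simp [tX_zero]

theorem tY_pow_p (c : ZMod p) : tY c ^ p = 1 := by rw [tY_pow]; simp [tY_zero]

theorem tX_injective {a b : ZMod p} (h : tX a = tX b) : a = b := by
  have := congrArg (fun M : SL3 p => (M : Matrix (Fin 3) (Fin 3) (ZMod p)) 0 1) h
  simpa  using this

theorem tV_injective {a b a' b' : ZMod p} (h : tV a b = tV a' b') : a = a' ∧ b = b' := by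
  constructor
  · have := congrArg (fun M : SL3 p => (M : Matrix (Fin 3) (Fin 3) (ZMod p)) 0 2) h
    simpa  using this
  · have := congrArg (fun M : SL3 p => (M : Matrix (Fin 3) (Fin 3) (ZMod p)) 1 2) h
    simpa  using this

theorem tX_comm_tT (c : ZMod p) : Commute (tT : SL3 p) (tX c) := by
  apply Subtype.ext
  ext i j
  fin_cases i <;> fin_cases j <;> simp [Matrix.SpecialLinearGroup.coe_mul, Matrix.mul_apply, Fin.sum_univ_three]

theorem tY_comm_tT (c : ZMod p) : Commute (tT : SL3 p) (tY c) := by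
  apply Subtype.ext
  ext i j
  fin_cases i <;> fin_cases j <;> simp [Matrix.SpecialLinearGroup.coe_mul, Matrix.mul_apply, Fin.sum_univ_three]

theorem tT_sq : (tT : SL3 p) * tT = 1 := by
  apply Subtype.ext
  ext i j
  fin_cases i <;> fin_cases j <;> simp [Matrix.SpecialLinearGroup.coe_mul, Matrix.mul_apply, Fin.sum_univ_three]

theorem tT_eq : (tT : SL3 p) = tX 1 * tY (-1) * tX 1 * (tX 1 * tY (-1) * tX 1) := by
  apply Subtype.ext
  ext i j
  fin_cases i <;> fin_cases j <;> simp [Matrix.SpecialLinearGroup.coe_mul, Matrix.mul_apply, Fin.sum_univ_three]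

theorem two_ne_zero' (hp2 : p ≠ 2) : (2 : ZMod p) ≠ 0 := by
  intro h
  have h' : ((2 : ℕ) : ZMod p) = 0 := by exact_mod_cast h
  rw [ZMod.natCast_eq_zero_iff, Nat.prime_dvd_prime_iff_eq hp.out Nat.prime_two] at h'
  exact hp2 h'

theorem tD_mul_tX (hp2 : p ≠ 2) (c : ZMod p) : (tD : SL3 p) * tX c = tX (4 * c) * tD := by
  have h2 := two_ne_zero' hp2
  apply Subtype.ext
  ext i j
  fin_cases i <;> fin_cases j <;> simp [tD, Matrix.SpecialLinearGroup.coe_mul, Matrix.mul_apply, Fin.sum_univ_three] <;>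
    field_simp <;> (first | ring1 | simp)

/-- The matrices with last row `(0, 0, 1)`. -/
def affine (p : ℕ) [Fact p.Prime] : Subgroup (SL3 p) where
  carrier := {M | ∀ j, (M : Matrix (Fin 3) (Fin 3) (ZMod p)) 2 j = (1 : Matrix (Fin 3) (Fin 3) (ZMod p)) 2 j}
  one_mem' := fun j => rfl
  mul_mem' {M N} hM hN := fun j => by
    show ((M : Matrix (Fin 3) (Fin 3) (ZMod p)) * (N : Matrix (Fin 3) (Fin 3) (ZMod p))) 2 j = _
    rw [Matrix.mul_apply, Fin.sum_univ_three, hM 0, hM 1, hM 2]
    simp [hN j]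
  inv_mem' {M} hM := fun j => by
    have h := congrArg (fun A : SL3 p => (A : Matrix (Fin 3) (Fin 3) (ZMod p)) 2 j) (mul_inv_cancel M)
    simp only [Matrix.SpecialLinearGroup.coe_mul, Matrix.SpecialLinearGroup.coe_one,
      Matrix.mul_apply, Fin.sum_univ_three] at h
    rw [hM 0, hM 1, hM 2] at h
    simpa using h

theorem qd_le_affine : Cfsg.qd p ≤ affine p := by
  refine (closure_le _).mpr fun M hM j => ?_
  obtain ⟨h0, h1, h2⟩ := hM
  fin_cases j
  · simpa [Matrix.one_apply] using h0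
  · simpa [Matrix.one_apply] using h1
  · simpa [Matrix.one_apply] using h2

/-- The translations. -/
def trans (p : ℕ) [Fact p.Prime] : Subgroup (SL3 p) where
  carrier := {M | ∃ a b, M = tV a b}
  one_mem' := ⟨0, 0, tV_zero.symm⟩
  mul_mem' := by
    rintro M N ⟨a, b, rfl⟩ ⟨a', b', rfl⟩
    exact ⟨_, _, tV_mul a b a' b'⟩
  inv_mem' := by
    rintro M ⟨a, b, rfl⟩
    refine ⟨-a, -b, inv_eq_of_mul_eq_one_right ?_⟩
    rw [tV_mul, add_neg_cancel, add_neg_cancel, tV_zero]

theorem isPGroup_trans : IsPGroup p (trans p) := by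
  rintro ⟨M, a, b, rfl⟩
  exact ⟨1, Subtype.ext (by simp [tV_pow, tV_zero])⟩

theorem conj_tV {M : SL3 p} (hM : M ∈ affine p) (a b : ZMod p) :
    M * tV a b * M⁻¹ = tV ((M : Matrix (Fin 3) (Fin 3) (ZMod p)) 0 0 * a +
      (M : Matrix (Fin 3) (Fin 3) (ZMod p)) 0 1 * b)
      ((M : Matrix (Fin 3) (Fin 3) (ZMod p)) 1 0 * a +
      (M : Matrix (Fin 3) (Fin 3) (ZMod p)) 1 1 * b) := by
  rw [mul_inv_eq_iff_eq_mul]
  apply Subtype.ext
  have h0 := hM 0
  have h1 := hM 1
  have h2 := hM 2
  ext i j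
  fin_cases i <;> fin_cases j <;>
    simp [Matrix.SpecialLinearGroup.coe_mul, Matrix.mul_apply, Fin.sum_univ_three, h0, h1, h2] <;> ring

theorem eq_one_of_mem_trans_of_commute {M : SL3 p} (hp2 : p ≠ 2) (hM : M ∈ trans p)
    (h : Commute (tT : SL3 p) M) : M = 1 := by
  obtain ⟨a, b, rfl⟩ := hM
  have h2 := two_ne_zero' hp2
  have e0 := congrArg (fun A : SL3 p => (A : Matrix (Fin 3) (Fin 3) (ZMod p)) 0 2) h.eq
  have e1 := congrArg (fun A : SL3 p => (A : Matrix (Fin 3) (Fin 3) (ZMod p)) 1 2) h.eq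
  simp [Matrix.SpecialLinearGroup.coe_mul, Matrix.mul_apply, Fin.sum_univ_three] at e0 e1
  have ha : a = 0 := (mul_eq_zero.mp (show (2 : ZMod p) * a = 0 by linear_combination -e0)).resolve_left h2
  have hb : b = 0 := (mul_eq_zero.mp (show (2 : ZMod p) * b = 0 by linear_combination -e1)).resolve_left h2
  rw [ha, hb, tV_zero]

end Mat

section Rank

theorem binom_step {M : Type*} [CommMonoid M] (a b c e : M) (n i j : ℕ) :
    a * b * (b * c) ^ n * (c * e) ^ i * e ^ j = a * b ^ (n + 1) * c ^ (n + i) * e ^ (i + j) := by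
  rw [mul_pow, mul_pow, pow_add, pow_add, pow_add, pow_one]
  ac_rfl

variable {G : Type*} [Group G] [Finite G] {p : ℕ} [hp : Fact p.Prime]

/-- Adjoining a commuting element of order `p` to an elementary abelian subgroup. -/
theorem elementary_extend {B : Subgroup G} (hB : Cfsg.IsElementaryAbelian p B) {c : G}
    (hc : c ^ p = 1) (hcB : c ∉ B) (hcomm : ∀ b ∈ B, b * c = c * b) :
    Cfsg.IsElementaryAbelian p (B ⊔ zpowers c) ∧
      Nat.card ↥(B ⊔ zpowers c) = Nat.card B * p := by
  have hcc : c ∈ centralizer (B : Set G) := mem_centralizer_iff.mpr fun b hb => hcomm b hb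
  have hn : zpowers c ≤ normalizer (B : Set G) :=
    zpowers_le.mpr (centralizer_le_normalizer _ hcc)
  have hord : orderOf c = p := orderOf_eq_prime hc fun h => hcB (h ▸ B.one_mem)
  have hd : Disjoint B (zpowers c) := by
    rw [disjoint_iff, eq_bot_iff]
    intro x hx
    by_contra hx1
    haveI : Fact (Nat.card (zpowers c)).Prime := ⟨by rw [Nat.card_zpowers, hord]; exact hp.out⟩
    have h := mem_zpowers_of_prime_card (g := (⟨x, hx.2⟩ : zpowers c)) (g' := ⟨c, mem_zpowers c⟩)
      (p := Nat.card (zpowers c)) rfl (by simpa using hx1)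
    obtain ⟨n, hn⟩ := h
    refine hcB ?_
    have hn' := congrArg Subtype.val hn
    simp only [SubgroupClass.coe_zpow] at hn'
    rw [← hn']
    exact B.zpow_mem hx.1 n
  refine ⟨⟨?_, ?_⟩, ?_⟩
  · rw [← le_centralizer_iff_isMulCommutative]
    have hBc : B ≤ centralizer (B : Set G) := by
      haveI := hB.1
      exact le_centralizer B
    refine sup_le ?_ ?_
    · rw [le_centralizer_iff]
      exact sup_le hBc (zpowers_le.mpr hcc)
    · rw [le_centralizer_iff]
      refine sup_le ?_ (le_centralizer (zpowers c))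
      rw [le_centralizer_iff]
      exact zpowers_le.mpr hcc
  · intro x hx
    obtain ⟨b, hb, y, hy, rfl⟩ := (Coprime.mem_sup_of_le_normalizer hn).mp hx
    obtain ⟨n, rfl⟩ := mem_zpowers_iff.mp hy
    have hcom : Commute b (c ^ n) := (show Commute b c from hcomm b hb).zpow_right n
    rw [hcom.mul_pow, hB.2 b hb, one_mul, ← zpow_natCast, ← zpow_mul, mul_comm, zpow_mul,
      zpow_natCast, hc, _root_.one_zpow]
  · rw [Coprime.card_sup_of_le_normalizer hn hd, Nat.card_zpowers, hord]

theorem elementary_bot : Cfsg.IsElementaryAbelian p (⊥ : Subgroup G) :=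
  ⟨inferInstance, fun x hx => by rw [mem_bot.mp hx, one_pow]⟩

/-- In rank at most two, three independent commuting elements of order `p` do not exist. -/
theorem no_triple (hr : Cfsg.PRankLE p 2 G) {a b c : G} (ha : a ^ p = 1) (hb : b ^ p = 1)
    (hc : c ^ p = 1) (ha1 : a ≠ 1) (hba : b ∉ zpowers a) (hab : a * b = b * a)
    (hac : a * c = c * a) (hbc : b * c = c * b) (hcab : c ∉ zpowers a ⊔ zpowers b) : False := by
  obtain ⟨h1, h1c⟩ := elementary_extend elementary_bot ha (by simpa using ha1)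
    (fun x hx => by simp [mem_bot.mp hx])
  rw [bot_sup_eq] at h1 h1c
  rw [Subgroup.card_bot, one_mul] at h1c
  obtain ⟨h2, h2c⟩ := elementary_extend h1 hb hba fun x hx => by
    obtain ⟨n, rfl⟩ := mem_zpowers_iff.mp hx
    exact ((show Commute a b from hab).zpow_left n).eq
  obtain ⟨h3, h3c⟩ := elementary_extend h2 hc hcab fun x hx => by
    have : zpowers a ⊔ zpowers b ≤ centralizer {c} :=
      sup_le (zpowers_le.mpr (mem_centralizer_singleton_iff.mpr hac))
        (zpowers_le.mpr (mem_centralizer_singleton_iff.mpr hbc))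
    exact mem_centralizer_singleton_iff.mp (this hx)
  have h := hr _ h3.1 h3.2
  rw [h3c, h2c, h1c] at h
  have h4 := Nat.pow_lt_pow_right hp.out.one_lt (show 2 < 3 by norm_num)
  rw [show p ^ 3 = p * p * p by ring] at h4
  omega

theorem le_normalizer_comm (A B : Subgroup G) :
    normalizer (A : Set G) ⊓ normalizer (B : Set G) ≤ normalizer ((⁅A, B⁆ : Subgroup G) : Set G) :=
  fun g hg => by
    obtain ⟨ha, hb⟩ := mem_inf.mp hg
    rw [mem_normalizer_iff_map_conj_eq] at ha hb ⊢
    rw [map_commutator, ha, hb]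

/-- A `p`-element normalising a subgroup of order `p` centralises it. -/
theorem commute_of_pElement {g k : G} (hg : IsPGroup p (zpowers g)) (hk : orderOf k = p)
    (hn : g * k * g⁻¹ ∈ zpowers k) : g * k = k * g := by
  have hle : zpowers g ≤ normalizer ((zpowers k : Subgroup G) : Set G) := by
    refine zpowers_le.mpr (Coprime.mem_normalizer_of_conj_map_le ?_)
    intro x hx
    obtain ⟨n, rfl⟩ := mem_zpowers_iff.mp hx
    rw [← conj_zpow]
    exact zpow_mem hn n
  have h := Coprime.le_centralizer_of_card_eq_prime hg (by rw [Nat.card_zpowers, hk]) hle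
    (mem_zpowers g)
  exact (mem_centralizer_iff.mp h k (mem_zpowers k)).symm

end Rank

set_option maxHeartbeats 1000000 in
theorem eq_bot_of_qd {G : Type*} [Group G] [Finite G] {p : ℕ} [hp : Fact p.Prime] (hp3 : 3 < p)
    (U : Subgroup G) [U.Normal] (hU : IsPGroup p U) (hq : Nonempty (G ⧸ U ≃* ↥(Cfsg.qd p)))
    (hr : Cfsg.PRankLE p 2 G) : U = ⊥ := by
  classical
  obtain ⟨e⟩ := hq
  have hp2 : p ≠ 2 := by omega
  have hodd : Odd p := hp.out.odd_of_ne_two hp2
  set f : G →* SL3 p := (Cfsg.qd p).subtype.comp (e.toMonoidHom.comp (QuotientGroup.mk' U))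
  have hfU : ∀ g, f g = 1 ↔ g ∈ U := fun g => by
    show ((e (QuotientGroup.mk g) : ↥(Cfsg.qd p)) : SL3 p) = 1 ↔ g ∈ U
    rw [OneMemClass.coe_eq_one, EmbeddingLike.map_eq_one_iff, QuotientGroup.eq_one_iff]
  have hker : f.ker = U := Subgroup.ext fun g => by rw [MonoidHom.mem_ker, hfU]
  have hsurj : ∀ M ∈ Cfsg.qd p, ∃ g, f g = M := fun M hM => by
    obtain ⟨g, hg⟩ := QuotientGroup.mk_surjective (e.symm ⟨M, hM⟩)
    refine ⟨g, ?_⟩
    show ((e (QuotientGroup.mk g) : ↥(Cfsg.qd p)) : SL3 p) = M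
    rw [hg, MulEquiv.apply_symm_apply]
  have hrange : ∀ g, f g ∈ affine p := fun g => qd_le_affine (SetLike.coe_mem _)
  have hUodd : ∀ u ∈ U, Odd (orderOf u) := fun u hu => by
    obtain ⟨k, hk⟩ := (IsPGroup.iff_orderOf.mp hU) ⟨u, hu⟩
    rw [orderOf_mk] at hk
    rw [hk]
    exact hodd.pow
  -- the involution
  obtain ⟨t, ht2, hft⟩ : ∃ t : G, t * t = 1 ∧ f t = tT := by
    obtain ⟨g, hg⟩ := hsurj tT tT_mem
    have hgU : g * g ∈ U := (hfU _).mp (by rw [map_mul, hg, tT_sq])
    obtain ⟨m, hm⟩ := hUodd _ hgU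
    refine ⟨g ^ (2 * m + 1), ?_, ?_⟩
    · rw [← hm, ← (Commute.refl g).mul_pow, pow_orderOf_eq_one]
    · rw [map_pow, hg, pow_succ, pow_mul, pow_two, tT_sq, one_pow, one_mul]
  have htinv : t⁻¹ = t := inv_eq_of_mul_eq_one_right ht2
  set S := centralizer ({t} : Set G)
  have hS : ∀ {g}, g ∈ S → t * g = g * t := fun hg => (mem_centralizer_singleton_iff.mp hg).symm
  -- lifting to the centraliser of `t`
  have hlift : ∀ M ∈ Cfsg.qd p, Commute tT M → ∃ g ∈ S, f g = M := by
    intro M hM hMT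
    obtain ⟨g, hg⟩ := hsurj M hM
    set w := t * (g * t * g⁻¹) with hw
    have hwU : w ∈ U := (hfU _).mp (by
      rw [hw, map_mul, map_mul, map_mul, map_inv, hft, hg, ← hMT.eq]
      rw [mul_inv_cancel_right, tT_sq])
    have hwinv : t * w * t = w⁻¹ := by
      rw [hw, mul_inv_rev, mul_inv_rev, mul_inv_rev, inv_inv, htinv]
      simp only [← mul_assoc, ht2, one_mul]
    obtain ⟨m, hm⟩ := hUodd _ hwU
    set v := w ^ (m + 1) with hv
    have hvv : v * v = w := by
      rw [hv, ← pow_add, show m + 1 + (m + 1) = (2 * m + 1) + 1 by ring, ← hm, pow_succ,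
        pow_orderOf_eq_one, one_mul]
    have hvinv : t * v * t = v⁻¹ := by
      have h : MulAut.conj t v = (MulAut.conj t w) ^ (m + 1) := by rw [hv, map_pow]
      simp only [MulAut.conj_apply, htinv, hwinv] at h
      rw [h, hv, inv_pow]
    refine ⟨v * g, mem_centralizer_singleton_iff.mpr ?_, ?_⟩
    · have h1 : t * v = v⁻¹ * t := by
        rw [← hvinv, mul_assoc, ht2, mul_one]
      have h2 : g * t = t * w * g := by
        rw [hw, ← mul_assoc t t, ht2, one_mul]; group
      calc v * g * t = v * (t * w * g) := by rw [mul_assoc, h2]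
        _ = v * (t * v) * v * g := by rw [← hvv]; group
        _ = t * (v * g) := by rw [h1]; group
    · rw [map_mul, (hfU v).mpr (U.pow_mem hwU _), one_mul, hg]
  have hpel : ∀ g : G, f g ^ p = 1 → IsPGroup p (zpowers g) := by
    intro g hg
    obtain ⟨k, hk⟩ := hU ⟨g ^ p, (hfU _).mp (by rw [map_pow, hg])⟩
    have hk' : (g ^ p) ^ p ^ k = 1 := by simpa using congrArg Subtype.val hk
    obtain ⟨j, -, hj⟩ := (Nat.dvd_prime_pow hp.out).mp
      (orderOf_dvd_of_pow_eq_one (x := g) (n := p ^ (k + 1)) (by rw [pow_succ', pow_mul, hk']))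
    exact IsPGroup.of_card (n := j) (by rw [Nat.card_zpowers, hj])
  choose lX hlXS hlX using fun c : ZMod p => hlift _ (tX_mem c) (tX_comm_tT c)
  choose lY hlYS hlY using fun c : ZMod p => hlift _ (tY_mem c) (tY_comm_tT c)
  have hXp : ∀ c, IsPGroup p (zpowers (lX c)) := fun c => hpel _ (by rw [hlX, tX_pow_p])
  have hYp : ∀ c, IsPGroup p (zpowers (lY c)) := fun c => hpel _ (by rw [hlY, tY_pow_p])
  -- the preimage of the translations
  set W := (trans p).comap f
  have hW : IsPGroup p W := isPGroup_trans.comap_of_ker_isPGroup f (hker ▸ hU)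
  have hWn : W.Normal := ⟨fun w hw g => by
    obtain ⟨a, b, hab⟩ := hw
    exact ⟨_, _, by rw [map_mul, map_mul, map_inv, hab]; exact conj_tV (hrange g) a b⟩⟩
  haveI := hWn
  have hWS : ∀ w ∈ W, w ∈ S → w ∈ U := fun w hw hwS => (hfU w).mp
    (eq_one_of_mem_trans_of_commute hp2 hw (by rw [← hft]; exact (show Commute t w from hS hwS).map f))
  by_contra hUb
  by_cases hU0 : ∃ x ∈ U, x ∈ S ∧ x ≠ 1
  · -- first case: `t` centralises part of `U`
    obtain ⟨x0, hx0U, hx0S, hx01⟩ := hU0
    set R := S ⊓ (zpowers (tX (1 : ZMod p))).comap f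
    have hR : IsPGroup p R :=
      ((IsPGroup.of_card (n := 1) (by
        rw [Nat.card_zpowers, pow_one]
        exact orderOf_eq_prime (tX_pow_p 1) fun h => one_ne_zero
          (tX_injective (h.trans tX_zero.symm)))).comap_of_ker_isPGroup f (hker ▸ hU)).to_le inf_le_right
    have hRS : R ≤ S := inf_le_left
    have hUR : ∀ x ∈ U, x ∈ S → x ∈ R := fun x hx hxS =>
      ⟨hxS, mem_comap.mpr (by rw [(hfU x).mpr hx]; exact one_mem _)⟩
    obtain ⟨y, hyt, hy1, hyp, hyR⟩ :
        ∃ y : G, t * y * t = y⁻¹ ∧ y ≠ 1 ∧ y ^ p = 1 ∧ ∀ r ∈ R, r * y = y * r := by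
      have hWbad : W ≤ W ∧ R ≤ normalizer (W : Set G) ∧ t ∈ normalizer (W : Set G) ∧
          t ∉ centralizer (W : Set G) := by
        refine ⟨le_rfl, by rw [normalizer_eq_top]; exact le_top, by simp [normalizer_eq_top], fun h => ?_⟩
        obtain ⟨w, hw⟩ := hsurj _ (tV_mem (p := p) 1 0)
        have hwW : w ∈ W := ⟨1, 0, hw⟩
        have hwS : w ∈ S :=
          mem_centralizer_singleton_iff.mpr (mem_centralizer_iff.mp h w hwW)
        have h1 := (hfU w).mpr (hWS w hwW hwS)
        rw [hw] at h1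
        exact one_ne_zero (tV_injective (h1.trans tV_zero.symm)).1
      obtain ⟨Y, -, hY⟩ := exists_minimal_le_of_wellFoundedLT
        (fun Y : Subgroup G => Y ≤ W ∧ R ≤ normalizer (Y : Set G) ∧ t ∈ normalizer (Y : Set G) ∧
          t ∉ centralizer (Y : Set G)) W hWbad
      obtain ⟨hYW, hRY, htY, htc⟩ := hY.prop
      have hYb : Y ≠ ⊥ := by
        rintro rfl
        exact htc (mem_centralizer_iff.mpr fun x hx => by simp [mem_bot.mp hx])
      have hlt := Coprime.commutator_lt_of_isPGroup hR (hW.to_le hYW) hRY hYb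
      have htC : t ∈ centralizer ((⁅Y, R⁆ : Subgroup G) : Set G) := by
        by_contra h
        refine hlt.not_ge (hY.le_of_le ⟨hlt.le.trans hYW, ?_, ?_, h⟩ hlt.le)
        · exact (le_inf hRY Subgroup.le_normalizer).trans (le_normalizer_comm Y R)
        · refine le_normalizer_comm Y R ⟨htY, ?_⟩
          exact centralizer_le_normalizer _ (mem_centralizer_iff.mpr fun r hr => (hS (hRS hr)).symm)
      obtain ⟨w, hw, hwt⟩ : ∃ w ∈ Y, t * w * t ≠ w := by
        by_contra h
        push Not at h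
        refine htc (mem_centralizer_iff.mpr fun w hw => ?_)
        conv_lhs => rw [← h w hw]
        rw [mul_assoc, ht2, mul_one]
      set z := w⁻¹ * (t * w * t) with hz
      have hzY : z ∈ Y := Y.mul_mem (Y.inv_mem hw) (by
        have := (mem_normalizer_iff.mp htY w).mp hw
        rwa [htinv] at this)
      have hz1 : z ≠ 1 := fun h => hwt (inv_mul_eq_one.mp h).symm
      have hzt : t * z * t = z⁻¹ := by
        rw [hz, mul_inv_rev, mul_inv_rev, mul_inv_rev, inv_inv, htinv]
        simp only [mul_assoc, ht2, mul_one]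
      obtain ⟨k, hk⟩ := (IsPGroup.iff_orderOf.mp (hW.to_le hYW)) ⟨z, hzY⟩
      rw [orderOf_mk] at hk
      obtain ⟨k, rfl⟩ : ∃ j, k = j + 1 := by
        refine Nat.exists_eq_succ_of_ne_zero fun h0 => hz1 ?_
        rw [← orderOf_eq_one_iff, hk, h0, pow_zero]
      set y := z ^ p ^ k with hy
      have hy1 : y ≠ 1 := fun h => by
        have := orderOf_dvd_of_pow_eq_one h
        rw [hk] at this
        have := Nat.le_of_dvd (pow_pos hp.out.pos k) this
        exact absurd this (not_le.mpr (Nat.pow_lt_pow_right hp.out.one_lt (Nat.lt_succ_self k)))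
      have hyp : y ^ p = 1 := by
        rw [hy, ← pow_mul, ← pow_succ, ← hk, pow_orderOf_eq_one]
      have hyt : t * y * t = y⁻¹ := by
        have h : MulAut.conj t y = (MulAut.conj t z) ^ p ^ k := by rw [hy, map_pow]
        simp only [MulAut.conj_apply, htinv, hzt] at h
        rw [h, hy, inv_pow]
      refine ⟨y, hyt, hy1, hyp, fun r hr => ?_⟩
      have hc : ⁅y, r⁆ ∈ ⁅Y, R⁆ := commutator_mem_commutator (Y.pow_mem hzY _) hr
      have h1 : t * ⁅y, r⁆ * t = ⁅y, r⁆ := by
        rw [← mem_centralizer_iff.mp htC _ hc, mul_assoc, ht2, mul_one]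
      have hrt : t * r * t = r := by rw [hS (hRS hr), mul_assoc, ht2, mul_one]
      have h2 : MulAut.conj t ⁅y, r⁆ = ⁅y⁻¹, r⁆ := by
        rw [map_commutatorElement]
        simp only [MulAut.conj_apply, htinv, hyt, hrt]
      simp only [MulAut.conj_apply, htinv] at h2
      rw [h1] at h2
      simp only [commutatorElement_def, inv_inv] at h2
      have h3 := mul_right_cancel h2
      have hy2 : Commute (y * y) r := by
        show y * y * r = r * (y * y)
        calc y * y * r = y * (y * r * y⁻¹) * y := by group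
          _ = y * (y⁻¹ * r * y) * y := by rw [h3]
          _ = r * (y * y) := by group
      obtain ⟨m, hm⟩ := hodd
      have hyy : (y * y) ^ (m + 1) = y := by
        rw [← pow_two, ← pow_mul, show 2 * (m + 1) = p + 1 by omega, pow_succ, hyp, one_mul]
      have h4 := hy2.pow_left (m + 1)
      rw [hyy] at h4
      exact h4.eq.symm
    have hyS : y ∉ S := fun h => hy1 (by
      have h1 : y = y⁻¹ := by
        rw [← hyt, hS h, mul_assoc, ht2, mul_one]
      have h2 : y ^ 2 = 1 := by rw [pow_two]; exact mul_eq_one_iff_eq_inv.mpr h1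
      obtain ⟨m, hm⟩ := hodd
      rw [hm, pow_succ, pow_mul, h2, one_pow, one_mul] at hyp
      exact hyp)
    have huniq : ∀ a b : R, a ^ p = 1 → b ^ p = 1 → a ≠ 1 → b ∈ zpowers a := by
      intro a b ha hb ha1
      haveI : Nontrivial R := nontrivial_of_ne a 1 ha1
      haveI := hR.center_nontrivial
      obtain ⟨c, hc⟩ := exists_prime_orderOf_dvd_card' (G := center R) p (by
        obtain ⟨n, hn⟩ := (hR.to_subgroup (center R)).exists_card_eq
        rw [hn]
        refine dvd_pow_self p fun h0 => ?_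
        rw [h0, pow_zero, Subgroup.card_eq_one] at hn
        exact (Subgroup.nontrivial_iff_ne_bot _).mp inferInstance hn)
      have hcp : (c : R) ^ p = 1 := by rw [← hc, ← orderOf_coe, pow_orderOf_eq_one]
      have hc1 : (c : R) ≠ 1 := fun h => hp.out.one_lt.ne (by rw [← hc, ← orderOf_coe, h, orderOf_one])
      have key : ∀ x : R, x ^ p = 1 → x ∈ zpowers (c : R) := by
        intro x hx
        by_contra hxc
        refine no_triple hr (a := ((c : R) : G)) (b := (x : G)) (c := y) ?_ ?_ hyp ?_ ?_ ?_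
          (hyR _ (c : R).2) (hyR _ x.2) fun h => hyS ?_
        · rw [← Subgroup.coe_pow, hcp, Subgroup.coe_one]
        · rw [← Subgroup.coe_pow, hx, Subgroup.coe_one]
        · exact fun h => hc1 (Subtype.ext h)
        · intro h
          obtain ⟨n, hn⟩ := mem_zpowers_iff.mp h
          exact hxc (mem_zpowers_iff.mpr ⟨n, Subtype.ext (by simpa using hn)⟩)
        · exact congrArg Subtype.val (mem_center_iff.mp c.2 x).symm
        · exact hRS (sup_le (zpowers_le.mpr (c : R).2) (zpowers_le.mpr x.2) h)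
      haveI : Fact (Nat.card (zpowers (c : R))).Prime :=
        ⟨by rw [Nat.card_zpowers, orderOf_eq_prime hcp hc1]; exact hp.out⟩
      obtain ⟨n, hn⟩ := mem_zpowers_of_prime_card (g := (⟨a, key a ha⟩ : zpowers (c : R)))
        (g' := ⟨b, key b hb⟩) (p := Nat.card (zpowers (c : R))) rfl (by simpa using ha1)
      exact ⟨n, by simpa using congrArg Subtype.val hn⟩
    obtain ⟨v, hv⟩ := (OddOrder.FixedPointFree.isCyclic_of_unique_order_p hp2 hR huniq).exists_generator
    have hvpow : ∀ g ∈ R, ∃ i : ℕ, g = (v : G) ^ i := fun g hg => by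
      obtain ⟨i, hi⟩ := (mem_powers_iff_mem_zpowers.mpr (hv ⟨g, hg⟩) : (⟨g, hg⟩ : R) ∈ Submonoid.powers v)
      exact ⟨i, by simpa using (congrArg Subtype.val hi).symm⟩
    obtain ⟨m, hfv⟩ : ∃ m : ℕ, f v = tX m := by
      have hord : IsOfFinOrder (tX (1 : ZMod p)) := isOfFinOrder_iff_pow_eq_one.mpr ⟨p, hp.out.pos, tX_pow_p 1⟩
      obtain ⟨m, hm⟩ := (hord.mem_powers_iff_mem_zpowers.mpr (mem_comap.mp v.2.2) :
        f v ∈ Submonoid.powers (tX (1 : ZMod p)))
      exact ⟨m, by rw [← hm]; simp [tX_pow]⟩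
    have hm0 : (m : ZMod p) ≠ 0 := by
      intro h0
      obtain ⟨i, hi⟩ := hvpow (lX 1) ⟨hlXS 1, mem_comap.mpr (by rw [hlX]; exact mem_zpowers _)⟩
      have := congrArg f hi
      rw [hlX, map_pow, hfv, tX_pow, h0, mul_zero] at this
      exact one_ne_zero (tX_injective this)
    -- an element of order `p` of `U` centralised by `t`
    obtain ⟨k, hkU, hkS, hk⟩ : ∃ k : G, k ∈ U ∧ k ∈ S ∧ orderOf k = p := by
      obtain ⟨j, hj⟩ := (IsPGroup.iff_orderOf.mp hU) ⟨x0, hx0U⟩
      rw [orderOf_mk] at hj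
      have hj0 : j ≠ 0 := fun h => hx01 (orderOf_eq_one_iff.mp (by rw [hj, h, pow_zero]))
      refine ⟨x0 ^ p ^ (j - 1), U.pow_mem hx0U _, S.pow_mem hx0S _, ?_⟩
      rw [orderOf_pow' _ (pow_ne_zero _ hp.out.ne_zero), hj,
        Nat.gcd_eq_right (pow_dvd_pow p (Nat.sub_le j 1)), Nat.pow_div (Nat.sub_le j 1) hp.out.pos,
        show j - (j - 1) = 1 by omega, pow_one]
    have hkR : k ∈ R := hUR k hkU hkS
    have hkp : k ^ p = 1 := by rw [← hk]; exact pow_orderOf_eq_one k
    have hcent : ∀ g ∈ S, IsPGroup p (zpowers g) → g ∈ centralizer ({k} : Set G) := by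
      intro g hgS hgp
      refine mem_centralizer_singleton_iff.mpr (commute_of_pElement hgp hk ?_)
      have hk' : g * k * g⁻¹ ∈ R := hUR _ (Subgroup.Normal.conj_mem inferInstance k hkU g)
        (S.mul_mem (S.mul_mem hgS hkS) (S.inv_mem hgS))
      obtain ⟨n, hn⟩ := huniq ⟨k, hkR⟩ ⟨_, hk'⟩ (Subtype.ext (by simpa using hkp))
        (Subtype.ext (by simp [conj_pow, hkp]))
        (fun h => hp.out.one_lt.ne (by rw [← hk, show k = 1 from congrArg Subtype.val h, orderOf_one]))
      exact ⟨n, by simpa using congrArg Subtype.val hn⟩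
    set d := lX 2 * lY (-2⁻¹) * lX 2 * (lX (-1) * lY 1 * lX (-1))
    have hdS : d ∈ S := S.mul_mem (S.mul_mem (S.mul_mem (hlXS _) (hlYS _)) (hlXS _))
      (S.mul_mem (S.mul_mem (hlXS _) (hlYS _)) (hlXS _))
    have hdk : d * k = k * d := by
      refine mem_centralizer_singleton_iff.mp ?_
      have hX : ∀ c, lX c ∈ centralizer ({k} : Set G) := fun c => hcent _ (hlXS c) (hXp c)
      have hY' : ∀ c, lY c ∈ centralizer ({k} : Set G) := fun c => hcent _ (hlYS c) (hYp c)
      exact mul_mem (mul_mem (mul_mem (hX _) (hY' _)) (hX _)) (mul_mem (mul_mem (hX _) (hY' _)) (hX _))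
    have hfd : f d = tD := by simp [d, map_mul, hlX, hlY, tD]
    have hdv : f (d * v * d⁻¹) = tX (4 * (m : ZMod p)) := by
      rw [map_mul, map_mul, map_inv, hfd, hfv, tD_mul_tX hp2, mul_inv_cancel_right]
    obtain ⟨i, hi⟩ := hvpow (d * v * d⁻¹) ⟨S.mul_mem (S.mul_mem hdS (hRS v.2)) (S.inv_mem hdS),
      mem_comap.mpr (by
        rw [hdv]
        refine mem_zpowers_iff.mpr ⟨((4 * m : ℕ) : ℤ), ?_⟩
        rw [zpow_natCast, tX_pow]
        simp)⟩
    obtain ⟨j, hj⟩ := hvpow k hkR
    have hki : k ^ i = k ^ 1 := by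
      rw [pow_one]
      calc k ^ i = ((v : G) ^ j) ^ i := by rw [hj]
        _ = ((v : G) ^ i) ^ j := by rw [← pow_mul, ← pow_mul, mul_comm]
        _ = d * k * d⁻¹ := by rw [← hi, conj_pow, ← hj]
        _ = k := by rw [hdk, mul_inv_cancel_right]
    rw [pow_eq_pow_iff_modEq, hk, ← ZMod.natCast_eq_natCast_iff, Nat.cast_one] at hki
    have h5 := congrArg f hi
    rw [hdv, map_pow, hfv, tX_pow, hki, one_mul] at h5
    have h6 : (3 : ZMod p) * m = 0 := by linear_combination tX_injective h5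
    rcases mul_eq_zero.mp h6 with h | h
    · have h' : ((3 : ℕ) : ZMod p) = 0 := by exact_mod_cast h
      rw [ZMod.natCast_eq_zero_iff] at h'
      have := Nat.le_of_dvd (by norm_num) h'
      omega
    · exact hm0 h
  · -- second case: `t` is fixed-point-free on `W`
    push Not at hU0
    have hWS1 : ∀ w ∈ W, w ∈ S → w = 1 := fun w hw hwS => hU0 w (hWS w hw hwS) hwS
    -- `W` is inverted by `t`, hence abelian
    have hinv : ∀ w ∈ W, t * w * t = w⁻¹ := by
      let Φ : W → W := fun w => ⟨(w : G)⁻¹ * (t * w * t), W.mul_mem (W.inv_mem w.2) (by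
        have := hWn.conj_mem w w.2 t
        rwa [htinv] at this)⟩
      have hΦ : Function.Injective Φ := by
        intro a b hab
        have h := congrArg Subtype.val hab
        simp only [Φ] at h
        have h1 : (b : G) * (a : G)⁻¹ ∈ S := by
          refine mem_centralizer_singleton_iff.mpr ?_
          calc (b : G) * (a : G)⁻¹ * t
              = (b : G) * ((a : G)⁻¹ * (t * a * t)) * (t * (a : G)⁻¹ * t) * t := by
                rw [show t * (a : G)⁻¹ * t = (t * a * t)⁻¹ by simp [mul_assoc, htinv]]; group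
            _ = (b : G) * ((b : G)⁻¹ * (t * b * t)) * (t * (a : G)⁻¹ * t) * t := by rw [h]
            _ = t * b * (t * t) * (a : G)⁻¹ * (t * t) := by group
            _ = t * ((b : G) * (a : G)⁻¹) := by rw [ht2, mul_one, mul_one, mul_assoc]
        exact Subtype.ext (mul_inv_eq_one.mp (hWS1 _ (W.mul_mem b.2 (W.inv_mem a.2)) h1)).symm
      intro w hw
      obtain ⟨a, ha⟩ := (Finite.injective_iff_surjective.mp hΦ) ⟨w, hw⟩
      have ha' : (a : G)⁻¹ * (t * a * t) = w := congrArg Subtype.val ha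
      rw [← ha']
      simp only [mul_inv_rev, inv_inv, htinv, mul_assoc, ht2, mul_one]
    have hWab : ∀ a ∈ W, ∀ b ∈ W, a * b = b * a := by
      intro a ha b hb
      have h := hinv (a⁻¹ * b⁻¹) (W.mul_mem (W.inv_mem ha) (W.inv_mem hb))
      have e1 := hinv a⁻¹ (W.inv_mem ha)
      have e2 := hinv b⁻¹ (W.inv_mem hb)
      rw [inv_inv] at e1 e2
      calc a * b = (t * a⁻¹ * t) * (t * b⁻¹ * t) := by rw [e1, e2]
        _ = t * a⁻¹ * (t * t) * b⁻¹ * t := by group
        _ = t * (a⁻¹ * b⁻¹) * t := by rw [ht2, mul_one]; group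
        _ = b * a := by rw [h, mul_inv_rev, inv_inv, inv_inv]
    letI : CommGroup W :=
      { (inferInstance : Group W) with mul_comm := fun a b => Subtype.ext (hWab a a.2 b b.2) }
    set u := lX 1
    have hUS : ∀ x ∈ U, x ∈ S → x = 1 := hU0
    have hup : u ^ p = 1 := hUS _ ((hfU _).mp (by rw [map_pow, hlX, tX_pow_p])) (S.pow_mem (hlXS 1) _)
    let K : Subgroup G :=
      { carrier := {w | w ∈ W ∧ w ^ p = 1}
        one_mem' := ⟨W.one_mem, one_pow p⟩
        mul_mem' := fun {a b} ha hb =>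
          ⟨W.mul_mem ha.1 hb.1, by
            rw [(show Commute a b from hWab a ha.1 b hb.1).mul_pow, ha.2, hb.2, one_mul]⟩
        inv_mem' := fun {a} ha => ⟨W.inv_mem ha.1, by rw [inv_pow, ha.2, inv_one]⟩ }
    have hKe : Cfsg.IsElementaryAbelian p K :=
      ⟨⟨⟨fun a b => Subtype.ext (hWab a a.2.1 b b.2.1)⟩⟩, fun a ha => ha.2⟩
    have hKW : Nat.card U * p ^ 2 ≤ Nat.card W := by
      choose w hw using fun ab : ZMod p × ZMod p => hsurj _ (tV_mem ab.1 ab.2)
      let Ψ : U × (ZMod p × ZMod p) → W := fun q => ⟨(q.1 : G) * w q.2, by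
        refine ⟨q.2.1, q.2.2, ?_⟩
        rw [map_mul, (hfU _).mpr q.1.2, one_mul, hw]⟩
      have hΨ : Function.Injective Ψ := by
        intro q q' h
        have h' : (q.1 : G) * w q.2 = q'.1 * w q'.2 := congrArg Subtype.val h
        have h2 := congrArg f h'
        rw [map_mul, map_mul, (hfU _).mpr q.1.2, (hfU _).mpr q'.1.2, one_mul, one_mul, hw, hw] at h2
        obtain ⟨e1, e2⟩ := tV_injective h2
        have e : q.2 = q'.2 := Prod.ext e1 e2
        refine Prod.ext (Subtype.ext ?_) e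
        rw [e] at h'
        exact mul_right_cancel h'
      have := Nat.card_le_card_of_injective Ψ hΨ
      rwa [Nat.card_prod, Nat.card_prod, Nat.card_zmod, ← pow_two] at this
    have hKcard : Nat.card K = p ^ 2 := by
      refine le_antisymm (hr K hKe.1 hKe.2) ?_
      let ψ : W →* G := W.subtype.comp (powMonoidHom p)
      have h1 : ψ.range ≤ U := by
        rintro _ ⟨⟨w, a, b, hab⟩, rfl⟩
        refine (hfU _).mp ?_
        show f (w ^ p) = 1
        rw [map_pow, hab, tV_pow]
        simp [tV_zero]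
      have h2 : ψ.ker = K.subgroupOf W := by
        ext w
        simp only [MonoidHom.mem_ker, mem_subgroupOf]
        exact ⟨fun h => ⟨w.2, h⟩, fun h => h.2⟩
      have h3 : Nat.card W = Nat.card ψ.ker * Nat.card ψ.range := by
        rw [← Subgroup.index_ker, Subgroup.card_mul_index]
      have h4 : Nat.card ψ.ker = Nat.card K := by
        rw [h2]
        exact Nat.card_congr (subgroupOfEquivOfLe (show K ≤ W from fun x hx => hx.1)).toEquiv
      have h5 : Nat.card U * p ^ 2 ≤ Nat.card U * Nat.card K := by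
        calc Nat.card U * p ^ 2 ≤ Nat.card W := hKW
          _ = Nat.card K * Nat.card ψ.range := by rw [h3, h4]
          _ ≤ Nat.card K * Nat.card U := Nat.mul_le_mul_left _ (card_le_of_le h1)
          _ = _ := mul_comm _ _
      exact Nat.le_of_mul_le_mul_left h5 Nat.card_pos
    have hKn : ∀ g : G, zpowers g ≤ normalizer (K : Set G) := fun g =>
      zpowers_le.mpr (Coprime.mem_normalizer_of_conj_map_le fun x hx =>
        ⟨hWn.conj_mem x hx.1 g, by rw [conj_pow, hx.2, mul_one, mul_inv_cancel]⟩)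
    have huW : u ∉ W := by
      rintro ⟨a, b, h⟩
      rw [hlX] at h
      have := congrArg (fun M : SL3 p => (M : Matrix (Fin 3) (Fin 3) (ZMod p)) 0 1) h
      simp [tX, tV] at this
    have huK : ¬ ∀ x ∈ K, x * u = u * x := by
      intro hcomm
      obtain ⟨h1, h2⟩ := elementary_extend hKe hup (fun h => huW h.1) hcomm
      have := hr _ h1.1 h1.2
      rw [h2, hKcard] at this
      exact absurd this (not_le.mpr (lt_mul_of_one_lt_right (pow_pos hp.out.pos 2) hp.out.one_lt))
    -- commutation with `u` on `W`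
    let c : W →* W := ((MulAut.conj u).toMonoidHom.comp W.subtype).codRestrict W fun w => hWn.conj_mem w w.2 u
    let δ : W →* W := c / MonoidHom.id W
    have hc : ∀ w : W, ((c w : W) : G) = u * w * u⁻¹ := fun w => rfl
    have hcd : ∀ w : W, c w = w * δ w := fun w => by
      show c w = w * (c w / w)
      rw [mul_div_cancel]
    have hδ : ∀ w : W, ((δ w : W) : G) = ⁅u, (w : G)⁆ := fun w => by
      show ((c w / w : W) : G) = _
      rw [Subgroup.coe_div, hc, div_eq_mul_inv, commutatorElement_def]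
    have hup' : IsPGroup p (zpowers u) := hXp 1
    have hKK : ∀ k : W, (k : G) ∈ K → δ (δ k) = 1 := by
      intro k hk
      set C1 := ⁅K, zpowers u⁆
      have hKb : K ≠ ⊥ := fun h => by
        have := hKcard
        rw [h, Subgroup.card_bot] at this
        exact (Nat.one_lt_pow two_ne_zero hp.out.one_lt).ne this
      have hKp : IsPGroup p K := hW.to_le fun x hx => hx.1
      have hlt1 := Coprime.commutator_lt_of_isPGroup hup' hKp (hKn u) hKb
      have h1 : ((δ k : W) : G) ∈ C1 := by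
        rw [hδ, show C1 = ⁅zpowers u, K⁆ from commutator_comm _ _]
        exact commutator_mem_commutator (mem_zpowers u) hk
      have h2 : ((δ (δ k) : W) : G) ∈ ⁅C1, zpowers u⁆ := by
        rw [hδ, commutator_comm]
        exact commutator_mem_commutator (mem_zpowers u) h1
      have hn1 : zpowers u ≤ normalizer (C1 : Set G) :=
        (le_inf (hKn u) Subgroup.le_normalizer).trans (le_normalizer_comm _ _)
      have hC2 : ⁅C1, zpowers u⁆ = ⊥ := by
        by_cases hC1 : C1 = ⊥
        · rw [hC1, commutator_bot_left]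
        have hlt2 := Coprime.commutator_lt_of_isPGroup hup' (hKp.to_le hlt1.le) hn1 hC1
        obtain ⟨a, ha, ha'⟩ := (Nat.dvd_prime_pow hp.out).mp (hKcard ▸ card_dvd_of_le hlt1.le)
        have ha1 : a ≤ 1 := by
          by_contra h
          exact hlt1.ne (eq_of_le_of_card_ge hlt1.le (by
            rw [hKcard, ha', show a = 2 by omega]))
        refine Subgroup.eq_bot_of_card_eq _ ?_
        obtain ⟨b, hb, hb'⟩ := (Nat.dvd_prime_pow hp.out).mp (ha' ▸ card_dvd_of_le hlt2.le)
        have hb0 : b = 0 := by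
          by_contra h
          exact hlt2.ne (eq_of_le_of_card_ge hlt2.le (by
            rw [ha', hb']; exact Nat.pow_le_pow_right hp.out.pos (by omega)))
        rw [hb', hb0, pow_zero]
      rw [hC2, mem_bot] at h2
      exact Subtype.ext h2
    -- `u` centralises the `p`-th powers of the elements of order dividing `p ^ 2`
    have hfix : ∀ l : W, l ^ (p ^ 2) = 1 → δ (l ^ p) = 1 := by
      intro l hl
      have hlp : ((l ^ p : W) : G) ∈ K := ⟨(l ^ p).2, by
        rw [← Subgroup.coe_pow, ← pow_mul, ← pow_two, hl, Subgroup.coe_one]⟩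
      have hd2 : (δ (δ l)) ^ p = 1 := by rw [← map_pow, ← map_pow, hKK _ hlp]
      have hd4 : δ (δ (δ (δ l))) = 1 := hKK _ ⟨(δ (δ l)).2, by rw [← Subgroup.coe_pow, hd2, Subgroup.coe_one]⟩
      have hd3 : (δ (δ (δ l))) ^ p = 1 := by rw [← map_pow, hd2, map_one]
      have hit : ∀ n : ℕ, c^[n] l =
          l * δ l ^ n * δ (δ l) ^ n.choose 2 * δ (δ (δ l)) ^ n.choose 3 := by
        intro n
        induction n with
        | zero => simp
        | succ n ih =>
          rw [Function.iterate_succ_apply', ih, map_mul, map_mul, map_mul, map_pow, map_pow, map_pow,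
            hcd l, hcd (δ l), hcd (δ (δ l)), hcd (δ (δ (δ l))), hd4, mul_one,
            Nat.choose_succ_succ' n 1, Nat.choose_one_right, Nat.choose_succ_succ' n 2]
          exact binom_step l (δ l) (δ (δ l)) (δ (δ (δ l))) n (n.choose 2) (n.choose 3)
      have hitG : ∀ n : ℕ, ((c^[n] l : W) : G) = u ^ n * l * (u ^ n)⁻¹ := by
        intro n
        induction n with
        | zero => simp
        | succ n ih => rw [Function.iterate_succ_apply', hc, ih, pow_succ']; group
      have h := hit p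
      obtain ⟨a, ha⟩ := hp.out.dvd_choose_self (two_ne_zero) (show 2 < p by omega)
      obtain ⟨b, hb⟩ := hp.out.dvd_choose_self (three_ne_zero) hp3
      rw [ha, hb, pow_mul (δ (δ l)), pow_mul (δ (δ (δ l))), hd2, hd3, one_pow, one_pow, mul_one,
        mul_one, show c^[p] l = l from Subtype.ext (by rw [hitG, hup]; simp)] at h
      rw [map_pow]
      exact mul_eq_left.mp h.symm
    let M : Subgroup G :=
      { carrier := {x | ∃ l ∈ W, l ^ (p ^ 2) = 1 ∧ l ^ p = x}
        one_mem' := ⟨1, W.one_mem, one_pow _, one_pow _⟩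
        mul_mem' := by
          rintro _ _ ⟨a, ha, ha2, rfl⟩ ⟨b, hb, hb2, rfl⟩
          have hab : Commute a b := hWab a ha b hb
          exact ⟨a * b, W.mul_mem ha hb, by rw [hab.mul_pow, ha2, hb2, one_mul], hab.mul_pow p⟩
        inv_mem' := by
          rintro _ ⟨a, ha, ha2, rfl⟩
          exact ⟨a⁻¹, W.inv_mem ha, by rw [inv_pow, ha2, inv_one], inv_pow a p⟩ }
    have hMK : M ≤ K := by
      rintro _ ⟨l, hl, hl2, rfl⟩
      exact ⟨W.pow_mem hl p, by rw [← pow_mul, ← pow_two, hl2]⟩
    have hMu : ∀ x ∈ M, x * u = u * x := by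
      rintro _ ⟨l, hl, hl2, rfl⟩
      have h := congrArg Subtype.val (hfix ⟨l, hl⟩ (Subtype.ext (by simpa using hl2)))
      rw [hδ, OneMemClass.coe_one, commutatorElement_eq_one_iff_mul_comm] at h
      simpa using h.symm
    have hMne : M ≠ ⊥ := by
      obtain ⟨w, hw, hwK⟩ : ∃ w ∈ W, w ∉ K := by
        by_contra h
        push Not at h
        have h1 : Nat.card U * p ^ 2 ≤ 1 * p ^ 2 := by
          rw [one_mul]; exact hKW.trans ((card_le_of_le h).trans hKcard.le)
        exact hUb (U.eq_bot_of_card_le (Nat.le_of_mul_le_mul_right h1 (pow_pos hp.out.pos 2)))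
      obtain ⟨j, hj⟩ := (IsPGroup.iff_orderOf.mp hW) ⟨w, hw⟩
      rw [orderOf_mk] at hj
      have hj2 : 2 ≤ j := by
        by_contra h
        refine hwK ⟨hw, orderOf_dvd_iff_pow_eq_one.mp ?_⟩
        rw [hj]
        simpa using pow_dvd_pow p (show j ≤ 1 by omega)
      obtain ⟨i, rfl⟩ := Nat.exists_eq_add_of_le' hj2
      intro hbot
      have hm : (w ^ p ^ i) ^ p ∈ M :=
        ⟨_, W.pow_mem hw _, by rw [← pow_mul, ← pow_add, ← hj, pow_orderOf_eq_one], rfl⟩
      rw [hbot, mem_bot, ← pow_mul, ← pow_succ] at hm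
      have h1 := orderOf_dvd_of_pow_eq_one hm
      rw [hj] at h1
      have := (Nat.pow_dvd_pow_iff_le_right hp.out.one_lt).mp h1
      omega
    have hMcard : Nat.card M = p := by
      obtain ⟨a, ha, ha'⟩ := (Nat.dvd_prime_pow hp.out).mp (hKcard ▸ card_dvd_of_le hMK)
      interval_cases a
      · exact absurd (Subgroup.eq_bot_of_card_eq _ (by simpa using ha')) hMne
      · simpa using ha'
      · have hMKe : M = K := eq_of_le_of_card_ge hMK (by rw [hKcard, ha'])
        exact absurd (fun x hx => hMu x (hMKe ▸ hx)) huK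
    obtain ⟨x, hx, hx1⟩ := M.bot_or_exists_ne_one.resolve_left hMne
    have hxord : orderOf x = p := orderOf_eq_prime (hMK hx).2 hx1
    have hMx : M = zpowers x := (eq_of_le_of_card_ge (zpowers_le.mpr hx)
      (by rw [hMcard, Nat.card_zpowers, hxord])).symm
    have hcent : ∀ g : G, IsPGroup p (zpowers g) → g ∈ centralizer ({x} : Set G) := by
      intro g hg
      refine mem_centralizer_singleton_iff.mpr (commute_of_pElement hg hxord ?_)
      rw [← hMx]
      obtain ⟨l, hl, hl2, rfl⟩ := hx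
      exact ⟨g * l * g⁻¹, hWn.conj_mem l hl g,
        by rw [conj_pow, hl2, mul_one, mul_inv_cancel], conj_pow⟩
    have ht : t = lX 1 * lY (-1) * lX 1 * (lX 1 * lY (-1) * lX 1) := by
      refine mul_inv_eq_one.mp (hUS _ ((hfU _).mp ?_) (S.mul_mem ?_ (S.inv_mem ?_)))
      · simp only [map_mul, map_inv, hft, hlX, hlY, ← tT_eq, mul_inv_cancel]
      · exact mem_centralizer_singleton_iff.mpr rfl
      · exact S.mul_mem (S.mul_mem (S.mul_mem (hlXS _) (hlYS _)) (hlXS _))
          (S.mul_mem (S.mul_mem (hlXS _) (hlYS _)) (hlXS _))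
    have htx : t ∈ centralizer ({x} : Set G) := by
      rw [ht]
      have h1 := hcent _ (hXp 1)
      have h2 := hcent _ (hYp (-1))
      exact mul_mem (mul_mem (mul_mem h1 h2) h1) (mul_mem (mul_mem h1 h2) h1)
    exact hx1 (hWS1 x (hMK hx).1
      (mem_centralizer_singleton_iff.mpr (mem_centralizer_singleton_iff.mp htx).symm))

end CfsgLib.Components.QdRankTwo
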