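import Cfsg.Prelude.Def_CaseTheorems
import Cfsg.Agent.Lib.Components.Quasisimple
import Cfsg.Agent.Lib.Involution.ZStar.Main
import Cfsg.Agent.Lib.BrauerSuzuki.Setup
import Cfsg.Agent.S0016

/-!
Quasisimple groups of 2-rank one.
-/

set_option autoImplicit false
set_option linter.style.haveILetI false
set_option linter.unusedSectionVars false

namespace CfsgLib.Components.RankOne

open Subgroup CfsgLib.Involution
open scoped commutatorElement

universe u
variable {L : Type u} [Group L] [Finite L]

/-- Commuting involutions coincide in 2-rank one. -/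
theorem eq_of_commute (hrk : Cfsg.PRankLE 2 1 L) {u v : L} (hu : orderOf u = 2) (hv : orderOf v = 2)
    (hc : Commute u v) : u = v := by
  by_contra hne
  have hK := TwoGroupLifts.isKleinFour_of_four (Dihedral.ne_one hu) (Dihedral.ne_one hv) hne
    (Dihedral.mul_self hu) (Dihedral.mul_self hv) hc.eq
    (T := TwoGroupLifts.fourGroup u v (Dihedral.mul_self hu) (Dihedral.mul_self hv) hc.eq)
    fun _ => TwoGroupLifts.mem_fourGroup
  haveI := hK
  have h := hrk _ ⟨⟨fun x y => mul_comm_of_exponent_two IsKleinFour.exponent_two x y⟩⟩ fun a ha => by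
    have h1 : (⟨a, ha⟩ : TwoGroupLifts.fourGroup u v (Dihedral.mul_self hu) (Dihedral.mul_self hv) hc.eq) ^ 2 = 1 := by
      rw [← IsKleinFour.exponent_two (G := TwoGroupLifts.fourGroup u v (Dihedral.mul_self hu) (Dihedral.mul_self hv) hc.eq)]
      exact Monoid.pow_exponent_eq_one _
    simpa using congrArg Subtype.val h1
  rw [IsKleinFour.card_four] at h
  norm_num at h

/-- A quasisimple group of even order and 2-rank one has a central involution and quaternion Sylow
2-subgroups. -/
theorem quaternion_of_quasisimple (hq : Cfsg.IsQuasisimple L) (heven : Even (Nat.card L))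
    (hrk : Cfsg.PRankLE 2 1 L) :
    ∃ t : L, orderOf t = 2 ∧ t ∈ center L ∧
      ∃ (S : Sylow 2 L) (n : ℕ), Nonempty (↥(S : Subgroup L) ≃* QuaternionGroup (2 ^ (n + 1))) := by
  haveI : Fact (Nat.Prime 2) := ⟨Nat.prime_two⟩
  haveI : Group.IsPerfect L := IsQuasisimple.isPerfect hq
  haveI : Nontrivial L := IsQuasisimple.nontrivial hq
  obtain ⟨t, ht⟩ := exists_prime_orderOf_dvd_card' (G := L) 2 heven.two_dvd
  have hiso : Cfsg.IsIsolatedInvolution t := ⟨ht, fun g hc =>
    (eq_of_commute hrk ht ((Dihedral.orderOf_conj g t).trans ht) hc).symm⟩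
  have hodd : Cfsg.oddCore L ≤ center L := by
    rcases IsQuasisimple.normal_le_center_or_top hq (Cfsg.oddCore L) with h | h
    · exact h
    · exfalso
      have := CfsgLib.Involution.ZStar.odd_card_oddCore (G := L)
      rw [h, Subgroup.card_top] at this
      exact Nat.not_even_iff_odd.mpr this heven
  have hcent : ∀ g : L, ⁅t, g⁆ ∈ center L := fun g => by
    rw [commutatorElement_def]; exact hodd (CfsgLib.Involution.ZStar.comm_mem_oddCore hiso g)
  have htc : t ∈ center L := by
    have hle : commutator L ≤ centralizer {t} := by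
      rw [commutator_def, commutator_le]
      intro a _ b _
      rw [mem_centralizer_singleton_iff]
      have ea : t * a * t⁻¹ = ⁅t, a⁆ * a := by rw [commutatorElement_def]; group
      have eb : t * b * t⁻¹ = ⁅t, b⁆ * b := by rw [commutatorElement_def]; group
      have c1 : ∀ g x : L, Commute ⁅t, g⁆ x := fun g x => (mem_center_iff.mp (hcent g) x).symm
      have hconj : t * ⁅a, b⁆ * t⁻¹ = ⁅a, b⁆ := by
        calc t * ⁅a, b⁆ * t⁻¹ = ⁅t * a * t⁻¹, t * b * t⁻¹⁆ := by simp only [commutatorElement_def]; group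
          _ = ⁅⁅t, a⁆ * a, ⁅t, b⁆ * b⁆ := by rw [ea, eb]
          _ = ⁅a, b⁆ := by
            generalize hu : ⁅t, a⁆ = u
            generalize hv : ⁅t, b⁆ = v
            have cu : ∀ x, Commute u x := hu ▸ c1 a
            have cv : ∀ x, Commute v x := hv ▸ c1 b
            rw [(cu a).eq, (cv b).eq]
            simp only [commutatorElement_def, mul_inv_rev]
            calc a * u * (b * v) * (u⁻¹ * a⁻¹) * (v⁻¹ * b⁻¹)
                = a * (u * (b * v)) * (u⁻¹ * a⁻¹) * (v⁻¹ * b⁻¹) := by group
              _ = a * b * (v * a⁻¹) * (v⁻¹ * b⁻¹) := by rw [(cu (b * v)).eq]; group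
              _ = a * b * a⁻¹ * b⁻¹ := by rw [(cv a⁻¹).eq]; group
      calc ⁅a, b⁆ * t = t * ⁅a, b⁆ * t⁻¹ * t := by rw [hconj]
        _ = t * ⁅a, b⁆ := by group
    rw [Group.IsPerfect.commutator_eq_top] at hle
    rw [mem_center_iff]
    exact fun g => mem_centralizer_singleton_iff.mp (hle (mem_top g))
  obtain ⟨S⟩ : Nonempty (Sylow 2 L) := inferInstance
  refine ⟨t, ht, htc, S, ?_⟩
  -- every 2-subgroup is cyclic or quaternion
  have hclass : ∀ P : Subgroup L, IsPGroup 2 P →
      IsCyclic P ∨ ∃ n : ℕ, Nonempty (↥P ≃* QuaternionGroup (2 ^ n)) := by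
    intro P hP
    refine (Cfsg.Agent.S0016.result 2 hP fun H K hH hK => ?_).imp id (fun h => h.2)
    have huniq : ∀ u : P, orderOf u = 2 → (u : L) = t := fun u hu =>
      eq_of_commute hrk (by rw [Subgroup.orderOf_coe]; exact hu) ht (mem_center_iff.mp htc (u : L))
    obtain ⟨⟨a, haH⟩, ha⟩ := exists_prime_orderOf_dvd_card' (G := H) 2 hH.symm.dvd
    obtain ⟨⟨b, hbK⟩, hb⟩ := exists_prime_orderOf_dvd_card' (G := K) 2 hK.symm.dvd
    rw [Subgroup.orderOf_mk] at ha hb
    have hab : a = b := Subtype.ext ((huniq a ha).trans (huniq b hb).symm)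
    have e1 : zpowers a = H := eq_of_le_of_card_ge (zpowers_le.mpr haH) (by rw [Nat.card_zpowers, hH, ha])
    have e2 : zpowers b = K := eq_of_le_of_card_ge (zpowers_le.mpr hbK) (by rw [Nat.card_zpowers, hK, hb])
    rw [← e1, ← e2, hab]
  have hnc : ¬ IsCyclic (S : Subgroup L) := by
    intro hc
    have hnpc : Cfsg.HasNormalPComplement 2 L := by
      refine CfsgLib.BrauerSuzuki.npc_of_cyclic_two_subgroups fun P hP => ?_
      obtain ⟨T, hT⟩ := hP.exists_le_sylow
      haveI : IsCyclic (T : Subgroup L) := isCyclic_of_surjective (S.equiv T).toMonoidHom (S.equiv T).surjective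
      exact isCyclic_of_injective (inclusion hT) (inclusion_injective hT)
    have hco := CfsgLib.Fusion.Basic.npc_iff_coprime.mp hnpc
    have htop : Cfsg.pResidual 2 L = ⊤ := by
      by_contra hne
      haveI : Nontrivial (L ⧸ Cfsg.pResidual 2 L) := QuotientGroup.nontrivial_iff.mpr hne
      haveI := (CfsgLib.Fusion.Basic.isPGroup_quotient_pResidual (G := L) (p := 2)).isNilpotent
      exact Group.IsPerfect.not_isSolvable (L ⧸ Cfsg.pResidual 2 L) inferInstance
    rw [htop, Subgroup.card_top, Nat.coprime_two_right] at hco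
    exact Nat.not_even_iff_odd.mpr hco heven
  rcases hclass _ S.2 with h | ⟨n, ⟨e⟩⟩
  · exact absurd h hnc
  · cases n with
    | zero =>
      refine absurd ?_ hnc
      haveI : IsCyclic (QuaternionGroup (2 ^ 0)) := by
        show IsCyclic (QuaternionGroup 1)
        exact QuaternionGroup.quaternionGroup_one_isCyclic
      exact isCyclic_of_surjective e.symm.toMonoidHom e.symm.surjective
    | succ n => exact ⟨n, ⟨e⟩⟩

end CfsgLib.Components.RankOne
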