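import Cfsg.Agent.Lib.Components.GLComponent
import Cfsg.Agent.Lib.Components.GlaubermanSylow
import Cfsg.Prelude.Def_Local

/-!
The corner `SL(k, F)` is a standard subgroup of `SL(k + 1, F)` for even `k` and odd `|F|`.
-/

set_option autoImplicit false
set_option linter.style.haveILetI false
set_option linter.unusedSectionVars false
set_option linter.style.show false
set_option linter.unusedSimpArgs false
set_option backward.isDefEq.respectTransparency false
set_option maxHeartbeats 400000

namespace CfsgLib.Components.SLStandard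

open Matrix CfsgLib.Classical CfsgLib.Components
open scoped commutatorElement

variable {F : Type*} [Field F] [Fintype F] [DecidableEq F] {k : ℕ}

local notation "SLn" => SpecialLinearGroup (Fin (k + 1)) F
local notation "inc" => incMat F (Fin.castSucc : Fin k → Fin (k + 1))
local notation "Mn" => Matrix (Fin (k + 1)) (Fin (k + 1)) F

theorem coe_mul' (a b : SLn) : ((a * b : SLn) : Mn) = (a : Mn) * (b : Mn) := rfl

theorem coe_one' : ((1 : SLn) : Mn) = 1 := rfl

theorem inc_apply (X : Matrix (Fin k) (Fin k) F) (i j : Fin (k + 1)) :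
    (inc * X * (inc)ᵀ) i j =
      (Fin.lastCases (0 : F) (fun a => Fin.lastCases (0 : F) (fun b => X a b) j) i) := by
  simp only [incMat, Matrix.mul_apply, Matrix.transpose_apply, Matrix.submatrix_apply, id,
    Matrix.one_apply]
  cases i using Fin.lastCases with
  | last => simp [Fin.castSucc_ne_last, eq_comm (a := Fin.last k)]
  | cast a =>
    cases j using Fin.lastCases with
    | last => simp [Fin.castSucc_ne_last, eq_comm (a := Fin.last k)]
    | cast b => simp [Fin.castSucc_inj, eq_comm]

/-- The corner embedding. -/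
def corner (k : ℕ) : SpecialLinearGroup (Fin k) F →* SpecialLinearGroup (Fin (k + 1)) F :=
  slEmbed Fin.castSucc (Fin.castSucc_injective k)

theorem corner_apply (A : SpecialLinearGroup (Fin k) F) (i j : Fin (k + 1)) :
    ((corner k A : SLn) : Mn) i j =
      Fin.lastCases (if j = Fin.last k then (1 : F) else 0)
        (fun a => Fin.lastCases (0 : F) (fun b => (A : Matrix (Fin k) (Fin k) F) a b) j) i := by
  rw [corner, slEmbed_coe, Matrix.add_apply, inc_apply]
  cases i using Fin.lastCases with
  | last => simp [Matrix.one_apply, eq_comm]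
  | cast a =>
    cases j using Fin.lastCases with
    | last => simp [Matrix.one_apply, Fin.castSucc_ne_last]
    | cast b => by_cases hab : a = b <;> simp [Matrix.one_apply, Fin.castSucc_inj, hab]

theorem corner_injective : Function.Injective (corner (F := F) k) := by
  intro A B h
  apply sl_ext
  ext a b
  have := congrArg (fun g : SLn => (g : Mn) a.castSucc b.castSucc) h
  simpa [corner_apply] using this

/-- The signs `(-1, …, -1, 1)`. -/
def sgn (k : ℕ) (i : Fin (k + 1)) : F := if i = Fin.last k then 1 else -1

section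
variable {t : SpecialLinearGroup (Fin (k + 1)) F}
  (ht : (t : Matrix (Fin (k + 1)) (Fin (k + 1)) F) = diagonal (sgn k)) (h2 : (-1 : F) ≠ 1)

include ht h2 in
theorem mem_centralizer_t {g : SLn} :
    g ∈ Subgroup.centralizer ({t} : Set SLn) ↔
      ∀ j : Fin (k + 1), j ≠ Fin.last k →
        (g : Mn) (Fin.last k) j = 0 ∧ (g : Mn) j (Fin.last k) = 0 := by
  rw [Subgroup.mem_centralizer_singleton_iff]
  have e : g * t = t * g ↔ (g : Mn) * diagonal (sgn k) = diagonal (sgn k) * (g : Mn) := by
    rw [← ht]
    exact ⟨fun h => congrArg (fun x : SLn => (x : Mn)) h, fun h => sl_ext h⟩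
  rw [e]
  constructor
  · intro h j hj
    have a := congrFun (congrFun h (Fin.last k)) j
    have b := congrFun (congrFun h j) (Fin.last k)
    simp only [sgn, mul_diagonal, diagonal_mul, if_neg hj, if_true, mul_one, one_mul] at a b
    constructor
    · by_contra hx
      apply h2
      have h' : (g : Mn) (Fin.last k) j * (-1 : F) = (g : Mn) (Fin.last k) j * 1 := by
        rw [mul_one]; exact a
      exact mul_left_cancel₀ hx h'
    · by_contra hx
      apply h2
      have h' : (-1 : F) * (g : Mn) j (Fin.last k) = 1 * (g : Mn) j (Fin.last k) := by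
        rw [one_mul]; exact b.symm
      exact mul_right_cancel₀ hx h'
  · intro h
    ext i j
    simp only [sgn, mul_diagonal, diagonal_mul]
    by_cases hi : i = Fin.last k <;> by_cases hj : j = Fin.last k <;> simp [hi, hj]
    · simp [(h j hj).1]
    · simp [(h i hi).2]

include ht h2 in
theorem range_le : (corner (F := F) k).range ≤ Subgroup.centralizer ({t} : Set SLn) := by
  rintro _ ⟨A, rfl⟩
  rw [mem_centralizer_t ht h2]
  intro j hj
  obtain ⟨b, rfl⟩ := Fin.exists_castSucc_eq.mpr hj
  simp [corner_apply, Fin.castSucc_ne_last]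

include ht h2 in
theorem mem_range_iff {g : SLn} (hg : g ∈ Subgroup.centralizer ({t} : Set SLn)) :
    g ∈ (corner (F := F) k).range ↔ (g : Mn) (Fin.last k) (Fin.last k) = 1 := by
  constructor
  · rintro ⟨A, rfl⟩; simp [corner_apply]
  · intro h0
    set X : Matrix (Fin k) (Fin k) F := (g : Mn).submatrix Fin.castSucc Fin.castSucc with hX
    have e : (g : Mn) = 1 + inc * (X - 1) * (inc)ᵀ := by
      ext i j
      rw [Matrix.add_apply, inc_apply]
      cases i using Fin.lastCases with
      | last =>
        cases j using Fin.lastCases with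
        | last => simp [h0]
        | cast b =>
          simp [((mem_centralizer_t ht h2).mp hg b.castSucc (Fin.castSucc_ne_last b)).1,
            Matrix.one_apply, eq_comm (a := Fin.last k), Fin.castSucc_ne_last]
      | cast a =>
        cases j using Fin.lastCases with
        | last =>
          simp [((mem_centralizer_t ht h2).mp hg a.castSucc (Fin.castSucc_ne_last a)).2,
            Matrix.one_apply, Fin.castSucc_ne_last]
        | cast b => by_cases hab : a = b <;> simp [hX, Matrix.one_apply, Fin.castSucc_inj, hab]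
    have hd : (g : Mn).det = 1 := g.2
    have hdX : X.det = 1 := by
      rw [e, Matrix.mul_assoc, Matrix.det_one_add_mul_comm, Matrix.mul_assoc,
        incMat_transpose_mul _ (Fin.castSucc_injective k), Matrix.mul_one, add_sub_cancel] at hd
      exact hd
    exact ⟨⟨X, hdX⟩, sl_ext e.symm⟩

include ht h2 in
theorem range_normal :
    ((corner (F := F) k).range.subgroupOf (Subgroup.centralizer ({t} : Set SLn))).Normal := by
  have hmul : ∀ a ∈ Subgroup.centralizer ({t} : Set SLn), ∀ b : SLn,
      ((a * b : SLn) : Mn) (Fin.last k) (Fin.last k) =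
        (a : Mn) (Fin.last k) (Fin.last k) * (b : Mn) (Fin.last k) (Fin.last k) := by
    intro a ha b
    rw [coe_mul', Matrix.mul_apply, Finset.sum_eq_single (Fin.last k)]
    · intro j _ hj
      rw [((mem_centralizer_t ht h2).mp ha j hj).1, zero_mul]
    · simp
  refine ⟨fun x hx c => Subgroup.mem_subgroupOf.mpr ?_⟩
  have h0 := (mem_range_iff ht h2 x.2).mp (Subgroup.mem_subgroupOf.mp hx)
  refine (mem_range_iff ht h2 (c * x * c⁻¹).2).mpr ?_
  show ((((c : SLn) * x * (c : SLn)⁻¹) : SLn) : Mn) (Fin.last k) (Fin.last k) = 1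
  have h1 := hmul _ c.2 (c : SLn)⁻¹
  rw [mul_inv_cancel, coe_one', one_apply_eq] at h1
  rw [hmul _ (mul_mem c.2 x.2), hmul _ c.2, h0, mul_one, ← h1]

include ht in
theorem t_mem_range (hk : Even k) : t ∈ (corner (F := F) k).range := by
  refine ⟨⟨diagonal fun _ => (-1 : F), by simp [det_diagonal, hk.neg_one_pow]⟩, ?_⟩
  apply sl_ext
  rw [ht]
  ext i j
  rw [corner_apply]
  cases i using Fin.lastCases with
  | last => by_cases hj : j = Fin.last k <;> simp [sgn, hj, diagonal_apply, eq_comm (a := Fin.last k)]
  | cast a =>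
    cases j using Fin.lastCases with
    | last => simp [sgn, diagonal_apply, Fin.castSucc_ne_last]
    | cast b => by_cases hab : a = b <;> simp [sgn, diagonal_apply, Fin.castSucc_ne_last, hab]

include ht h2 in
theorem centralizer_range_diag (hk : Even k) {g : SLn}
    (hg : g ∈ Subgroup.centralizer ((corner (F := F) k).range : Set SLn)) :
    g ∈ Subgroup.centralizer ({t} : Set SLn) ∧
      ∃ a b : F, (g : Mn) = diagonal fun i => if i = Fin.last k then b else a := by
  have hgt : g ∈ Subgroup.centralizer ({t} : Set SLn) :=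
    Subgroup.mem_centralizer_singleton_iff.mpr
      (Subgroup.mem_centralizer_iff.mp hg t (t_mem_range ht hk)).symm
  refine ⟨hgt, ?_⟩
  set X : Matrix (Fin k) (Fin k) F := (g : Mn).submatrix Fin.castSucc Fin.castSucc with hX
  have hcomm : ∀ i j : Fin k, i ≠ j → Commute (Matrix.single i j (1 : F)) X := by
    intro i j hij
    have h := congrArg (fun x : SLn => (x : Mn)) (Subgroup.mem_centralizer_iff.mp hg _
      ⟨SpecialLinearGroup.transvection hij (1 : F), rfl⟩)
    simp only [corner, coe_mul', slEmbed_coe, SpecialLinearGroup.transvection_coe,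
      add_sub_cancel_left, incMat_mul_single_mul, Matrix.add_mul, Matrix.mul_add, Matrix.one_mul,
      Matrix.mul_one, add_right_inj] at h
    ext a b
    have h' := congrFun (congrFun h a.castSucc) b.castSucc
    simpa [Matrix.mul_apply, Matrix.single_apply, hX, Fin.castSucc_inj, ite_and] using h'
  obtain ⟨a, ha⟩ := mem_range_scalar_of_commute_single hcomm
  refine ⟨a, (g : Mn) (Fin.last k) (Fin.last k), ?_⟩
  ext i j
  cases i using Fin.lastCases with
  | last =>
    cases j using Fin.lastCases with
    | last => simp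
    | cast b =>
      simp [diagonal_apply, ((mem_centralizer_t ht h2).mp hgt _ (Fin.castSucc_ne_last b)).1,
        eq_comm (a := Fin.last k), Fin.castSucc_ne_last]
  | cast c =>
    cases j using Fin.lastCases with
    | last =>
      simp [diagonal_apply, ((mem_centralizer_t ht h2).mp hgt _ (Fin.castSucc_ne_last c)).2,
        Fin.castSucc_ne_last]
    | cast b =>
      have h' := congrFun (congrFun ha c) b
      rw [show (g : Mn) c.castSucc b.castSucc = X c b from rfl, ← h']
      by_cases hcb : c = b <;> simp [hcb, diagonal_apply, Fin.castSucc_ne_last]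

include ht h2 in
theorem involution_eq (hk0 : 0 < k) (hk : Even k) {g : SLn}
    (hg : g ∈ Subgroup.centralizer ((corner (F := F) k).range : Set SLn)) (ho : orderOf g = 2) :
    g = t := by
  obtain ⟨-, a, b, e⟩ := centralizer_range_diag ht h2 hk hg
  set f : Fin (k + 1) → F := fun i => if i = Fin.last k then b else a with hf
  have h1 : diagonal f * diagonal f = (1 : Mn) := by
    have h := congrArg (fun x : SLn => (x : Mn)) (ho ▸ pow_orderOf_eq_one g : g ^ 2 = 1)
    simpa only [pow_two, coe_mul', coe_one', e] using h
  rw [diagonal_mul_diagonal, ← diagonal_one, diagonal_injective.eq_iff] at h1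
  have ha : a * a = 1 := by
    have := congrFun h1 (Fin.castSucc ⟨0, hk0⟩)
    rwa [show f (Fin.castSucc ⟨0, hk0⟩) = a from if_neg (Fin.castSucc_ne_last _)] at this
  have hak : a ^ k = 1 := by
    obtain ⟨m, rfl⟩ := hk
    rw [pow_add, ← mul_pow, ha, one_pow]
  have hb : b = 1 := by
    have hd : (g : Mn).det = 1 := g.2
    rw [e, det_diagonal, Fin.prod_univ_castSucc] at hd
    simpa [hf, Fin.castSucc_ne_last, hak] using hd
  rcases mul_self_eq_one_iff.mp ha with ha1 | ha1
  · exfalso
    refine (show g ≠ 1 from fun h => by simp [h] at ho) (sl_ext ?_)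
    rw [e, coe_one', ← diagonal_one]
    congr 1; funext i
    by_cases hi : i = Fin.last k <;> simp [hf, hi, ha1, hb]
  · apply sl_ext; rw [e, ht]; congr 1; funext i
    by_cases hi : i = Fin.last k <;> simp [hf, sgn, hi, ha1, hb]

include ht h2 in
theorem isStandard (hk2 : 2 ≤ k) (hk : Even k) (hq : k = 2 → 4 ≤ Fintype.card F) :
    (Cfsg.layer ↥(Subgroup.centralizer ({t} : Set SLn))).map
        (Subgroup.centralizer ({t} : Set SLn)).subtype = (corner (F := F) k).range ∧
      Cfsg.IsStandardSubgroup (corner (F := F) k).range := by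
  set C := Subgroup.centralizer ({t} : Set SLn) with hC
  set E := (corner (F := F) k).range with hE
  have hqs : Cfsg.IsQuasisimple E := IsQuasisimple.of_mulEquiv
    (GLComponent.sl_isQuasisimple hk2 hq) (MonoidHom.ofInjective corner_injective)
  have hEC : E ≤ C := range_le ht h2
  have htC : t ∈ Subgroup.centralizer (E : Set SLn) := Subgroup.mem_centralizer_iff.mpr
    fun y hy => Subgroup.mem_centralizer_singleton_iff.mp (hEC hy)
  have hto : orderOf t = 2 := by
    refine orderOf_eq_prime ?_ fun he => h2 ?_
    · apply sl_ext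
      rw [pow_two, coe_mul', ht, diagonal_mul_diagonal,
        coe_one', ← diagonal_one]
      congr 1; funext i
      by_cases hi : i = Fin.last k <;> simp [sgn, hi]
    · have h := congrArg (fun x : SLn => (x : Mn) (Fin.castSucc ⟨0, by omega⟩) (Fin.castSucc ⟨0, by omega⟩)) he
      simpa [ht, sgn, Fin.castSucc_ne_last, (show k ≠ 0 by omega)] using h
  have hab : ∀ x ∈ Subgroup.centralizer (E : Set SLn),
      ∀ y ∈ Subgroup.centralizer (E : Set SLn), x * y = y * x := by
    intro x hx y hy
    obtain ⟨-, a, b, ex⟩ := centralizer_range_diag ht h2 hk hx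
    obtain ⟨-, c, d, ey⟩ := centralizer_range_diag ht h2 hk hy
    apply sl_ext
    rw [coe_mul', coe_mul', ex, ey, diagonal_mul_diagonal,
      diagonal_mul_diagonal]
    congr 1; funext i; exact mul_comm _ _
  have hnab : ∀ M : Subgroup SLn, Cfsg.IsQuasisimple M →
      ¬ M ≤ Subgroup.centralizer (E : Set SLn) := fun M hM hle =>
    IsQuasisimple.not_isMulCommutative hM
      ⟨⟨fun a b => Subtype.ext (hab a (hle a.2) b (hle b.2))⟩⟩
  -- elements normalising `E` or `C(E)` fix `t`
  have hfixC : ∀ g ∈ Subgroup.normalizer (Subgroup.centralizer (E : Set SLn) : Set SLn), g ∈ C := by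
    intro g hg
    have h1 : g * t * g⁻¹ = t := by
      refine involution_eq ht h2 (by omega) hk ((Subgroup.mem_normalizer_iff.mp hg t).mp htC) ?_
      rw [show g * t * g⁻¹ = (MulAut.conj g) t from rfl, MulEquiv.orderOf_eq, hto]
    rw [hC, Subgroup.mem_centralizer_singleton_iff]
    exact mul_inv_eq_iff_eq_mul.mp h1
  have hnE : C ≤ Subgroup.normalizer (E : Set SLn) :=
    (Subgroup.normal_subgroupOf_iff_le_normalizer hEC).mp (range_normal ht h2)
  have hN1 : Subgroup.normalizer (E : Set SLn) = C := le_antisymm
    (fun g hg => hfixC g (GlaubermanSylow.normalizer_le_normalizer_centralizer _ hg)) hnE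
  have hN2 : Subgroup.normalizer (Subgroup.centralizer (E : Set SLn) : Set SLn) = C :=
    le_antisymm hfixC (hnE.trans (GlaubermanSylow.normalizer_le_normalizer_centralizer _))
  refine ⟨?_, hqs, ⟨?_, ?_⟩, ?_, hN1.trans hN2.symm⟩
  · -- the layer of `C(t)`
    have hcomp : Cfsg.IsComponent (E.subgroupOf C) :=
      ⟨Subgroup.Normal.isSubnormal (range_normal ht h2),
        IsQuasisimple.of_mulEquiv hqs (Subgroup.subgroupOfEquivOfLe hEC).symm⟩
    refine le_antisymm ?_ fun y hy => ⟨⟨y, hEC hy⟩, IsComponent.le_layer hcomp hy, rfl⟩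
    rw [Subgroup.map_le_iff_le_comap]
    refine layer_le_iff.mpr fun L hL => ?_
    by_contra h
    refine hnab (L.map C.subtype) (IsQuasisimple.of_mulEquiv hL.2
      (L.equivMapOfInjective _ C.subtype_injective)) ?_
    rintro _ ⟨l, hl, rfl⟩
    refine Subgroup.mem_centralizer_iff.mpr fun y hy => ?_
    exact congrArg Subtype.val (Subgroup.mem_centralizer_iff.mp
      (IsComponent.le_centralizer_of_ne hL hcomp (fun e => h (e ▸ le_refl _)) hl)
      (⟨y, hEC hy⟩ : ↥C) hy)
  · rw [even_iff_two_dvd, ← hto]
    exact (Subgroup.centralizer (E : Set SLn)).orderOf_dvd_natCard htC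
  · intro g hg
    rw [← Nat.not_even_iff_odd, even_iff_two_dvd]
    intro hd
    obtain ⟨⟨s, hs1, hs2⟩, hso⟩ := exists_prime_orderOf_dvd_card' 2 hd
    replace hso : orderOf s = 2 := (orderOf_injective (Subgroup.subtype _) (Subgroup.subtype_injective _) _).trans hso
    have e1 := involution_eq ht h2 (by omega) hk hs1 hso
    obtain ⟨r, hr, hrs⟩ := hs2
    have e2 := involution_eq ht h2 (by omega) hk hr (by
      rw [← MulEquiv.orderOf_eq (MulAut.conj g)]
      rw [show (MulAut.conj g) r = s from hrs]; exact hso)
    apply hg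
    rw [hN2, hC, Subgroup.mem_centralizer_singleton_iff]
    have hrs' : g * r * g⁻¹ = s := hrs
    rw [e1, e2] at hrs'
    exact mul_inv_eq_iff_eq_mul.mp hrs'
  · intro g _ hcomm
    refine hnab _ (IsQuasisimple.of_mulEquiv hqs
      (E.equivMapOfInjective (MulAut.conj g).toMonoidHom (MulAut.conj g).injective)) ?_
    rw [Subgroup.commutator_comm] at hcomm
    exact Subgroup.commutator_eq_bot_iff_le_centralizer.mp hcomm

end

end CfsgLib.Components.SLStandard
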