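import Mathlib
import Cfsg.Prelude.Def_Local

/-!
General lemmas on subnormal subgroups, the three-subgroups lemma for perfect subgroups and
transport of properties along isomorphisms, used by the component library.
-/

set_option autoImplicit false

namespace CfsgLib.Components

open Subgroup

variable {G : Type*} [Group G]

/-- Three subgroups lemma for a perfect subgroup: `[[X, L], L] = 1` implies `[X, L] = 1`. -/
theorem commutator_eq_bot_of_perfect {L X : Subgroup G} (hL : Group.IsPerfect L)
    (h : ⁅⁅X, L⁆, L⁆ = ⊥) : ⁅X, L⁆ = ⊥ := by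
  have hLL : ⁅L, L⁆ = L := Subgroup.isPerfect_iff.mp hL
  have h2 : ⁅⁅L, X⁆, L⁆ = ⊥ := by rw [commutator_comm L X]; exact h
  have h3 : ⁅⁅L, L⁆, X⁆ = ⊥ := commutator_commutator_eq_bot_of_rotate h2 h
  rw [hLL] at h3
  rw [commutator_comm]; exact h3

/-- The conjugate of a subnormal subgroup is subnormal. -/
theorem IsSubnormal.mapEquiv {G' : Type*} [Group G'] {H : Subgroup G} (hH : H.IsSubnormal)
    (e : G ≃* G') : (H.map e.toMonoidHom).IsSubnormal :=
  hH.map e.surjective

theorem IsSubnormal.of_normal_le {H K : Subgroup G} (hK : K.IsSubnormal) (hle : H ≤ K)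
    (hn : K ≤ normalizer (H : Set G)) : H.IsSubnormal :=
  Subgroup.IsSubnormal.step H K hle hK ((normal_subgroupOf_iff_le_normalizer hle).mpr hn)

/-- A normal subgroup of a subnormal subgroup, pushed to the ambient group. -/
theorem IsSubnormal.map_subtype_normal {K : Subgroup G} (hK : K.IsSubnormal) {N : Subgroup K}
    (hN : N.Normal) : (N.map K.subtype).IsSubnormal :=
  hN.isSubnormal.trans' hK

theorem subgroupOf_map_subtype_eq {K : Subgroup G} (N : Subgroup K) :
    (N.map K.subtype).subgroupOf K = N :=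
  comap_map_eq_self_of_injective K.subtype_injective N

theorem commutator_le_left_of_le_normalizer {H K : Subgroup G}
    (h : K ≤ normalizer (H : Set G)) : ⁅H, K⁆ ≤ H :=
  le_normalizer_iff_commutator_le_left.mp h

theorem commutator_le_right_of_le_normalizer {H K : Subgroup G}
    (h : H ≤ normalizer (K : Set G)) : ⁅H, K⁆ ≤ K :=
  le_normalizer_iff_commutator_le_right.mp h

theorem map_conj_le_of_le_normalizer {H : Subgroup G} {g : G}
    (h : g ∈ normalizer (H : Set G)) : H.map (MulAut.conj g).toMonoidHom = H := by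
  ext x
  constructor
  · rintro ⟨y, hy, rfl⟩
    exact (mem_normalizer_iff.mp h y).mp hy
  · intro hx
    refine ⟨g⁻¹ * x * g, ?_, ?_⟩
    · have := (mem_normalizer_iff.mp h (g⁻¹ * x * g)).mpr (by simpa [mul_assoc] using hx)
      exact this
    · simp [mul_assoc]

theorem mem_normalizer_iff_map_conj_eq {H : Subgroup G} {g : G} :
    g ∈ normalizer (H : Set G) ↔ H.map (MulAut.conj g).toMonoidHom = H := by
  refine ⟨map_conj_le_of_le_normalizer, fun h => mem_normalizer_iff.mpr fun x => ?_⟩
  constructor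
  · intro hx
    rw [← h]
    exact ⟨x, hx, rfl⟩
  · intro hx
    rw [← h] at hx
    obtain ⟨y, hy, hyx⟩ := hx
    have : y = x := by simpa using hyx
    exact this ▸ hy

theorem isMulCommutative_iff_of_mulEquiv {A B : Type*} [Group A] [Group B] (e : A ≃* B) :
    IsMulCommutative A ↔ IsMulCommutative B := by
  constructor <;> intro h
  · exact ⟨⟨fun a b => e.symm.injective (by simp [h.is_comm.comm (e.symm a)])⟩⟩
  · exact ⟨⟨fun a b => e.injective (by simp [h.is_comm.comm (e a)])⟩⟩

open scoped commutatorElement in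
theorem commutatorElement_mul_center {a b z w : G} (hz : z ∈ center G) (hw : w ∈ center G) :
    ⁅a * z, b * w⁆ = ⁅a, b⁆ := by
  have hz' : ∀ g : G, g * z = z * g := mem_center_iff.mp hz
  have hw' : ∀ g : G, g * w = w * g := mem_center_iff.mp hw
  simp only [commutatorElement_def, mul_inv_rev]
  calc a * z * (b * w) * (z⁻¹ * a⁻¹) * (w⁻¹ * b⁻¹)
      = a * (z * b) * w * z⁻¹ * a⁻¹ * w⁻¹ * b⁻¹ := by group
    _ = a * (b * z) * w * z⁻¹ * a⁻¹ * w⁻¹ * b⁻¹ := by rw [hz' b]
    _ = a * b * (z * w) * z⁻¹ * a⁻¹ * w⁻¹ * b⁻¹ := by group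
    _ = a * b * (w * z) * z⁻¹ * a⁻¹ * w⁻¹ * b⁻¹ := by rw [hw' z]
    _ = a * b * (w * a⁻¹) * w⁻¹ * b⁻¹ := by group
    _ = a * b * (a⁻¹ * w) * w⁻¹ * b⁻¹ := by rw [hw' a⁻¹]
    _ = a * b * a⁻¹ * b⁻¹ := by group

/-- A central factor does not change the commutator subgroup. -/
theorem commutator_sup_center (A : Subgroup G) :
    ⁅A ⊔ center G, A ⊔ center G⁆ = ⁅A, A⁆ := by
  refine le_antisymm (commutator_le.mpr fun x hx y hy => ?_)
    (commutator_mono le_sup_left le_sup_left)
  obtain ⟨a, ha, z, hz, rfl⟩ := mem_sup_of_normal_right.mp hx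
  obtain ⟨b, hb, w, hw, rfl⟩ := mem_sup_of_normal_right.mp hy
  rw [commutatorElement_mul_center hz hw]
  exact commutator_mem_commutator ha hb

/-- A perfect group generated by a subgroup and the centre is that subgroup. -/
theorem eq_top_of_sup_center_of_perfect [hP : Group.IsPerfect G] {A : Subgroup G}
    (h : A ⊔ center G = ⊤) : A = ⊤ := by
  rw [← top_le_iff, ← hP.commutator_eq_top, _root_.commutator_def, ← h, commutator_sup_center]
  exact Subgroup.commutator_le_self A

end CfsgLib.Components
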