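import Cfsg.Prelude.Def_Local
import Cfsg.Agent.Lib.Coprime.Sylow
import Cfsg.Agent.Lib.Involution.Basic
import Cfsg.Agent.Lib.Components.Subnormal

/-!
A 2-subgroup of a tightly embedded subgroup normalising a conjugate of it.
-/

set_option autoImplicit false
set_option linter.style.haveILetI false
set_option linter.unusedSectionVars false

namespace CfsgLib.Components.TightSylow

open Subgroup CfsgLib.Coprime
open scoped commutatorElement Pointwise

variable {G : Type*} [Group G] [Finite G]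

/-- `K` is a TI set for the involutions. -/
def IsTI (K : Subgroup G) : Prop :=
  ∀ t x : G, orderOf t = 2 → t ∈ K → x * t * x⁻¹ ∈ K → x ∈ normalizer (K : Set G)

theorem isTI_of_tight {K : Subgroup G} (hK : Cfsg.IsTightlyEmbedded K) : IsTI K := by
  intro t x ht htK hxt
  by_contra hx
  refine Nat.not_even_iff_odd.mpr (hK.2 x hx)
    (CfsgLib.Involution.Basic.even_of_involution_mem _ (t := x * t * x⁻¹) ⟨hxt, t, htK, rfl⟩ ?_)
  rw [show x * t * x⁻¹ = (MulAut.conj x) t from rfl, MulEquiv.orderOf_eq]; exact ht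

theorem IsTI.map {K : Subgroup G} (hK : IsTI K) (g : G) : IsTI (K.map (MulAut.conj g).toMonoidHom) := by
  intro t x ht htK hxt
  obtain ⟨s, hs, rfl⟩ := htK
  obtain ⟨s', hs', he⟩ := hxt
  have h1 : (g⁻¹ * x * g) * s * (g⁻¹ * x * g)⁻¹ = s' := by
    have he' : g * s' * g⁻¹ = x * (g * s * g⁻¹) * x⁻¹ := he
    calc (g⁻¹ * x * g) * s * (g⁻¹ * x * g)⁻¹ = g⁻¹ * (x * (g * s * g⁻¹) * x⁻¹) * g := by group
      _ = s' := by rw [← he']; group
  have h2 := hK s (g⁻¹ * x * g) (by rw [← ht]; exact (MulEquiv.orderOf_eq (MulAut.conj g) s).symm) hs (h1 ▸ hs')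
  have h3 : MulAut.conj g (g⁻¹ * x * g) ∈
      (normalizer (K : Set G)).map (MulAut.conj g).toMonoidHom := ⟨_, h2, rfl⟩
  have h4 := le_normalizer_map (MulAut.conj g).toMonoidHom h3
  simpa [mul_assoc] using h4

theorem exists_involution {H : Subgroup G} (hH : IsPGroup 2 H) (hne : H ≠ ⊥) :
    ∃ t ∈ H, orderOf t = 2 := by
  obtain ⟨n, hn⟩ := IsPGroup.iff_card.mp hH
  refine CfsgLib.Involution.Basic.exists_involution_of_even H ?_ |>.imp fun t h => h
  rw [hn]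
  refine Nat.even_pow.mpr ⟨even_two, fun h => hne (eq_bot_of_card_eq _ ?_)⟩
  rw [hn, h, pow_zero]

theorem eq_bot_of_two {H K W : Subgroup G} (hH : IsPGroup 2 H) (hodd : Odd (Nat.card ↥(K ⊓ W)))
    (h : H ≤ K ⊓ W) : H = ⊥ := by
  by_contra hne
  obtain ⟨t, ht, ht2⟩ := exists_involution hH hne
  exact Nat.not_even_iff_odd.mpr hodd (CfsgLib.Involution.Basic.even_of_involution_mem _ (h ht) ht2)

/-- `N_S(T) = T × (N_S(T) ∩ Q)`. -/
theorem normalizer_inf_eq {Q W T S : Subgroup G} (hodd : Odd (Nat.card ↥(Q ⊓ W))) (hT : IsPGroup 2 T)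
    (hTW : T ≤ W) (hTQ : T ≤ normalizer (Q : Set G)) (hTS : T ≤ S) (hS : S ≤ Q ⊔ T) :
    T ⊓ Q = ⊥ ∧ T ⊔ (S ⊓ normalizer (T : Set G) ⊓ Q) = S ⊓ normalizer (T : Set G) ∧
      ⁅T, S ⊓ normalizer (T : Set G) ⊓ Q⁆ = ⊥ := by
  have h1 : T ⊓ Q = ⊥ := eq_bot_of_two (hT.to_le inf_le_left) hodd
    (le_inf inf_le_right (inf_le_left.trans hTW))
  refine ⟨h1, le_antisymm (sup_le (le_inf hTS Subgroup.le_normalizer) inf_le_left) ?_, ?_⟩
  · intro s hs
    have hs' : s ∈ ((Q : Set G) * (T : Set G) : Set G) := by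
      rw [← coe_mul_of_right_le_normalizer_left Q T hTQ]; exact hS hs.1
    obtain ⟨q, hq, t, ht, rfl⟩ := hs'
    have hq' : q ∈ S ⊓ normalizer (T : Set G) := by
      have := (S ⊓ normalizer (T : Set G)).mul_mem hs
        ((S ⊓ normalizer (T : Set G)).inv_mem (⟨hTS ht, Subgroup.le_normalizer ht⟩ : t ∈ S ⊓ normalizer (T : Set G)))
      simpa using this
    exact mul_mem (mem_sup_right ⟨hq', hq⟩) (mem_sup_left ht)
  · rw [eq_bot_iff, ← h1]
    exact le_inf (commutator_le_left_of_le_normalizer (inf_le_left.trans inf_le_right))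
      ((commutator_mono le_rfl inf_le_right).trans (commutator_le_right_of_le_normalizer hTQ))

/-- `T` embeds in `N_S(T) ∩ Q`. -/
theorem embed {Q W T S R : Subgroup G} (hW : IsTI W) (hodd : Odd (Nat.card ↥(Q ⊓ W)))
    (hT : IsPGroup 2 T) (hTW : T ≤ W) (hTQ : T ≤ normalizer (Q : Set G)) (hTS : T ≤ S)
    (hS : S ≤ Q ⊔ T) (hSp : IsPGroup 2 S) (hSyl : ¬ 2 ∣ S.relIndex (Q ⊔ T))
    (hR : R = S ⊓ normalizer (T : Set G) ⊓ Q) (hWQ : ∃ h : G, W = Q.map (MulAut.conj h).toMonoidHom) :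
    ∃ f : T →* R, Function.Injective f := by
  obtain ⟨hTQ1, hU, hc⟩ := normalizer_inf_eq hodd hT hTW hTQ hTS hS
  rw [← hR] at hU hc
  set U := S ⊓ normalizer (T : Set G) with hUd
  have hRQ : R ≤ Q := hR ▸ inf_le_right
  have hRU : R ≤ U := hR ▸ inf_le_left
  have hcR : R ≤ centralizer (T : Set G) :=
    le_centralizer_iff.mp (commutator_eq_bot_iff_le_centralizer.mp hc)
  have hdec : ∀ u ∈ U, ∃ r ∈ R, ∃ t ∈ T, r * t = u := by
    intro u hu
    rw [← hU, sup_comm, ← SetLike.mem_coe,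
      coe_mul_of_right_le_normalizer_left R T ((le_centralizer_iff.mp hcR).trans (centralizer_le_normalizer _))] at hu
    exact hu
  have huniq : ∀ r ∈ R, ∀ t ∈ T, ∀ r' ∈ R, ∀ t' ∈ T, r * t = r' * t' → r = r' := by
    intro r hr t ht r' hr' t' ht' e
    have h1 : r'⁻¹ * r ∈ T ⊓ Q := by
      refine ⟨?_, Q.mul_mem (Q.inv_mem (hRQ hr')) (hRQ hr)⟩
      have : r'⁻¹ * r = t' * t⁻¹ := by
        calc r'⁻¹ * r = r'⁻¹ * (r * t) * t⁻¹ := by group
          _ = t' * t⁻¹ := by rw [e]; group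
      rw [this]; exact T.mul_mem ht' (T.inv_mem ht)
    rw [hTQ1, mem_bot, inv_mul_eq_one] at h1
    exact h1.symm
  rcases (inf_le_left : U ≤ S).eq_or_lt with he | hlt
  · -- `S ∩ Q = R` is a Sylow subgroup of `Q`
    have hSQ : S ⊓ Q = R := by rw [hR, hUd, he]
    obtain ⟨h, rfl⟩ := hWQ
    set X := Q ⊔ T
    have hQn : (Q.subgroupOf X).Normal := (normal_subgroupOf_iff_le_normalizer le_sup_left).mpr
      (sup_le Subgroup.le_normalizer hTQ)
    haveI : Fact (Nat.Prime 2) := ⟨Nat.prime_two⟩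
    let P : Sylow 2 X := (hSp.comap_of_injective X.subtype X.subtype_injective).toSylow
      (by exact hSyl)
    have hcard : Nat.card R = 2 ^ (Nat.card Q).factorization 2 := by
      have h1 := card_sylow_inf_normal P (Q.subgroupOf X)
      rw [show (P : Subgroup X) ⊓ Q.subgroupOf X = (S ⊓ Q).subgroupOf X from rfl, hSQ,
        Nat.card_congr (subgroupOfEquivOfLe (hRQ.trans le_sup_left)).toEquiv,
        Nat.card_congr (subgroupOfEquivOfLe (le_sup_left : Q ≤ X)).toEquiv] at h1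
      exact h1
    obtain ⟨P₀, hP₀⟩ := exists_sylow_map_eq hRQ hcard
    have hT' : T.map (MulAut.conj h⁻¹).toMonoidHom ≤ Q := by
      rintro _ ⟨t, ht, rfl⟩
      obtain ⟨q, hq, e⟩ := hTW ht
      rw [← e]
      simpa [mul_assoc] using hq
    obtain ⟨P₁, hP₁⟩ := ((hT.map (MulAut.conj h⁻¹).toMonoidHom).comap_of_injective Q.subtype
      Q.subtype_injective).exists_le_sylow
    obtain ⟨c, hcP⟩ := MulAction.exists_smul_eq Q P₁ P₀
    have hle : (T.map (MulAut.conj h⁻¹).toMonoidHom).map (MulAut.conj (c : G)).toMonoidHom ≤ R := by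
      rw [← hP₀, ← hcP, map_smul_sylow]
      exact Subgroup.map_mono fun x hx => ⟨⟨x, hT' hx⟩, hP₁ hx, rfl⟩
    let φ := ((MulAut.conj (c : G)).toMonoidHom.comp (MulAut.conj h⁻¹).toMonoidHom).comp T.subtype
    have hmem : ∀ t : T, φ t ∈ R := fun t => hle ⟨_, ⟨t, t.2, rfl⟩, rfl⟩
    refine ⟨φ.codRestrict R hmem, fun a b e => Subtype.ext ?_⟩
    exact (MulAut.conj h⁻¹).injective ((MulAut.conj (c : G)).injective (congrArg Subtype.val e))
  · obtain ⟨x, ⟨hxS, hxU⟩, hxn⟩ := SetLike.exists_of_lt (lt_normalizer_inf_of_lt hSp hlt)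
    have hxt : ∀ t : T, x * t * x⁻¹ ∈ U := fun t =>
      (mem_normalizer_iff.mp hxU t).mp ⟨hTS t.2, Subgroup.le_normalizer t.2⟩
    choose f hf g hg e using fun t : T => hdec _ (hxt t)
    let φ : T →* R := MonoidHom.mk' (fun t => ⟨f t, hf t⟩) fun a b => Subtype.ext (by
      refine huniq _ (hf _) _ (hg (a * b)) _ (R.mul_mem (hf a) (hf b)) _ (T.mul_mem (hg a) (hg b)) ?_
      have hcomm : g a * f b = f b * g a := mem_centralizer_iff.mp (hcR (hf b)) _ (hg a)
      calc f (a * b) * g (a * b) = x * (a : G) * (b : G) * x⁻¹ := by rw [e]; push_cast; group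
        _ = (x * a * x⁻¹) * (x * b * x⁻¹) := by group
        _ = f a * (g a * f b) * g b := by rw [← e a, ← e b]; group
        _ = f a * f b * (g a * g b) := by rw [hcomm]; group)
    refine ⟨φ, (injective_iff_map_eq_one φ).mpr fun t ht => ?_⟩
    have hft : f t = 1 := congrArg Subtype.val ht
    by_contra hne
    -- an involution in `⟨t⟩`
    obtain ⟨i, hi, hi2⟩ := exists_involution (hT.to_le (zpowers_le.mpr t.2))
      (fun h => hne (Subtype.ext (zpowers_eq_bot.mp h)))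
    have hiT : i ∈ T := zpowers_le.mpr t.2 hi
    have hxi : x * i * x⁻¹ ∈ T := by
      have h1 : zpowers (x * (t : G) * x⁻¹) ≤ T := zpowers_le.mpr (by rw [← e t, hft, one_mul]; exact hg t)
      refine h1 ?_
      obtain ⟨k, rfl⟩ := mem_zpowers_iff.mp hi
      exact ⟨k, (conj_zpow)⟩
    have hxW := hW i x hi2 (hTW hiT) (hTW hxi)
    refine hxn ⟨hxS, ?_⟩
    refine Coprime.mem_normalizer_of_conj_map_le fun y hy => ?_
    have h2 : x * y * x⁻¹ ∈ W := (mem_normalizer_iff.mp hxW y).mp (hTW hy)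
    have h3 : x * y * x⁻¹ ∈ U := hxt ⟨y, hy⟩
    obtain ⟨r, hr, s, hs, er⟩ := hdec _ h3
    have hr1 : r = 1 := by
      have h4 : r ∈ W := by
        have : r = (x * y * x⁻¹) * s⁻¹ := by rw [← er]; group
        rw [this]; exact W.mul_mem h2 (W.inv_mem (hTW hs))
      have h5 : zpowers r = ⊥ := eq_bot_of_two (hSp.to_le (zpowers_le.mpr (hRU hr).1)) hodd
        (zpowers_le.mpr ⟨hRQ hr, h4⟩)
      exact zpowers_eq_bot.mp h5
    rw [← er, hr1, one_mul]; exact hs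

/-- The Sylow 2-subgroup of `Q^g ∩ N(Q)` is isomorphic to `N_S(T) ∩ Q`. -/
theorem main {Q T S : Subgroup G} {g : G} (hQ : Cfsg.IsTightlyEmbedded Q) (hg : g ∉ normalizer (Q : Set G))
    (hT1 : T ≠ ⊥) (hTW : T ≤ Q.map (MulAut.conj g).toMonoidHom) (hTQ : T ≤ normalizer (Q : Set G))
    (hT : IsPGroup 2 T)
    (hTsyl : ¬ 2 ∣ T.relIndex (Q.map (MulAut.conj g).toMonoidHom ⊓ normalizer (Q : Set G)))
    (hTS : T ≤ S) (hS : S ≤ Q ⊔ T) (hSp : IsPGroup 2 S) (hSyl : ¬ 2 ∣ S.relIndex (Q ⊔ T)) :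
    T ⊓ Q = ⊥ ∧ T ⊓ (S ⊓ normalizer (T : Set G) ⊓ Q) = ⊥ ∧
      ⁅T, S ⊓ normalizer (T : Set G) ⊓ Q⁆ = ⊥ ∧
      T ⊔ (S ⊓ normalizer (T : Set G) ⊓ Q) = S ⊓ normalizer (T : Set G) ∧
      Nonempty (↥(S ⊓ normalizer (T : Set G) ⊓ Q) ≃* T) := by
  haveI : Fact (Nat.Prime 2) := ⟨Nat.prime_two⟩
  set W := Q.map (MulAut.conj g).toMonoidHom with hW
  have hodd : Odd (Nat.card ↥(Q ⊓ W)) := hQ.2 g hg
  have tQ := isTI_of_tight hQ
  have tW : IsTI W := tQ.map g
  obtain ⟨h1, h2, h3⟩ := normalizer_inf_eq hodd hT hTW hTQ hTS hS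
  refine ⟨h1, le_bot_iff.mp ((inf_le_inf_left T inf_le_right).trans h1.le), h3, h2, ?_⟩
  set R := S ⊓ normalizer (T : Set G) ⊓ Q with hR
  have hRp : IsPGroup 2 R := hSp.to_le (inf_le_left.trans inf_le_left)
  obtain ⟨i, hi, hi2⟩ := exists_involution hT hT1
  have hcRT : R ≤ centralizer (T : Set G) :=
    le_centralizer_iff.mp (commutator_eq_bot_iff_le_centralizer.mp h3)
  have hRW : R ≤ normalizer (W : Set G) := fun r hr => by
    refine tW i r hi2 (hTW hi) ?_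
    rw [(mem_centralizer_iff.mp (hcRT hr) i hi).symm, mul_inv_cancel_right]
    exact hTW hi
  -- `R` is not trivial
  have hR1 : R ≠ ⊥ := by
    intro hb
    rw [hb, sup_bot_eq] at h2
    have hTS' : T = S := by
      by_contra hne
      exact (lt_normalizer_inf_of_lt hSp (lt_of_le_of_ne hTS hne)).ne h2
    obtain ⟨t, htQ, ht2⟩ := CfsgLib.Involution.Basic.exists_involution_of_even Q hQ.1
    -- a conjugate of `t` in `S`
    let P : Sylow 2 ↥(Q ⊔ T) := (hSp.comap_of_injective (Q ⊔ T).subtype (Q ⊔ T).subtype_injective).toSylow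
      (by exact hSyl)
    obtain ⟨c, hc⟩ := CfsgLib.Involution.Basic.exists_conj_mem P (x := (⟨t, mem_sup_left htQ⟩ : ↥(Q ⊔ T)))
      ((Subgroup.orderOf_mk _ _).trans ht2)
    have hcQ : (c : G) * t * (c : G)⁻¹ ∈ Q := (mem_normalizer_iff.mp
      ((sup_le Subgroup.le_normalizer hTQ) c.2) t).mp htQ
    have hcT : (c : G) * t * (c : G)⁻¹ ∈ T := hTS' ▸ (show (c : G) * t * (c : G)⁻¹ ∈ S from hc)
    have h0 : (c : G) * t * (c : G)⁻¹ ∈ T ⊓ Q := ⟨hcT, hcQ⟩
    rw [h1, mem_bot] at h0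
    have ht1 : t = 1 := by
      calc t = (c : G)⁻¹ * ((c : G) * t * (c : G)⁻¹) * c := by group
        _ = 1 := by rw [h0]; group
    rw [ht1, orderOf_one] at ht2; omega
  obtain ⟨f, hf⟩ := embed tW hodd hT hTW hTQ hTS hS hSp hSyl rfl ⟨g, rfl⟩
  -- the symmetric situation
  have hTR : T ⊔ R ≤ W ⊔ R := sup_le_sup_right hTW R
  obtain ⟨P, hP⟩ := (((hSp.to_le (sup_le hTS (inf_le_left.trans inf_le_left)) : IsPGroup 2 ↥(T ⊔ R))).comap_of_injective
    (W ⊔ R).subtype (W ⊔ R).subtype_injective).exists_le_sylow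
  set S' := (P : Subgroup ↥(W ⊔ R)).map (W ⊔ R).subtype with hS'
  have hUS' : T ⊔ R ≤ S' := fun x hx => ⟨⟨x, hTR hx⟩, hP hx, rfl⟩
  have hS'syl : ¬ 2 ∣ S'.relIndex (W ⊔ R) := by
    rw [Subgroup.relIndex, hS', subgroupOf, comap_map_eq_self_of_injective (W ⊔ R).subtype_injective]
    exact P.not_dvd_index
  have hTeq : T = S' ⊓ normalizer (R : Set G) ⊓ W := by
    obtain ⟨r, hr, hr2⟩ := exists_involution hRp hR1
    have hVle : S' ⊓ normalizer (R : Set G) ⊓ W ≤ W ⊓ normalizer (Q : Set G) := fun x hx => by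
      refine ⟨hx.2, tQ r x hr2 hr.2 ?_⟩
      exact ((mem_normalizer_iff.mp hx.1.2 r).mp hr).2
    have hTV : T ≤ S' ⊓ normalizer (R : Set G) ⊓ W := le_inf (le_inf (le_sup_left.trans hUS')
      ((le_centralizer_iff.mp hcRT).trans (centralizer_le_normalizer _))) hTW
    refine le_antisymm hTV ?_
    have hd : T.relIndex (S' ⊓ normalizer (R : Set G) ⊓ W) ∣
        T.relIndex (W ⊓ normalizer (Q : Set G)) := Dvd.intro _ (Subgroup.relIndex_mul_relIndex _ _ _ hTV hVle)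
    obtain ⟨n, hn⟩ := IsPGroup.iff_card.mp
      ((P.isPGroup'.map _).to_le (inf_le_left.trans inf_le_left : S' ⊓ normalizer (R : Set G) ⊓ W ≤ S'))
    obtain ⟨j, -, hj⟩ := (Nat.dvd_prime_pow Nat.prime_two).mp (hn ▸ Subgroup.index_dvd_card _ :
      T.relIndex (S' ⊓ normalizer (R : Set G) ⊓ W) ∣ 2 ^ n)
    rcases Nat.eq_zero_or_pos j with rfl | hj0
    · exact Subgroup.relIndex_eq_one.mp (by simpa using hj)
    · exact absurd (((hj ▸ dvd_pow_self 2 hj0.ne' : 2 ∣ T.relIndex _)).trans hd) hTsyl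
  obtain ⟨f', hf'⟩ := embed (Q := W) (W := Q) (T := R) (S := S') (R := T) tQ (by rwa [inf_comm]) hRp
    inf_le_right hRW (le_sup_right.trans hUS') (map_subtype_le _) (P.isPGroup'.map _) hS'syl hTeq
    ⟨g⁻¹, by
      rw [hW, conj_map_map, inv_mul_cancel]
      ext x; simp⟩
  have hle := Nat.card_le_card_of_injective f hf
  have hle' := Nat.card_le_card_of_injective f' hf'
  exact ⟨MulEquiv.ofBijective f' ((Nat.bijective_iff_injective_and_card f').mpr ⟨hf', le_antisymm hle' hle⟩)⟩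

end CfsgLib.Components.TightSylow
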